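import Mathlib.Algebra.Homology.DerivedCategory.Plus
import Mathlib.Algebra.Homology.DerivedCategory.KInjective
import Mathlib.Algebra.Homology.DerivedCategory.ExactFunctor
import Mathlib.Algebra.Homology.DerivedCategory.DerivabilityStructureInjectives
import Mathlib.CategoryTheory.Adjunction.Additive
import Groth.Agent.SiteBase.KInjAdj

/-!
# Full faithfulness of a derived inverse image, through resolutions
-/

universe v v' u u'

set_option autoImplicit false
set_option linter.unusedVariables false
set_option backward.isDefEq.respectTransparency false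

open CategoryTheory CategoryTheory.Limits DerivedCategory

attribute [local instance] HasDerivedCategory.standard

namespace Groth.Agent.CohDesc82

noncomputable section

variable {A : Type u} [Category.{v} A] [Abelian A]

/-- Maps to a K-injective complex in the derived category. -/
theorem Q_map_surjective (K I : CochainComplex A ℤ) [I.IsKInjective] :
    Function.Surjective (Q.map : (K ⟶ I) → _) := fun θ => by
  obtain ⟨g, hg⟩ := (CochainComplex.IsKInjective.Qh_map_bijective
      ((HomotopyCategory.quotient _ _).obj K) I).2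
    ((quotientCompQhIso A).hom.app K ≫ θ ≫ (quotientCompQhIso A).inv.app I)
  obtain ⟨f, rfl⟩ := (HomotopyCategory.quotient _ _).map_surjective g
  refine ⟨f, ?_⟩
  have e := (quotientCompQhIso A).hom.naturality f
  simp only [Functor.comp_map] at e
  rw [hg, Category.assoc, Category.assoc, Iso.inv_hom_id_app] at e
  exact ((cancel_epi ((quotientCompQhIso A).hom.app K)).1 ((Eq.trans (by simp) e))).symm

theorem homotopic_of_Q_map_eq {K I : CochainComplex A ℤ} [I.IsKInjective] {f g : K ⟶ I}
    (h : Q.map f = Q.map g) : Nonempty (Homotopy f g) := by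
  refine ⟨HomotopyCategory.homotopyOfEq _ _ ((CochainComplex.IsKInjective.Qh_map_bijective _ I).1 ?_)⟩
  have ef := (quotientCompQhIso A).hom.naturality f
  have eg := (quotientCompQhIso A).hom.naturality g
  rw [h, ← eg] at ef
  exact (cancel_mono ((quotientCompQhIso A).hom.app I)).1 ef

theorem Q_map_eq_of_homotopy {K L : CochainComplex A ℤ} {f g : K ⟶ L} (h : Homotopy f g) :
    Q.map f = Q.map g := by
  have ef := (quotientCompQhIso A).hom.naturality f
  have eg := (quotientCompQhIso A).hom.naturality g
  simp only [Functor.comp_map] at ef eg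
  rw [HomotopyCategory.eq_of_homotopy f g h, eg] at ef
  exact ((cancel_epi _).1 ef).symm

variable {B : Type u'} [Category.{v'} B] [Abelian B] {L : A ⥤ B} {R : B ⥤ A} (adj : L ⊣ R) [L.Additive]
  [R.Additive]

/-- The adjunct of a map of complexes. -/
def adjunct {K : CochainComplex A ℤ} {J : CochainComplex B ℤ}
    (g : (L.mapHomologicalComplex _).obj K ⟶ J) : K ⟶ (R.mapHomologicalComplex _).obj J where
  f n := adj.homEquiv _ _ (g.f n)
  comm' i j _ := by
    show adj.homEquiv _ _ (g.f i) ≫ R.map (J.d i j) = K.d i j ≫ adj.homEquiv _ _ (g.f j)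
    rw [← adj.homEquiv_naturality_right, ← adj.homEquiv_naturality_left]
    exact congrArg _ (g.comm i j)

/-- The adjunct in the other direction. -/
def coadjunct {K : CochainComplex A ℤ} {J : CochainComplex B ℤ}
    (g : K ⟶ (R.mapHomologicalComplex _).obj J) : (L.mapHomologicalComplex _).obj K ⟶ J where
  f n := (adj.homEquiv _ _).symm (g.f n)
  comm' i j _ := by
    show (adj.homEquiv _ _).symm (g.f i) ≫ J.d i j = L.map (K.d i j) ≫ (adj.homEquiv _ _).symm (g.f j)
    rw [← adj.homEquiv_naturality_right_symm, ← adj.homEquiv_naturality_left_symm]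
    exact congrArg _ (g.comm i j)

theorem coadjunct_adjunct {K : CochainComplex A ℤ} {J : CochainComplex B ℤ}
    (g : (L.mapHomologicalComplex _).obj K ⟶ J) : coadjunct adj (adjunct adj g) = g :=
  HomologicalComplex.hom_ext _ _ fun n => (adj.homEquiv _ _).symm_apply_apply (g.f n)

theorem adjunct_coadjunct {K : CochainComplex A ℤ} {J : CochainComplex B ℤ}
    (g : K ⟶ (R.mapHomologicalComplex _).obj J) : adjunct adj (coadjunct adj g) = g :=
  HomologicalComplex.hom_ext _ _ fun n => (adj.homEquiv _ _).apply_symm_apply (g.f n)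

theorem adjunct_comp {K K' : CochainComplex A ℤ} {J : CochainComplex B ℤ} (f : K' ⟶ K)
    (g : (L.mapHomologicalComplex _).obj K ⟶ J) :
    adjunct adj ((L.mapHomologicalComplex _).map f ≫ g) = f ≫ adjunct adj g :=
  HomologicalComplex.hom_ext _ _ fun n => adj.homEquiv_naturality_left (f.f n) (g.f n)

theorem coadjunct_comp {K K' : CochainComplex A ℤ} {J : CochainComplex B ℤ} (f : K' ⟶ K)
    (g : K ⟶ (R.mapHomologicalComplex _).obj J) :
    coadjunct adj (f ≫ g) = (L.mapHomologicalComplex _).map f ≫ coadjunct adj g :=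
  HomologicalComplex.hom_ext _ _ fun n => adj.homEquiv_naturality_left_symm (f.f n) (g.f n)

/-- Adjuncts of homotopic maps. -/
def adjunctHomotopy {K : CochainComplex A ℤ} {J : CochainComplex B ℤ}
    {g g' : (L.mapHomologicalComplex _).obj K ⟶ J} (h : Homotopy g g') :
    Homotopy (adjunct adj g) (adjunct adj g') :=
  (Homotopy.ofEq (HomologicalComplex.hom_ext _ _ fun n => adj.homEquiv_unit ..)).trans
    (((R.mapHomotopy h).compLeft
      ({ f := fun n => adj.unit.app (K.X n), comm' := fun i j _ => (adj.unit.naturality (K.d i j)).symm } :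
        K ⟶ (R.mapHomologicalComplex _).obj ((L.mapHomologicalComplex _).obj K))).trans
      (Homotopy.ofEq (HomologicalComplex.hom_ext _ _ fun n => (adj.homEquiv_unit ..).symm)))

variable [PreservesFiniteLimits L] [PreservesFiniteColimits L]

theorem Q_map_comp_iff {K : CochainComplex A ℤ} {I : CochainComplex A ℤ} (f f' : K ⟶ I) :
    L.mapDerivedCategory.map (Q.map f) = L.mapDerivedCategory.map (Q.map f') ↔
      Q.map ((L.mapHomologicalComplex _).map f) = Q.map ((L.mapHomologicalComplex _).map f') := by
  rw [← cancel_mono (L.mapDerivedCategoryFactors.hom.app I), L.mapDerivedCategoryFactors_hom_naturality,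
    L.mapDerivedCategoryFactors_hom_naturality, cancel_epi]

variable [EnoughInjectives A] [EnoughInjectives B]

omit [EnoughInjectives B] in
/-- The criterion for full faithfulness. -/
theorem bijective_of_adjunct
    (h : ∀ (I : CochainComplex A ℤ) (a : ℤ) [I.IsStrictlyGE a] [∀ n, Injective (I.X n)],
      ∃ (J : CochainComplex B ℤ) (j : (L.mapHomologicalComplex _).obj I ⟶ J),
        J.IsStrictlyGE a ∧ (∀ n, Injective (J.X n)) ∧ QuasiIso j ∧ QuasiIso (adjunct adj j))
    (X Y : DerivedCategory.Plus A) :
    Function.Bijective fun g : X.obj ⟶ Y.obj => L.mapDerivedCategory.map g := by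
  obtain ⟨a, ha⟩ := X.2
  obtain ⟨b, hb⟩ := Y.2
  obtain ⟨K, _, ⟨eX⟩⟩ := exists_iso_Q_obj_of_isGE X.obj a
  obtain ⟨K', _, ⟨eY'⟩⟩ := exists_iso_Q_obj_of_isGE Y.obj b
  obtain ⟨I, i, hi, hI, hIb⟩ := CochainComplex.Plus.modelCategoryQuillen.exists_quasiIso_injective K' b
  let eY : Y.obj ≅ Q.obj I := eY' ≪≫ asIso (Q.map i)
  suffices hs : Function.Bijective fun g : Q.obj K ⟶ Q.obj I => L.mapDerivedCategory.map g by
    refine ⟨fun g g' hg => ?_, fun θ => ?_⟩
    · have := hs.1 (a₁ := eX.inv ≫ g ≫ eY.hom) (a₂ := eX.inv ≫ g' ≫ eY.hom)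
        (by simp only [Functor.map_comp]; rw [show L.mapDerivedCategory.map g = L.mapDerivedCategory.map g' from hg])
      simpa using this
    · obtain ⟨g, hg⟩ := hs.2 (L.mapDerivedCategory.map eX.inv ≫ θ ≫ L.mapDerivedCategory.map eY.hom)
      refine ⟨eX.hom ≫ g ≫ eY.inv, ?_⟩
      show L.mapDerivedCategory.map _ = θ
      simp only [Functor.map_comp]
      rw [show L.mapDerivedCategory.map g = _ from hg]
      simp [← Functor.map_comp_assoc, ← Functor.map_comp]
  obtain ⟨J, j, hJb, hJ, hj, hη⟩ := h I b
  have : I.IsKInjective := CochainComplex.isKInjective_of_injective I b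
  have : J.IsKInjective := CochainComplex.isKInjective_of_injective J b
  have : CochainComplex.IsKInjective ((R.mapHomologicalComplex (ComplexShape.up ℤ)).obj J) :=
    SiteBase.isKInjective_map adj J
  have hφ := L.mapDerivedCategoryFactors.hom
  constructor
  · intro θ θ' hθ
    obtain ⟨f, rfl⟩ := Q_map_surjective K I θ
    obtain ⟨f', rfl⟩ := Q_map_surjective K I θ'
    have h1 := (Q_map_comp_iff (L := L) f f').1 hθ
    obtain ⟨H⟩ := homotopic_of_Q_map_eq (f := (L.mapHomologicalComplex _).map f ≫ j)
      (g := (L.mapHomologicalComplex _).map f' ≫ j) (by rw [Functor.map_comp, Functor.map_comp, h1])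
    have h2 := Q_map_eq_of_homotopy (adjunctHomotopy adj H)
    rw [adjunct_comp, adjunct_comp, Functor.map_comp, Functor.map_comp, cancel_mono] at h2
    exact h2
  · intro θ
    obtain ⟨t, ht⟩ := Q_map_surjective _ J ((L.mapDerivedCategoryFactors.inv.app K) ≫ θ ≫
      L.mapDerivedCategoryFactors.hom.app I ≫ Q.map j)
    obtain ⟨f, hf⟩ := Q_map_surjective K I (Q.map (adjunct adj t) ≫ inv (Q.map (adjunct adj j)))
    refine ⟨Q.map f, ?_⟩
    have h3 : Q.map (f ≫ adjunct adj j) = Q.map (adjunct adj t) := by
      rw [Functor.map_comp, hf, Category.assoc, IsIso.inv_hom_id, Category.comp_id]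
    obtain ⟨H⟩ := homotopic_of_Q_map_eq h3
    have h4 : coadjunct adj (f ≫ adjunct adj j) = (L.mapHomologicalComplex _).map f ≫ j := by
      rw [coadjunct_comp, coadjunct_adjunct]
    have h5 : Nonempty (Homotopy ((L.mapHomologicalComplex _).map f ≫ j) t) :=
      ⟨((Homotopy.ofEq (by rw [← h4]; exact HomologicalComplex.hom_ext _ _ fun n => (adj.homEquiv_counit ..))).trans
        (((L.mapHomotopy H).compRight
          ({ f := fun n => adj.counit.app (J.X n),
             comm' := fun i j _ => (adj.counit.naturality (J.d i j)).symm } :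
            (L.mapHomologicalComplex _).obj ((R.mapHomologicalComplex _).obj J) ⟶ J)).trans
          (Homotopy.ofEq ((HomologicalComplex.hom_ext _ _ fun n => (adj.homEquiv_counit ..).symm).trans
            (coadjunct_adjunct adj t)))))⟩
    obtain ⟨H5⟩ := h5
    have h6 := Q_map_eq_of_homotopy H5
    show L.mapDerivedCategory.map (Q.map f) = θ
    rw [← cancel_mono (L.mapDerivedCategoryFactors.hom.app I), L.mapDerivedCategoryFactors_hom_naturality,
      ← cancel_mono (Q.map j), Category.assoc, Category.assoc, ← Functor.map_comp, h6, ht]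
    simp

omit [EnoughInjectives A] [EnoughInjectives B] in
/-- Conversely. -/
theorem adjunct_quasiIso
    (h : ∀ X Y : DerivedCategory.Plus A, Function.Bijective fun g : X.obj ⟶ Y.obj => L.mapDerivedCategory.map g)
    (I : CochainComplex A ℤ) (a : ℤ) [I.IsStrictlyGE a] [∀ n, Injective (I.X n)]
    (J : CochainComplex B ℤ) [J.IsStrictlyGE a] [∀ n, Injective (J.X n)]
    (j : (L.mapHomologicalComplex _).obj I ⟶ J) [QuasiIso j] : QuasiIso (adjunct adj j) := by
  have : I.IsKInjective := CochainComplex.isKInjective_of_injective I a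
  have : J.IsKInjective := CochainComplex.isKInjective_of_injective J a
  let RJ : CochainComplex A ℤ := (R.mapHomologicalComplex (ComplexShape.up ℤ)).obj J
  have : RJ.IsStrictlyGE a := inferInstance
  have : RJ.IsKInjective := SiteBase.isKInjective_map adj J
  have hb : ∀ (K K' : CochainComplex A ℤ) [K.IsStrictlyGE a] [K'.IsStrictlyGE a],
      Function.Bijective fun g : Q.obj K ⟶ Q.obj K' => L.mapDerivedCategory.map g := fun K K' _ _ =>
    h ⟨Q.obj K, a, inferInstance⟩ ⟨Q.obj K', a, inferInstance⟩
  rw [← isIso_Q_map_iff_quasiIso]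
  let η := adjunct adj j
  let ε := coadjunct adj (𝟙 RJ)
  let c := L.mapDerivedCategoryFactors
  obtain ⟨g, hg⟩ := (hb RJ I).2 (c.hom.app RJ ≫ Q.map ε ≫ inv (Q.map j) ≫ c.inv.app I)
  obtain ⟨g, rfl⟩ := Q_map_surjective RJ I g
  have hQ : Q.map ((L.mapHomologicalComplex _).map g ≫ j) = Q.map ε := by
    have := congrArg (fun q => c.inv.app RJ ≫ q ≫ c.hom.app I ≫ Q.map j) hg
    simp only [c, Category.assoc] at this
    rw [L.mapDerivedCategoryFactors_hom_naturality_assoc] at this
    simpa using this
  have e2 : g ≫ η = adjunct adj ((L.mapHomologicalComplex _).map g ≫ j) := (adjunct_comp adj g j).symm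
  obtain ⟨H⟩ := homotopic_of_Q_map_eq hQ
  have hge : Q.map (g ≫ η) = 𝟙 _ := by
    rw [e2, Q_map_eq_of_homotopy (adjunctHomotopy adj H), adjunct_coadjunct, Q.map_id]
  have heg : Q.map (η ≫ g) = 𝟙 _ := by
    rw [← Q.map_id]
    refine (hb I I).1 ?_
    show L.mapDerivedCategory.map _ = L.mapDerivedCategory.map _
    rw [Q_map_comp_iff, ← cancel_mono (Q.map j), ← Functor.map_comp, ← Functor.map_comp,
      CategoryTheory.Functor.map_comp (L.mapHomologicalComplex _) η g, Category.assoc, Functor.map_comp _
      ((L.mapHomologicalComplex _).map η), hQ, ← Functor.map_comp, ← coadjunct_comp, Category.comp_id,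
      coadjunct_adjunct, CategoryTheory.Functor.map_id (L.mapHomologicalComplex _), Category.id_comp]
  exact ⟨Q.map g, by rw [← Functor.map_comp, heg], by rw [← Functor.map_comp, hge]⟩

end

end Groth.Agent.CohDesc82
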