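import Groth.Agent.CohDesc82.Stalks

/-!
# Change of index category
-/

universe v u

set_option autoImplicit false
set_option backward.isDefEq.respectTransparency false
set_option backward.isDefEq.respectTransparency.types false

open CategoryTheory CategoryTheory.Limits Opposite Pseudofunctor.CoGrothendieck TopologicalSpace

namespace Groth.Agent.CohDesc82

noncomputable section

variable {𝒮' 𝒮 : Type} [Category.{v} 𝒮'] [Category.{v} 𝒮] (Φ : 𝒮' ⥤ 𝒮) (Y : 𝒮 ⥤ TopCat.{u})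

/-- The functor of total categories of a change of index category. -/
abbrev bc : ∫ᶜ (osF (Φ ⋙ Y)) ⥤ ∫ᶜ (osF Y) := FibSite.baseChangeFunctor (osF Y) Φ

/-- On the fibres it is the identity. -/
def bcIso (i : 𝒮') : ι (osF (Φ ⋙ Y)) i ⋙ bc Φ Y ≅ ι (osF Y) (Φ.obj i) :=
  NatIso.ofComponents (fun V => Iso.refl _) fun {V W} g => hom_ext' _ _ (by
    show Φ.map (𝟙 i) ≫ 𝟙 _ = 𝟙 _ ≫ 𝟙 _
    rw [Φ.map_id])

instance isContinuous_bc : (bc Φ Y).IsContinuous (osTot (Φ ⋙ Y)) (osTot Y) :=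
  (FibSiteLib.isContinuous_total_iff (osPre (Φ ⋙ Y)) _ _).2 fun i =>
    have : (ι (osF Y) (Φ.obj i)).IsContinuous (osTop (Φ ⋙ Y) i) (osTot Y) := instContι (Y := Y) (Φ.obj i)
    Functor.isContinuous_of_iso (bcIso Φ Y i).symm (osTop (Φ ⋙ Y) i) (osTot Y)

instance isCocontinuous_bc : (bc Φ Y).IsCocontinuous (osTot (Φ ⋙ Y)) (osTot Y) where
  cover_lift {a T} hT := by
    obtain ⟨i, V⟩ := a
    obtain ⟨T', hT', hle⟩ := (FibSiteLib.mem_totalTopology_iff (osPre Y) _ T).1 hT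
    refine (FibSiteLib.mem_totalTopology_iff (osPre (Φ ⋙ Y)) _ _).2 ⟨T', hT', ?_⟩
    rintro Z _ ⟨W, g, k, hg, rfl⟩
    show T.arrows ((bc Φ Y).map (k ≫ (ι (osF (Φ ⋙ Y)) i).map g))
    rw [Functor.map_comp]
    refine T.downward_closed ?_ _
    have e : (bc Φ Y).map ((ι (osF (Φ ⋙ Y)) i).map g) = (ι (osF Y) (Φ.obj i)).map g :=
      hom_ext' _ _ (Φ.map_id i)
    rw [e]
    exact hle _ (Sieve.image_mem_functorPushforward _ _ hg)

/-- Restriction of sheaves along a change of index category. -/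
abbrev restrΦ : Sh Y ⥤ Sh (Φ ⋙ Y) :=
  (bc Φ Y).sheafPushforwardContinuous AddCommGrpCat.{u} (osTot (Φ ⋙ Y)) (osTot Y)

/-- The stalks of a restriction. -/
def stkRestrΦ (i : 𝒮') (x : Y.obj (Φ.obj i)) :
    restrΦ Φ Y ⋙ stk (Φ ⋙ Y) i x ≅ stk Y (Φ.obj i) x :=
  NatIso.ofComponents (fun P => (TopCat.Presheaf.stalkFunctor AddCommGrpCat.{u} x).mapIso
      (Functor.isoWhiskerRight (NatIso.op (bcIso Φ Y i)).symm P.obj)) fun {P Q} f => by
    show (TopCat.Presheaf.stalkFunctor AddCommGrpCat.{u} x).map _ ≫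
        (TopCat.Presheaf.stalkFunctor AddCommGrpCat.{u} x).map _ =
      (TopCat.Presheaf.stalkFunctor AddCommGrpCat.{u} x).map _ ≫
        (TopCat.Presheaf.stalkFunctor AddCommGrpCat.{u} x).map _
    refine ((Functor.map_comp _ _ _).symm.trans (congrArg _ ?_)).trans (Functor.map_comp _ _ _)
    exact NatTrans.ext (funext fun V => (f.hom.naturality _).symm)

variable {Φ Y}

theorem mv_restrΦ (P : Pre Y) {i j : 𝒮'} (f : i ⟶ j) {V : Opens (Y.obj (Φ.obj i))}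
    {W : Opens (Y.obj (Φ.obj j))} (h : ∀ x ∈ V, Y.map (Φ.map f) x ∈ W) (s : sec P (Φ.obj j) W) :
    mv ((bc Φ Y).op ⋙ P) (Y := Φ ⋙ Y) f h s = mv P (Φ.map f) h s := by
  simp only [mv]
  show (P.map ((bc Φ Y).map (hm f h)).op).hom s = _
  rw [hom_ext' ((bc Φ Y).map (hm f h)) (hm (Φ.map f) h) rfl]
  rfl

theorem flFib_restrΦ {P : Pre Y} (h : FlFib P) : FlFib (Y := Φ ⋙ Y) ((bc Φ Y).op ⋙ P) := fun i V U hVU s => by
  obtain ⟨t, ht⟩ := h (Φ.obj i) hVU s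
  refine ⟨t, (mv_restrΦ P (𝟙 i) (le_id hVU) t).trans ?_⟩
  rw [mv_congr P (Φ.map_id i)]
  exact ht

end

end Groth.Agent.CohDesc82
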