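import Mathlib.AlgebraicTopology.AlternatingFaceMapComplex
import Mathlib.Algebra.Category.Grp.Adjunctions
import Mathlib.Algebra.Category.Grp.Abelian
import Mathlib.Algebra.Category.Grp.Limits
import Mathlib.Algebra.Category.Grp.Colimits
import Mathlib.Algebra.Homology.ShortComplex.Ab
import Mathlib.Algebra.Homology.ShortComplex.Exact
import Mathlib.Algebra.Homology.ShortComplex.PreservesHomology
import Mathlib.CategoryTheory.Abelian.FunctorCategory
import Mathlib.CategoryTheory.Preadditive.Injective.Basic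
import Mathlib.CategoryTheory.Yoneda

/-!
# Injective presheaves have exact Cech complexes for simplicial objects with an extra degeneracy
-/

universe u

set_option autoImplicit false
set_option backward.isDefEq.respectTransparency false
set_option backward.isDefEq.respectTransparency.types false

open CategoryTheory CategoryTheory.Limits Opposite Simplicial AlgebraicTopology

namespace Groth.Agent.CohDesc82

noncomputable section

variable {C : Type u} [SmallCategory C] (X : SimplicialObject C)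

/-- The free presheaves on the members of a simplicial object. -/
abbrev freeSimp : SimplicialObject (Cᵒᵖ ⥤ AddCommGrpCat.{u}) :=
  ((SimplicialObject.whiskering _ _).obj
    (yoneda ⋙ (Functor.whiskeringRight _ _ _).obj AddCommGrpCat.free.{u})).obj X

/-- Contractions of the morphisms from an object into the members. -/
structure Contr (a : C) where
  /-- the contraction -/
  cons : ∀ {p : ℕ}, (a ⟶ X _⦋p⦌) → (a ⟶ X _⦋p + 1⦌)
  zero : ∀ {p : ℕ} (g : a ⟶ X _⦋p⦌), cons g ≫ X.δ 0 = g
  succ : ∀ {p : ℕ} (g : a ⟶ X _⦋p + 1⦌) (k : Fin (p + 2)), cons g ≫ X.δ k.succ = cons (g ≫ X.δ k)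

variable {X}

theorem objD_of (p : ℕ) (a : C) (g : a ⟶ X _⦋p + 1⦌) :
    ((AlternatingFaceMapComplex.objD (freeSimp X) p).app (op a)).hom (FreeAbelianGroup.of g) =
      ∑ k : Fin (p + 2), (-1 : ℤ) ^ (k : ℕ) • FreeAbelianGroup.of (g ≫ X.δ k) := by
  let e : ((freeSimp X) _⦋p + 1⦌ ⟶ (freeSimp X) _⦋p⦌) →+ FreeAbelianGroup (a ⟶ X _⦋p⦌) :=
    AddMonoidHom.mk' (fun q => (q.app (op a)).hom (FreeAbelianGroup.of g)) fun _ _ => rfl
  show e (∑ k : Fin (p + 2), (-1 : ℤ) ^ (k : ℕ) • (freeSimp X).δ k) = _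
  rw [map_sum]
  refine Finset.sum_congr rfl fun k _ => (map_zsmul e _ _).trans (congrArg _ ?_)
  exact FreeAbelianGroup.map_of_apply g

/-- The complex of free presheaves is exact at an object with contractions. -/
theorem exact_freeSimp {a : C} (h : Contr X a) (p : ℕ) (x : ((freeSimp X) _⦋p + 1⦌).obj (op a))
    (hx : ((AlternatingFaceMapComplex.objD (freeSimp X) p).app (op a)).hom x = 0) :
    ∃ y, ((AlternatingFaceMapComplex.objD (freeSimp X) (p + 1)).app (op a)).hom y = x := by
  let s : ∀ q, ((freeSimp X) _⦋q⦌).obj (op a) →+ ((freeSimp X) _⦋q + 1⦌).obj (op a) :=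
    fun q => FreeAbelianGroup.map h.cons
  have key : ∀ x : ((freeSimp X) _⦋p + 1⦌).obj (op a),
      ((AlternatingFaceMapComplex.objD (freeSimp X) (p + 1)).app (op a)).hom (s (p + 1) x) +
        s p (((AlternatingFaceMapComplex.objD (freeSimp X) p).app (op a)).hom x) = x := by
    intro x
    induction x using FreeAbelianGroup.induction_on with
    | zero => simp only [map_zero]; exact add_zero _
    | of g =>
      rw [show s (p + 1) (FreeAbelianGroup.of g) = FreeAbelianGroup.of (h.cons g) from FreeAbelianGroup.map_of_apply g,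
        objD_of, objD_of, map_sum, Fin.sum_univ_succ, h.zero]
      simp only [Fin.val_zero, pow_zero, one_smul, Fin.val_succ, pow_succ, mul_neg, mul_one, neg_smul, map_zsmul]
      refine (add_assoc _ _ _).trans ((congrArg (FreeAbelianGroup.of g + ·) ?_).trans (add_zero _))
      refine Finset.sum_add_distrib.symm.trans (Finset.sum_eq_zero fun k _ => ?_)
      rw [show s p (FreeAbelianGroup.of (g ≫ X.δ k)) = FreeAbelianGroup.of (h.cons (g ≫ X.δ k)) from
        FreeAbelianGroup.map_of_apply _, h.succ]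
      exact neg_add_cancel _
    | neg g hg =>
      rw [map_neg, map_neg, map_neg, map_neg, ← neg_add, hg]
    | add y z hy hz =>
      simp only [map_add]
      refine Eq.trans ?_ (congrArg₂ (· + ·) hy hz)
      exact add_add_add_comm _ _ _ _
  refine ⟨s (p + 1) x, ?_⟩
  have := key x
  rw [show ((AlternatingFaceMapComplex.objD (freeSimp X) p).app (op a)).hom x = 0 from hx, map_zero, add_zero] at this
  exact this

/-- The Cech differential of a presheaf. -/
def cechD (P : Cᵒᵖ ⥤ AddCommGrpCat.{u}) (X : SimplicialObject C) (p : ℕ) :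
    P.obj (op (X _⦋p⦌)) →+ P.obj (op (X _⦋p + 1⦌)) :=
  ∑ k : Fin (p + 2), (-1 : ℤ) ^ (k : ℕ) • (P.map (X.δ k).op).hom

theorem cechD_apply (P : Cᵒᵖ ⥤ AddCommGrpCat.{u}) (p : ℕ) (s : P.obj (op (X _⦋p⦌))) :
    cechD P X p s = ∑ k : Fin (p + 2), (-1 : ℤ) ^ (k : ℕ) • (P.map (X.δ k).op).hom s := by
  simp only [cechD, AddMonoidHom.finsetSum_apply, AddMonoidHom.smul_apply]

variable (C) in
/-- The free presheaf on an object. -/
abbrev freeP (x : C) : Cᵒᵖ ⥤ AddCommGrpCat.{u} :=
  (yoneda ⋙ (Functor.whiskeringRight _ _ _).obj AddCommGrpCat.free.{u}).obj x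

/-- The map out of a free presheaf given by a section. -/
def freeHom {P : Cᵒᵖ ⥤ AddCommGrpCat.{u}} {x : C} (t : P.obj (op x)) : freeP C x ⟶ P where
  app a := AddCommGrpCat.ofHom (FreeAbelianGroup.lift fun (g : a.unop ⟶ x) => (P.map g.op).hom t)
  naturality a b f := by
    refine AddCommGrpCat.hom_ext (FreeAbelianGroup.lift_ext _ _ fun (g : a.unop ⟶ x) => ?_)
    show FreeAbelianGroup.lift (fun g : b.unop ⟶ x => (P.map g.op).hom t)
        (FreeAbelianGroup.map _ (FreeAbelianGroup.of g)) =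
      (P.map f).hom (FreeAbelianGroup.lift (fun g : a.unop ⟶ x => (P.map g.op).hom t) (FreeAbelianGroup.of g))
    rw [FreeAbelianGroup.map_of_apply, FreeAbelianGroup.lift_apply_of, FreeAbelianGroup.lift_apply_of]
    show (P.map (f.unop ≫ g).op).hom t = _
    rw [op_comp, P.map_comp]; rfl

theorem freeHom_of {P : Cᵒᵖ ⥤ AddCommGrpCat.{u}} {x a : C} (t : P.obj (op x)) (g : a ⟶ x) :
    ((freeHom t).app (op a)).hom (FreeAbelianGroup.of g) = (P.map g.op).hom t :=
  FreeAbelianGroup.lift_apply_of _ _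

theorem map_eval {P : Cᵒᵖ ⥤ AddCommGrpCat.{u}} {x a : C} (ψ : freeP C x ⟶ P) (g : a ⟶ x) :
    (P.map g.op).hom ((ψ.app (op x)).hom (FreeAbelianGroup.of (𝟙 x))) =
      (ψ.app (op a)).hom (FreeAbelianGroup.of g) := by
  refine ((ConcreteCategory.congr_hom (ψ.naturality g.op) (FreeAbelianGroup.of (𝟙 x))).symm.trans ?_)
  refine congrArg (ψ.app (op a)).hom ?_
  show FreeAbelianGroup.map _ (FreeAbelianGroup.of (𝟙 x)) = _
  rw [FreeAbelianGroup.map_of_apply]
  exact congrArg FreeAbelianGroup.of (Category.comp_id g)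

/-- Maps into `P` only see the restriction along `G`, where it is injective. -/
structure RelInj {D : Type u} [SmallCategory D] (G : D ⥤ C) (P : Cᵒᵖ ⥤ AddCommGrpCat.{u}) : Prop where
  ext : ∀ {A B E : Cᵒᵖ ⥤ AddCommGrpCat.{u}} (v : A ⟶ B) (w : B ⟶ E), v ≫ w = 0 →
    (∀ (b : D) (x : B.obj (op (G.obj b))), (w.app _).hom x = 0 → ∃ y, (v.app _).hom y = x) →
    ∀ f : B ⟶ P, v ≫ f = 0 → ∃ g, w ≫ g = f
  uniq : ∀ {B E : Cᵒᵖ ⥤ AddCommGrpCat.{u}} (w : B ⟶ E),
    (∀ b : D, Function.Surjective (w.app (op (G.obj b))).hom) → ∀ g : E ⟶ P, w ≫ g = 0 → g = 0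

/-- Right Kan extensions of injective presheaves are relatively injective. -/
theorem relInj_ran {D : Type u} [SmallCategory D] (G : D ⥤ C) (J : Dᵒᵖ ⥤ AddCommGrpCat.{u}) [Injective J] :
    RelInj G (G.op.ran.obj J) where
  ext {A B E} v w hvw hex f hf := by
    let L := (Functor.whiskeringLeft _ _ AddCommGrpCat.{u}).obj G.op
    let adj := G.op.ranAdjunction AddCommGrpCat.{u}
    let S := ShortComplex.mk (L.map v) (L.map w) (by rw [← L.map_comp, hvw]; rfl)
    have hS : S.Exact := by
      rw [ShortComplex.exact_iff_isZero_homology]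
      refine Functor.isZero _ fun ⟨b⟩ => ?_
      refine IsZero.of_iso ?_ (S.mapHomologyIso ((evaluation _ _).obj (op b))).symm
      rw [← ShortComplex.exact_iff_isZero_homology, ShortComplex.ab_exact_iff]
      exact hex b
    have hf' : L.map v ≫ (adj.homEquiv _ _).symm f = 0 := by
      rw [← adj.homEquiv_naturality_left_symm, hf, Adjunction.homEquiv_counit, Functor.map_zero, zero_comp]
    refine ⟨adj.homEquiv _ _ (hS.descToInjective ((adj.homEquiv _ _).symm f) hf'), ?_⟩
    rw [← adj.homEquiv_naturality_left]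
    exact (congrArg _ (hS.comp_descToInjective ((adj.homEquiv _ _).symm f) hf')).trans (Equiv.apply_symm_apply _ _)
  uniq {B E} w hw g hg := by
    let L := (Functor.whiskeringLeft _ _ AddCommGrpCat.{u}).obj G.op
    let adj := G.op.ranAdjunction AddCommGrpCat.{u}
    have h0 : L.map w ≫ (adj.homEquiv _ _).symm g = 0 := by
      rw [← adj.homEquiv_naturality_left_symm, hg, Adjunction.homEquiv_counit, Functor.map_zero, zero_comp]
    have h1 : (adj.homEquiv _ _).symm g = 0 := by
      refine NatTrans.ext (funext fun b => AddCommGrpCat.hom_ext (AddMonoidHom.ext fun e => ?_))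
      obtain ⟨y, rfl⟩ := hw b.unop e
      exact ConcreteCategory.congr_hom (congrArg (fun q : L.obj B ⟶ J => q.app b) h0) y
    apply (adj.homEquiv _ _).symm.injective
    rw [h1, Adjunction.homEquiv_counit, Functor.map_zero, zero_comp]

variable {D : Type u} [SmallCategory D] {G : D ⥤ C} {P : Cᵒᵖ ⥤ AddCommGrpCat.{u}}

/-- The Cech complex is exact in positive degrees. -/
theorem exists_cechD (hP : RelInj G P) (h : ∀ b, Nonempty (Contr X (G.obj b))) (p : ℕ)
    (t : P.obj (op (X _⦋p + 1⦌))) (ht : cechD P X (p + 1) t = 0) :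
    ∃ s, cechD P X p s = t := by
  have hφ : AlternatingFaceMapComplex.objD (freeSimp X) (p + 1) ≫ freeHom t = 0 := by
    refine NatTrans.ext (funext fun a => AddCommGrpCat.hom_ext (FreeAbelianGroup.lift_ext _ _ fun g => ?_))
    show ((freeHom t).app a).hom (((AlternatingFaceMapComplex.objD (freeSimp X) (p + 1)).app (op a.unop)).hom
      (FreeAbelianGroup.of g)) = 0
    refine (congrArg ((freeHom t).app a).hom (objD_of (p + 1) a.unop g)).trans ?_
    rw [map_sum]
    refine Eq.trans ?_ ((congrArg (P.map g.op).hom ht).trans (map_zero _))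
    rw [cechD_apply, map_sum]
    refine Finset.sum_congr rfl fun k _ => ?_
    refine (map_zsmul _ _ _).trans (Eq.trans (congrArg _ ?_) (map_zsmul _ _ _).symm)
    show ((freeHom t).app (op a.unop)).hom (FreeAbelianGroup.of (g ≫ X.δ k)) = _
    rw [freeHom_of, op_comp, P.map_comp]; rfl
  obtain ⟨ψ, hψ⟩ := hP.ext _ _ (AlternatingFaceMapComplex.d_squared (freeSimp X) p)
    (fun b x hx => exact_freeSimp (h b).some p x hx) (freeHom t) hφ
  refine ⟨(ψ.app (op (X _⦋p⦌))).hom (FreeAbelianGroup.of (𝟙 _)), ?_⟩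
  rw [cechD_apply]
  have e := ConcreteCategory.congr_hom (congrArg (fun q : (freeSimp X) _⦋p + 1⦌ ⟶ P => q.app (op (X _⦋p + 1⦌)))
    hψ) (FreeAbelianGroup.of (𝟙 _))
  refine Eq.trans ?_ (e.trans ?_)
  · show _ = (ψ.app _).hom (((AlternatingFaceMapComplex.objD (freeSimp X) p).app _).hom (FreeAbelianGroup.of (𝟙 _)))
    rw [objD_of, map_sum]
    refine Finset.sum_congr rfl fun k _ => ?_
    refine Eq.trans (congrArg _ ((map_eval ψ (X.δ k)).trans ?_)) (map_zsmul _ _ _).symm
    exact congrArg (fun g => (ψ.app _).hom (FreeAbelianGroup.of g)) (Category.id_comp (X.δ k)).symm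
  · show ((freeHom t).app (op (X _⦋p + 1⦌))).hom (FreeAbelianGroup.of (𝟙 _)) = t
    rw [freeHom_of, op_id, P.map_id]; rfl

variable {A : C} (ε : X _⦋0⦌ ⟶ A) (hε : X.δ (0 : Fin 2) ≫ ε = X.δ 1 ≫ ε)
  (cons₀ : ∀ b : D, (G.obj b ⟶ A) → (G.obj b ⟶ X _⦋0⦌))
  (hcons₀ : ∀ (b : D) (g : G.obj b ⟶ A), cons₀ b g ≫ ε = g)

include cons₀ hcons₀ in
/-- The augmentation is injective on sections. -/
theorem aug_injective (hP : RelInj G P) : Function.Injective (P.map ε.op).hom := by
  refine (injective_iff_map_eq_zero _).2 fun t ht => ?_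
  let w := (yoneda ⋙ (Functor.whiskeringRight _ _ _).obj AddCommGrpCat.free.{u}).map ε
  have hw : ∀ b : D, Function.Surjective (w.app (op (G.obj b))).hom := fun b e => by
    refine ⟨FreeAbelianGroup.map (cons₀ b) e, ?_⟩
    show FreeAbelianGroup.map (fun g => g ≫ ε) (FreeAbelianGroup.map (cons₀ b) e) = e
    rw [← FreeAbelianGroup.map_comp_apply, show (fun g => g ≫ ε) ∘ cons₀ b = id from funext (hcons₀ b),
      FreeAbelianGroup.map_id_apply]
  have hz : w ≫ freeHom t = 0 := by
    refine NatTrans.ext (funext fun a => AddCommGrpCat.hom_ext (FreeAbelianGroup.lift_ext _ _ fun g => ?_))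
    show ((freeHom t).app (op a.unop)).hom (FreeAbelianGroup.map _ (FreeAbelianGroup.of g)) = 0
    rw [FreeAbelianGroup.map_of_apply]
    refine (freeHom_of t _).trans ?_
    show (P.map (g ≫ ε).op).hom t = 0
    rw [op_comp, P.map_comp]
    exact (congrArg (P.map g.op).hom ht).trans (map_zero _)
  have e := ConcreteCategory.congr_hom (congrArg (fun q : freeP C A ⟶ P => q.app (op A)) (hP.uniq w hw _ hz))
    (FreeAbelianGroup.of (𝟙 A))
  refine Eq.trans ?_ e
  show t = ((freeHom t).app (op A)).hom (FreeAbelianGroup.of (𝟙 A))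
  rw [freeHom_of, op_id, P.map_id]; rfl

include hε cons₀ in
/-- The Cech complex is exact in degree zero. -/
theorem exists_aug (hP : RelInj G P) (h : ∀ b, Contr X (G.obj b))
    (hc : ∀ (b : D) (g : G.obj b ⟶ X _⦋0⦌), (h b).cons g ≫ X.δ 1 = cons₀ b (g ≫ ε))
    (t : P.obj (op (X _⦋0⦌))) (ht : cechD P X 0 t = 0) : ∃ s, (P.map ε.op).hom s = t := by
  let w := (yoneda ⋙ (Functor.whiskeringRight _ _ _).obj AddCommGrpCat.free.{u}).map ε
  let v := AlternatingFaceMapComplex.objD (freeSimp X) 0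
  have hsum : ∀ {M : Type u} [AddCommGroup M] (f : Fin 2 → M),
      ∑ k : Fin 2, (-1 : ℤ) ^ (k : ℕ) • f k = f 0 - f 1 := fun f => by
    rw [Fin.sum_univ_two]; simp [sub_eq_add_neg]
  have hv : ∀ (a : C) (g : a ⟶ X _⦋1⦌), (v.app (op a)).hom (FreeAbelianGroup.of g) =
      FreeAbelianGroup.of (g ≫ X.δ 0) - FreeAbelianGroup.of (g ≫ X.δ 1) := fun a g =>
    (objD_of 0 a g).trans (hsum _)
  have hvw : v ≫ w = 0 := by
    refine NatTrans.ext (funext fun a => AddCommGrpCat.hom_ext (FreeAbelianGroup.lift_ext _ _ fun g => ?_))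
    show (w.app a).hom ((v.app (op a.unop)).hom (FreeAbelianGroup.of g)) = 0
    rw [hv]
    refine (map_sub (w.app a).hom _ _).trans (sub_eq_zero.2 ?_)
    show FreeAbelianGroup.map _ (FreeAbelianGroup.of _) = FreeAbelianGroup.map _ (FreeAbelianGroup.of _)
    rw [FreeAbelianGroup.map_of_apply, FreeAbelianGroup.map_of_apply]
    refine congrArg FreeAbelianGroup.of ?_
    show (g ≫ X.δ 0) ≫ ε = (g ≫ X.δ 1) ≫ ε
    rw [Category.assoc, Category.assoc, hε]
  have hex : ∀ (b : D) (x : (freeP C (X _⦋0⦌)).obj (op (G.obj b))), (w.app _).hom x = 0 →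
      ∃ y, (v.app _).hom y = x := fun b x hx => by
    refine ⟨FreeAbelianGroup.map (h b).cons x, ?_⟩
    let V : FreeAbelianGroup (G.obj b ⟶ X _⦋1⦌) →+ FreeAbelianGroup (G.obj b ⟶ X _⦋0⦌) :=
      (v.app (op (G.obj b))).hom
    let L₁ := V.comp (FreeAbelianGroup.map (h b).cons)
    let L₂ := AddMonoidHom.id _ -
      (FreeAbelianGroup.map (cons₀ b)).comp (FreeAbelianGroup.map fun g : G.obj b ⟶ X _⦋0⦌ => g ≫ ε)
    have key : L₁ = L₂ := FreeAbelianGroup.lift_ext _ _ fun g => by
      show V (FreeAbelianGroup.map (h b).cons (FreeAbelianGroup.of g)) =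
        FreeAbelianGroup.of g - FreeAbelianGroup.map (cons₀ b) (FreeAbelianGroup.map _ (FreeAbelianGroup.of g))
      rw [FreeAbelianGroup.map_of_apply, FreeAbelianGroup.map_of_apply, FreeAbelianGroup.map_of_apply]
      refine (hv _ _).trans ?_
      rw [(h b).zero, hc]
    let x' : FreeAbelianGroup (G.obj b ⟶ X _⦋0⦌) := x
    show L₁ x' = x'
    rw [key]
    show x' - FreeAbelianGroup.map (cons₀ b) (FreeAbelianGroup.map (fun g => g ≫ ε) x') = x'
    rw [show FreeAbelianGroup.map (fun g => g ≫ ε) x' = 0 from hx, map_zero]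
    exact sub_zero _
  have hvt : v ≫ freeHom t = 0 := by
    refine NatTrans.ext (funext fun a => AddCommGrpCat.hom_ext (FreeAbelianGroup.lift_ext _ _ fun g => ?_))
    show ((freeHom t).app (op a.unop)).hom ((v.app (op a.unop)).hom (FreeAbelianGroup.of g)) = 0
    rw [hv]
    refine (map_sub ((freeHom t).app (op a.unop)).hom _ _).trans ?_
    refine (congrArg₂ (· - ·) (freeHom_of t _) (freeHom_of t _)).trans ?_
    rw [op_comp, op_comp, P.map_comp, P.map_comp]
    refine Eq.trans ?_ ((congrArg (P.map g.op).hom ht).trans (map_zero _))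
    rw [cechD_apply, hsum, map_sub]
    rfl
  obtain ⟨ψ, hψ⟩ := hP.ext v w hvw hex (freeHom t) hvt
  refine ⟨(ψ.app (op A)).hom (FreeAbelianGroup.of (𝟙 A)), ?_⟩
  have e := ConcreteCategory.congr_hom (congrArg (fun q : freeP C (X _⦋0⦌) ⟶ P => q.app (op (X _⦋0⦌)))
    hψ) (FreeAbelianGroup.of (𝟙 _))
  refine Eq.trans ?_ (e.trans ?_)
  · show _ = (ψ.app _).hom (FreeAbelianGroup.map _ (FreeAbelianGroup.of (𝟙 _)))
    rw [FreeAbelianGroup.map_of_apply]
    refine (map_eval ψ ε).trans (congrArg (fun g => (ψ.app _).hom (FreeAbelianGroup.of g)) ?_)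
    exact (Category.id_comp ε).symm
  · show ((freeHom t).app (op (X _⦋0⦌))).hom (FreeAbelianGroup.of (𝟙 _)) = t
    rw [freeHom_of, op_id, P.map_id]; rfl

end

end Groth.Agent.CohDesc82
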