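import Groth.Agent.CohDesc82.Local
import Mathlib.Topology.Compactness.Compact
import Mathlib.Topology.Separation.Basic

/-!
# Exactness near compact subsets, and germs

For a family of bicomplexes of flasque sheaves, exactness near every point of a compact subset whose points
are pairwise separated gives exactness near the subset (Mayer-Vietoris).
-/

universe v u

set_option autoImplicit false

open TopologicalSpace Topology

namespace Groth.Agent.CohDesc82

/-- Points of the two sets are pairwise separated. -/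
def PtSep {X : Type v} [TopologicalSpace X] (A B : Set X) : Prop :=
  ∀ a ∈ A, ∀ b ∈ B, a ≠ b → ∃ U V : Set X, IsOpen U ∧ IsOpen V ∧ a ∈ U ∧ b ∈ V ∧ Disjoint U V

theorem PtSep.mono {X : Type v} [TopologicalSpace X] {A B A' B' : Set X} (h : PtSep A B) (hA : A' ⊆ A)
    (hB : B' ⊆ B) : PtSep A' B' := fun a ha b hb => h a (hA ha) b (hB hb)

theorem separated_of_compacts {X : Type v} [TopologicalSpace X] {A B : Set X} (hA : IsCompact A)
    (hB : IsCompact B) (hd : Disjoint A B) (h : PtSep A B) : SeparatedNhds A B := by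
  refine hA.induction_on (p := fun s => SeparatedNhds (A ∩ s) B) ?_ ?_ ?_ ?_ |>.mono (fun a ha => ⟨ha, ha⟩) le_rfl
  · rw [Set.inter_empty]; exact SeparatedNhds.empty_left B
  · exact fun s t hst ht => ht.mono (Set.inter_subset_inter_right _ hst) le_rfl
  · intro s t hs ht
    rw [Set.inter_union_distrib_left]
    exact hs.union_left ht
  · intro a ha
    have key : SeparatedNhds B {a} := by
      refine hB.induction_on (p := fun s => SeparatedNhds (B ∩ s) {a}) ?_ ?_ ?_ ?_ |>.mono (fun b hb => ⟨hb, hb⟩) le_rfl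
      · rw [Set.inter_empty]; exact SeparatedNhds.empty_left _
      · exact fun s t hst ht => ht.mono (Set.inter_subset_inter_right _ hst) le_rfl
      · intro s t hs ht
        rw [Set.inter_union_distrib_left]
        exact hs.union_left ht
      · intro b hb
        obtain ⟨U, V, hU, hV, haU, hbV, hUV⟩ := h a ha b hb fun e => hd.notMem_of_mem_left ha (e ▸ hb)
        exact ⟨V, mem_nhdsWithin_of_mem_nhds (hV.mem_nhds hbV), V, U, hV, hU, Set.inter_subset_right,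
          Set.singleton_subset_iff.2 haU, hUV.symm⟩
    obtain ⟨V, U, hV, hU, hBV, haU, hVU⟩ := key
    exact ⟨U, mem_nhdsWithin_of_mem_nhds (hU.mem_nhds (haU rfl)), U, V, hU, hV, Set.inter_subset_right, hBV, hVU.symm⟩

theorem isCompact_inter_of_ptSep {X : Type v} [TopologicalSpace X] {A B : Set X} (hA : IsCompact A)
    (hB : IsCompact B) (h : PtSep A B) : IsCompact (A ∩ B) := by
  have hsep : ∀ a ∈ A, a ∉ B → ∃ U : Set X, IsOpen U ∧ a ∈ U ∧ Disjoint U B := fun a ha hab => by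
    obtain ⟨U, V, hU, -, haU, hBV, hUV⟩ := separated_of_compacts isCompact_singleton hB
      (Set.disjoint_singleton_left.2 hab) (h.mono (Set.singleton_subset_iff.2 ha) le_rfl)
    exact ⟨U, hU, haU rfl, hUV.mono_right hBV⟩
  let O : Set X := ⋃ U ∈ {U : Set X | IsOpen U ∧ Disjoint U B}, U
  have hO : IsOpen O := isOpen_biUnion fun U hU => hU.1
  have e : A ∩ B = A ∩ Oᶜ := by
    ext a
    refine ⟨fun ⟨ha, hb⟩ => ⟨ha, fun haO => ?_⟩, fun ⟨ha, hb⟩ => ⟨ha, by_contra fun hab => ?_⟩⟩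
    · obtain ⟨U, ⟨-, hU⟩, haU⟩ := Set.mem_iUnion₂.1 haO
      exact hU.notMem_of_mem_left haU hb
    · obtain ⟨U, hU, haU, hd⟩ := hsep a ha hab
      exact hb (Set.mem_iUnion₂.2 ⟨U, ⟨hU, hd⟩, haU⟩)
  rw [e]
  exact hA.inter_right hO.isClosed_compl

namespace BiSh

variable {X : Type v} [TopologicalSpace X] (𝔅 : BiSh.{v, u} X)

/-- Every cycle on a member becomes a boundary on a smaller member. -/
def ExactOn (N : Opens X → Prop) : Prop :=
  ∀ (U : Opens X), N U → ∀ (k : ℕ) (x : ∀ i, (𝔅.B U).F i), Supp Bi.deg k x → (𝔅.B U).D x = 0 →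
    ∃ (V : Opens X) (h : V ≤ U), N V ∧ ∃ y, Supp' Bi.deg k y ∧ (𝔅.B V).D y = 𝔅.resF h x

/-- Gluing on two opens. -/
lemma glue₂ {A B : Opens X} {k : ℕ} (a : ∀ i, (𝔅.B A).F i) (b : ∀ i, (𝔅.B B).F i) (ha : Supp Bi.deg k a)
    (hb : Supp Bi.deg k b)
    (e : 𝔅.resF (inf_le_left : A ⊓ B ≤ A) a = 𝔅.resF (inf_le_right : A ⊓ B ≤ B) b) :
    ∃ t : ∀ i, (𝔅.B (A ⊔ B)).F i, Supp Bi.deg k t ∧ 𝔅.resF le_sup_left t = a ∧ 𝔅.resF le_sup_right t = b := by
  let O : ULift.{v} Bool → Opens X := fun c => cond c.down A B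
  have hsup : A ⊔ B ≤ iSup O := sup_le (le_iSup O ⟨true⟩) (le_iSup O ⟨false⟩)
  have hO : ∀ c, O c ≤ A ⊔ B := by
    rintro ⟨_ | _⟩
    · exact le_sup_right
    · exact le_sup_left
  let yy : ∀ c, ∀ i, (𝔅.B (O c)).F i := fun c => match c with
    | ⟨true⟩ => a
    | ⟨false⟩ => b
  obtain ⟨t, ht, htb⟩ := 𝔅.glueF O hO hsup yy
    (by rintro ⟨_ | _⟩ <;> first | exact hb | exact ha)
    (by
      rintro ⟨_ | _⟩ ⟨_ | _⟩
      · rfl
      · have := congrArg (𝔅.resF (le_inf inf_le_right inf_le_left : B ⊓ A ≤ A ⊓ B)) e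
        rw [resF_resF, resF_resF] at this
        exact this.symm
      · exact e
      · rfl)
  exact ⟨t, ht, htb ⟨true⟩, htb ⟨false⟩⟩

/-- Extensionality on two opens. -/
lemma ext₂ {A B : Opens X} {x y : ∀ i, (𝔅.B (A ⊔ B)).F i} (h₁ : 𝔅.resF le_sup_left x = 𝔅.resF le_sup_left y)
    (h₂ : 𝔅.resF le_sup_right x = 𝔅.resF le_sup_right y) : x = y := by
  let O : ULift.{v} Bool → Opens X := fun c => cond c.down A B
  refine 𝔅.extF O (fun c => ?_) (sup_le (le_iSup O ⟨true⟩) (le_iSup O ⟨false⟩)) fun c => ?_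
  · rcases c with ⟨_ | _⟩
    · exact le_sup_right
    · exact le_sup_left
  · rcases c with ⟨_ | _⟩
    · exact h₂
    · exact h₁

/-- Exactness near a compact set with separated points, from exactness near its points. -/
theorem exactOn_compact {C : Set X} (hC : IsCompact C) (hsep : PtSep C C)
    (hloc : ∀ z ∈ C, 𝔅.ExactOn fun U => z ∈ U) : 𝔅.ExactOn fun U => C ⊆ U := by
  suffices H : ∀ (k : ℕ) (C' : Set X), C' ⊆ C → IsCompact C' → ∀ (U : Opens X) (x : ∀ i, (𝔅.B U).F i),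
      C' ⊆ U → Supp Bi.deg k x → (𝔅.B U).D x = 0 →
      ∃ (V : Opens X) (h : V ≤ U), C' ⊆ V ∧ ∃ y, Supp' Bi.deg k y ∧ (𝔅.B V).D y = 𝔅.resF h x from
    fun U hU k x hx hD => H k C le_rfl hC U x hU hx hD
  intro k
  induction k with
  | zero | succ k ih => ?_
  all_goals
    intro C' hCC hC' U x hU hx hD
    refine (fun ⟨V, hV, hs, h⟩ => ⟨V, hV, fun c hc => hs ⟨hc, subset_closure hc⟩, h⟩) (hC'.induction_on
      (p := fun s => ∃ (V : Opens X) (h : V ≤ U), C' ∩ closure s ⊆ V ∧ ∃ y, Supp' Bi.deg _ y ∧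
        (𝔅.B V).D y = 𝔅.resF h x) ?_ (fun s t hst ⟨V, hV, hs, h⟩ =>
          ⟨V, hV, fun c hc => hs ⟨hc.1, closure_mono hst hc.2⟩, h⟩) ?_ ?_)
  case zero.refine_1 | succ.refine_1 =>
    refine ⟨⊥, bot_le, by simp, 0, fun _ _ => rfl, ?_⟩
    exact 𝔅.extF (fun c : PEmpty.{v + 1} => c.elim) (fun c => c.elim) bot_le fun c => c.elim
  case zero.refine_3 | succ.refine_3 =>
    intro c hc
    obtain ⟨V, hV, hcV, h⟩ := hloc c (hCC hc) U (hU hc) _ x hx hD
    obtain ⟨O, O', hO, hO', hcO, hrest, hOO'⟩ := separated_of_compacts isCompact_singleton (hC'.diff V.2)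
      (Set.disjoint_singleton_left.2 fun hc' => hc'.2 hcV)
      (hsep.mono (Set.singleton_subset_iff.2 (hCC hc)) (Set.sdiff_subset.trans hCC))
    refine ⟨O, mem_nhdsWithin_of_mem_nhds (hO.mem_nhds (hcO rfl)), V, hV, fun a ha => by_contra fun haV => ?_, h⟩
    exact (closure_minimal hOO'.subset_compl_right hO'.isClosed_compl ha.2) (hrest ⟨ha.1, haV⟩)
  case zero.refine_2 =>
    rintro s t ⟨V₁, hV₁, hs, y₁, hy₁, e₁⟩ ⟨V₂, hV₂, ht, y₂, hy₂, e₂⟩
    refine ⟨V₁ ⊔ V₂, sup_le hV₁ hV₂, ?_, 0, fun _ _ => rfl, ?_⟩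
    · rw [closure_union, Set.inter_union_distrib_left]
      exact Set.union_subset (hs.trans le_sup_left) (ht.trans le_sup_right)
    · refine 𝔅.ext₂ ?_ ?_
      · rw [map_zero, map_zero, resF_resF, ← e₁, supp'_zero hy₁, map_zero]
      · rw [map_zero, map_zero, resF_resF, ← e₂, supp'_zero hy₂, map_zero]
  case succ.refine_2 =>
    rintro s t ⟨V₁, hV₁, hs, y₁, hy₁, e₁⟩ ⟨V₂, hV₂, ht, y₂, hy₂, e₂⟩
    let A := C' ∩ closure s
    let B := C' ∩ closure t
    have hA : IsCompact A := hC'.inter_right isClosed_closure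
    have hB : IsCompact B := hC'.inter_right isClosed_closure
    have hsep' : PtSep A B :=
      hsep.mono (Set.inter_subset_left.trans hCC) (Set.inter_subset_left.trans hCC)
    obtain ⟨O, hO, hABO, z, hz, hzd⟩ := ih (A ∩ B) (Set.inter_subset_left.trans (Set.inter_subset_left.trans hCC))
      (isCompact_inter_of_ptSep hA hB hsep') (V₁ ⊓ V₂) (𝔅.resF inf_le_left y₁ - 𝔅.resF inf_le_right y₂)
      (fun c hc => ⟨hs hc.1, ht hc.2⟩)
      (fun i hi => by
        rw [Pi.sub_apply, 𝔅.resF_supp _ (supp'_succ_iff.1 hy₁) i hi, 𝔅.resF_supp _ (supp'_succ_iff.1 hy₂) i hi,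
          sub_zero])
      (by rw [map_sub, ← resF_D, ← resF_D, e₁, e₂, resF_resF, resF_resF, sub_self])
    obtain ⟨P, Q, hP, hQ, hAP, hBQ, hPQ⟩ := separated_of_compacts (hA.diff O.2) (hB.diff O.2)
      (Set.disjoint_left.2 fun c hc hc' => hc.2 (hABO ⟨hc.1, hc'.1⟩))
      (hsep'.mono Set.sdiff_subset Set.sdiff_subset)
    let W₁ : Opens X := V₁ ⊓ (⟨P, hP⟩ ⊔ O)
    let W₂ : Opens X := V₂ ⊓ (⟨Q, hQ⟩ ⊔ O)
    have hWO : W₁ ⊓ W₂ ≤ O := fun c hc => by
      rcases hc.1.2 with h | h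
      · rcases hc.2.2 with h' | h'
        · exact (hPQ.notMem_of_mem_left h h').elim
        · exact h'
      · exact h
    obtain ⟨z', hz', hzz⟩ := 𝔅.exists_ext (inf_le_right : W₁ ⊓ W₂ ≤ W₂)
      (k := k) (x := 𝔅.resF hWO z) (fun i hi => by rw [resF_apply, hz i hi, map_zero])
    let y := 𝔅.resF (inf_le_left : W₂ ≤ V₂) y₂ + (𝔅.B W₂).D z'
    have hy : Supp Bi.deg k y := fun i hi => by
      simp only [y, Pi.add_apply, 𝔅.resF_supp _ (supp'_succ_iff.1 hy₂) i hi,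
        (𝔅.B W₂).filtFst.supp_D' hz' i hi, add_zero]
    obtain ⟨w, hw, hw₁, hw₂⟩ := 𝔅.glue₂ (𝔅.resF (inf_le_left : W₁ ≤ V₁) y₁) y
      (𝔅.resF_supp _ (supp'_succ_iff.1 hy₁)) hy (by
        simp only [y, map_add]
        rw [resF_D, hzz, ← resF_D, hzd]
        simp only [map_sub, resF_resF]
        abel)
    refine ⟨W₁ ⊔ W₂, sup_le (inf_le_left.trans hV₁) (inf_le_left.trans hV₂), ?_, w, supp'_succ_iff.2 hw, ?_⟩
    · rw [closure_union, Set.inter_union_distrib_left]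
      refine Set.union_subset (fun c hc => Or.inl ⟨hs hc, ?_⟩) (fun c hc => Or.inr ⟨ht hc, ?_⟩)
      · by_cases hcO : c ∈ O
        · exact Or.inr hcO
        · exact Or.inl (hAP ⟨hc, hcO⟩)
      · by_cases hcO : c ∈ O
        · exact Or.inr hcO
        · exact Or.inl (hBQ ⟨hc, hcO⟩)
    · refine 𝔅.ext₂ ?_ ?_
      · rw [resF_D, hw₁, ← resF_D, e₁, resF_resF, resF_resF]
      · rw [resF_D, hw₂]
        simp only [y, map_add, (𝔅.B W₂).sq, add_zero]
        rw [← resF_D, e₂, resF_resF, resF_resF]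

/-- A bicomplex of germs of a family along a class of opens. -/
structure Germ (N : Opens X → Prop) (G : Bi.{u}) where
  /-- the germ maps -/
  π : ∀ U, N U → ∀ p n, (𝔅.B U).A p n →+ G.A p n
  π_h : ∀ U hU p n x, π U hU (p + 1) n ((𝔅.B U).h p n x) = G.h p n (π U hU p n x)
  π_v : ∀ U hU p n x, π U hU p (n + 1) ((𝔅.B U).v p n x) = G.v p n (π U hU p n x)
  π_res : ∀ {V U} (h : V ≤ U) hV hU p n x, π V hV p n (𝔅.res h p n x) = π U hU p n x
  surj : ∀ U, N U → ∀ p n (t : G.A p n), ∃ (V : Opens X) (_ : V ≤ U) (hV : N V) (s : (𝔅.B V).A p n), π V hV p n s = t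
  kill : ∀ U hU p n x, π U hU p n x = 0 → ∃ (V : Opens X) (h : V ≤ U), N V ∧ 𝔅.res h p n x = 0

namespace Germ

variable {𝔅} {N : Opens X → Prop} {G : Bi.{u}} (γ : 𝔅.Germ N G)

/-- Germs of families. -/
def πF (U : Opens X) (hU : N U) : (∀ i, (𝔅.B U).F i) →+ (∀ i, G.F i) :=
  AddMonoidHom.mk' (fun x i => γ.π U hU i.1 i.2 (x i)) fun _ _ => funext fun _ => map_add _ _ _

lemma πF_apply (U : Opens X) (hU : N U) (x : ∀ i, (𝔅.B U).F i) (i : ℕ × ℕ) :
    γ.πF U hU x i = γ.π U hU i.1 i.2 (x i) := rfl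

lemma πF_D (U : Opens X) (hU : N U) (x : ∀ i, (𝔅.B U).F i) :
    γ.πF U hU ((𝔅.B U).D x) = G.D (γ.πF U hU x) := by
  funext ⟨p, n⟩
  rw [πF_apply, Bi.D_apply, Bi.D_apply, map_add, map_zsmul]
  congr 1
  · rcases p with _ | p
    · exact map_zero _
    · exact γ.π_h U hU p n _
  · congr 1
    rcases n with _ | n
    · exact map_zero _
    · exact γ.π_v U hU p n _

lemma πF_resF {V U : Opens X} (h : V ≤ U) (hV : N V) (hU : N U) (x : ∀ i, (𝔅.B U).F i) :
    γ.πF V hV (𝔅.resF h x) = γ.πF U hU x := funext fun _ => γ.π_res h hV hU _ _ _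

lemma lift {U : Opens X} (hU : N U) (t : ∀ i, G.F i) (s : Finset (ℕ × ℕ)) :
    ∃ (V : Opens X) (_ : V ≤ U) (hV : N V) (y : ∀ i, (𝔅.B V).F i),
      (∀ i ∉ s, y i = 0) ∧ ∀ i ∈ s, γ.πF V hV y i = t i := by
  induction s using Finset.induction_on with
  | empty => exact ⟨U, le_rfl, hU, 0, fun _ _ => rfl, fun i hi => absurd hi (Finset.notMem_empty i)⟩
  | @insert j s hj ih =>
    obtain ⟨V, hV, hNV, y, hy0, hy⟩ := ih
    obtain ⟨V', hV', hNV', a, ha⟩ := γ.surj V hNV j.1 j.2 (t j)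
    refine ⟨V', hV'.trans hV, hNV', Function.update (𝔅.resF hV' y) j a, fun i hi => ?_, fun i hi => ?_⟩
    · rw [Function.update_of_ne (fun e : i = j => hi (e ▸ Finset.mem_insert_self _ _)), resF_apply,
        hy0 i (fun h => hi (Finset.mem_insert_of_mem h)), map_zero]
    · rw [πF_apply]
      rcases eq_or_ne i j with rfl | hne
      · rw [Function.update_self]; exact ha
      · rw [Function.update_of_ne hne]
        exact (γ.π_res hV' hNV' hNV _ _ _).trans (hy i ((Finset.mem_insert.1 hi).resolve_left hne))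

include γ in
lemma killF {U : Opens X} (hU : N U) (x : ∀ i, (𝔅.B U).F i) (hx : γ.πF U hU x = 0) (s : Finset (ℕ × ℕ)) :
    ∃ (V : Opens X) (h : V ≤ U), N V ∧ ∀ i ∈ s, 𝔅.resF h x i = 0 := by
  induction s using Finset.induction_on with
  | empty => exact ⟨U, le_rfl, hU, fun i hi => absurd hi (Finset.notMem_empty i)⟩
  | @insert j s hj ih =>
    obtain ⟨V, hV, hNV, h0⟩ := ih
    obtain ⟨V', hV', hNV', e⟩ := γ.kill V hNV j.1 j.2 (𝔅.resF hV x j)
      ((γ.π_res hV hNV hU _ _ _).trans (congrFun hx j))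
    refine ⟨V', hV'.trans hV, hNV', fun i hi => ?_⟩
    rw [← resF_resF (h := hV') (h' := hV), resF_apply]
    rcases Finset.mem_insert.1 hi with rfl | hi
    · exact e
    · rw [h0 i hi, map_zero]

/-- The indices of a degree. -/
def degSet (k : ℕ) : Finset (ℕ × ℕ) := (Finset.range (k + 1)).image fun p => (p, k - p)

omit γ in
lemma mem_degSet {k : ℕ} {i : ℕ × ℕ} : i ∈ degSet k ↔ Bi.deg i = k := by
  obtain ⟨p, n⟩ := i
  simp only [degSet, Finset.mem_image, Finset.mem_range, Prod.mk.injEq, Bi.deg]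
  exact ⟨fun ⟨q, hq, e₁, e₂⟩ => by omega, fun h => ⟨p, by omega, rfl, by omega⟩⟩

include γ in
lemma lift_deg {U : Opens X} (hU : N U) (k : ℕ) (t : ∀ i, G.F i) (ht : Supp Bi.deg k t) :
    ∃ (V : Opens X) (_ : V ≤ U) (hV : N V) (y : ∀ i, (𝔅.B V).F i), Supp Bi.deg k y ∧ γ.πF V hV y = t := by
  obtain ⟨V, hV, hNV, y, h0, hy⟩ := γ.lift hU t (degSet k)
  refine ⟨V, hV, hNV, y, fun i hi => h0 i (mt mem_degSet.1 hi), funext fun i => ?_⟩
  by_cases hi : Bi.deg i = k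
  · exact hy i (mem_degSet.2 hi)
  · rw [πF_apply, h0 i (mt mem_degSet.1 hi), map_zero]; exact (ht i hi).symm

include γ in
lemma kill_deg {U : Opens X} (hU : N U) (k : ℕ) (x : ∀ i, (𝔅.B U).F i) (hs : Supp Bi.deg k x)
    (hx : γ.πF U hU x = 0) : ∃ (V : Opens X) (h : V ≤ U), N V ∧ 𝔅.resF h x = 0 := by
  obtain ⟨V, hV, hNV, h0⟩ := γ.killF hU x hx (degSet k)
  refine ⟨V, hV, hNV, funext fun i => ?_⟩
  by_cases hi : Bi.deg i = k
  · exact h0 i (mem_degSet.2 hi)
  · exact 𝔅.resF_supp hV hs i hi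

include γ in
/-- Exact germs give exactness along the class. -/
theorem exactOn (hG : G.Exact) : 𝔅.ExactOn N := fun U hU k x hx hD => by
  obtain ⟨t, ht, htx⟩ := hG k (γ.πF U hU x) (fun i hi => by rw [πF_apply, hx i hi, map_zero])
    (by rw [← πF_D, hD, map_zero])
  rcases k with _ | k
  · obtain ⟨V, hV, hNV, h0⟩ := γ.kill_deg hU 0 x hx (by rw [← htx, supp'_zero ht, map_zero])
    exact ⟨V, hV, hNV, 0, fun _ _ => rfl, by rw [map_zero, h0]⟩
  · obtain ⟨V, hV, hNV, y, hy, hyt⟩ := γ.lift_deg hU k t (supp'_succ_iff.1 ht)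
    obtain ⟨V', hV', hNV', h0⟩ := γ.kill_deg hNV (k + 1) ((𝔅.B V).D y - 𝔅.resF hV x)
      (fun i hi => by rw [Pi.sub_apply, (𝔅.B V).supp k y hy i hi, 𝔅.resF_supp hV hx i hi, sub_zero])
      (by rw [map_sub, πF_D, hyt, htx, πF_resF γ hV hNV hU, sub_self])
    refine ⟨V', hV'.trans hV, hNV', 𝔅.resF hV' y, supp'_succ_iff.2 (𝔅.resF_supp hV' hy), ?_⟩
    rw [map_sub, sub_eq_zero, resF_D, resF_resF] at h0
    exact h0

include γ in
/-- Exactness along the class gives exact germs. -/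
theorem exact {U₀ : Opens X} (hU₀ : N U₀) (h : 𝔅.ExactOn N) : G.Exact := fun k t ht hDt => by
  obtain ⟨V, -, hNV, x, hx, hxt⟩ := γ.lift_deg hU₀ k t ht
  obtain ⟨V', hV', hNV', h0⟩ := γ.kill_deg hNV (k + 1) ((𝔅.B V).D x) ((𝔅.B V).supp k x hx)
    (by rw [πF_D, hxt, hDt])
  obtain ⟨W, hW, hNW, y, hy, hyx⟩ := h V' hNV' k (𝔅.resF hV' x) (𝔅.resF_supp hV' hx) (by rw [← resF_D, h0])
  refine ⟨γ.πF W hNW y, fun i hi => by rw [πF_apply, hy i hi, map_zero], ?_⟩
  rw [← πF_D, hyx, πF_resF γ hW hNW hNV', πF_resF γ hV' hNV' hNV, hxt]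

end Germ

end BiSh

end Groth.Agent.CohDesc82
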