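import Groth.Agent.CohDesc82.Tot
import Mathlib.Algebra.Homology.QuasiIso
import Mathlib.Algebra.Homology.ShortComplex.Ab
import Mathlib.Algebra.Homology.HomotopyCategory
import Mathlib.Algebra.Homology.Embedding.CochainComplex

/-!
# Quasi-isomorphisms of complexes of abelian groups, elementwise, and the two column bicomplex of a map
-/

universe u

set_option autoImplicit false
set_option linter.unusedSimpArgs false
set_option backward.isDefEq.respectTransparency false
set_option backward.isDefEq.respectTransparency.types false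

open CategoryTheory CategoryTheory.Limits

namespace Groth.Agent.CohDesc82

variable {C C' : CochainComplex AddCommGrpCat.{u} ℤ}

/-- The cone of a map is exact, elementwise. -/
def ConeEx (φ : C ⟶ C') : Prop :=
  ∀ i j k l : ℤ, i + 1 = j → j + 1 = k → k + 1 = l → ∀ (a : C.X k) (b : C'.X j), (C.d k l).hom a = 0 →
    (φ.f k).hom a = (C'.d j k).hom b →
      ∃ (a' : C.X j) (b' : C'.X i), (C.d j k).hom a' = a ∧ (φ.f j).hom a' - (C'.d i j).hom b' = b

theorem quasiIsoAt_iff_ab (φ : C ⟶ C') {i j k : ℤ} (hi : i + 1 = j) (hk : j + 1 = k) :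
    QuasiIsoAt φ j ↔
      (∀ z : C'.X j, (C'.d j k).hom z = 0 →
        ∃ (y : C.X j) (w : C'.X i), (C.d j k).hom y = 0 ∧ (φ.f j).hom y - z = (C'.d i j).hom w) ∧
      ∀ (y : C.X j) (w : C'.X i), (C.d j k).hom y = 0 → (φ.f j).hom y = (C'.d i j).hom w →
        ∃ w', (C.d i j).hom w' = y := by
  rw [quasiIsoAt_iff' φ i j k (by simp; omega) (by simp; omega), ShortComplex.quasiIso_iff]
  let f := (HomologicalComplex.shortComplexFunctor' AddCommGrpCat.{u} (ComplexShape.up ℤ) i j k).map φ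
  rw [ConcreteCategory.isIso_iff_bijective]
  let S := C.sc' i j k
  let T := C'.sc' i j k
  have hf : ∀ c : S.cycles, T.iCycles (ShortComplex.cyclesMap f c) = φ.f j (S.iCycles c) := fun c =>
    ConcreteCategory.congr_hom (ShortComplex.cyclesMap_i f) c
  have hπ : ∀ c : S.cycles, ShortComplex.homologyMap f (S.homologyπ c) = T.homologyπ (ShortComplex.cyclesMap f c) :=
    fun c => ConcreteCategory.congr_hom (ShortComplex.homologyπ_naturality f) c
  have hker : ∀ (R : ShortComplex AddCommGrpCat.{u}) (c : R.cycles),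
      R.homologyπ c = 0 ↔ ∃ w, R.f w = R.iCycles c := fun R c => by
    refine ⟨fun h => ?_, fun ⟨w, hw⟩ => ?_⟩
    · obtain ⟨w, hw⟩ := (ShortComplex.ab_exact_iff _).1 (ShortComplex.exact_of_g_is_cokernel
        (ShortComplex.mk _ _ R.toCycles_comp_homologyπ) R.homologyIsCokernel) _ h
      exact ⟨w, by rw [← hw]; exact (ConcreteCategory.congr_hom R.toCycles_i w).symm⟩
    · have : c = R.toCycles w :=
        (AddCommGrpCat.mono_iff_injective R.iCycles).1 inferInstance
          (hw.symm.trans (ConcreteCategory.congr_hom R.toCycles_i w).symm)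
      rw [this]
      exact ConcreteCategory.congr_hom R.toCycles_comp_homologyπ w
  have hsurj : ∀ (R : ShortComplex AddCommGrpCat.{u}), Function.Surjective R.homologyπ := fun R =>
    (AddCommGrpCat.epi_iff_surjective _).1 inferInstance
  have hcyc : ∀ (R : ShortComplex AddCommGrpCat.{u}) (y : R.X₂), R.g y = 0 → ∃ c, R.iCycles c = y :=
    fun R y hy => ⟨R.abCyclesIso.inv ⟨y, hy⟩, R.abCyclesIso_inv_apply_iCycles ⟨y, hy⟩⟩
  constructor
  · rintro ⟨hinj, hsur⟩
    refine ⟨fun z hz => ?_, fun y w hy hyw => ?_⟩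
    · obtain ⟨c', hc'⟩ := hcyc T z hz
      obtain ⟨a, ha⟩ := hsur (T.homologyπ c')
      obtain ⟨c, rfl⟩ := hsurj S a
      have ha' : T.homologyπ (ShortComplex.cyclesMap f c) = T.homologyπ c' := (hπ c).symm.trans ha
      obtain ⟨w, hw⟩ := (hker T (ShortComplex.cyclesMap f c - c')).1 (by rw [map_sub, sub_eq_zero]; exact ha')
      refine ⟨S.iCycles c, w, ConcreteCategory.congr_hom S.iCycles_g c, ?_⟩
      rw [map_sub, hf, hc'] at hw
      exact hw.symm
    · obtain ⟨c, hc⟩ := hcyc S y hy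
      have h1 : ShortComplex.homologyMap f (S.homologyπ c) = 0 := by
        rw [hπ, hker]
        exact ⟨w, by rw [hf, hc]; exact hyw.symm⟩
      obtain ⟨w', hw'⟩ := (hker S c).1 (hinj (h1.trans (map_zero _).symm))
      exact ⟨w', hw'.trans hc⟩
  · rintro ⟨hs, hi⟩
    refine ⟨(injective_iff_map_eq_zero _).2 fun a ha => ?_, fun a => ?_⟩
    · obtain ⟨c, rfl⟩ := hsurj S a
      have ha' : T.homologyπ (ShortComplex.cyclesMap f c) = 0 := (hπ c).symm.trans ha
      obtain ⟨w, hw⟩ := (hker T _).1 ha'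
      rw [hf] at hw
      exact (hker S c).2 (hi (S.iCycles c) w (ConcreteCategory.congr_hom S.iCycles_g c) hw.symm)
    · obtain ⟨c', rfl⟩ := hsurj T a
      obtain ⟨y, w, hy, hw⟩ := hs (T.iCycles c') (ConcreteCategory.congr_hom T.iCycles_g c')
      obtain ⟨c, hc⟩ := hcyc S y hy
      refine ⟨S.homologyπ c, ?_⟩
      refine (hπ c).trans ?_
      have h0 : T.homologyπ (ShortComplex.cyclesMap f c - c') = 0 :=
        (hker T _).2 ⟨w, by rw [map_sub, hf, hc]; exact hw.symm⟩
      rwa [map_sub, sub_eq_zero] at h0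

theorem quasiIso_iff_coneEx (φ : C ⟶ C') : QuasiIso φ ↔ ConeEx φ := by
  constructor
  · intro h i j k l hij hjk hkl a b ha hab
    obtain ⟨a₀, ha₀⟩ := ((quasiIsoAt_iff_ab φ hjk hkl).1 (h.quasiIsoAt k)).2 a b ha hab
    have hφ : (φ.f k).hom ((C.d j k).hom a₀) = (C'.d j k).hom ((φ.f j).hom a₀) :=
      (ConcreteCategory.congr_hom (φ.comm j k) a₀).symm
    obtain ⟨y, w, hy, hw⟩ := ((quasiIsoAt_iff_ab φ hij hjk).1 (h.quasiIsoAt j)).1 (b - (φ.f j).hom a₀)
      (by rw [map_sub, ← hφ, ha₀, hab, sub_self])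
    refine ⟨a₀ + y, w, by rw [map_add, hy, add_zero, ha₀], ?_⟩
    rw [map_add, ← hw]
    abel
  · intro h
    refine ⟨fun n => (quasiIsoAt_iff_ab φ (show (n - 1) + 1 = n by omega) rfl).2 ⟨fun z hz => ?_, ?_⟩⟩
    · obtain ⟨y, w, hy, hyw⟩ := h (n - 1) n (n + 1) (n + 1 + 1) (by omega) rfl rfl 0 z (map_zero _)
        (by rw [map_zero, hz])
      exact ⟨y, w, hy, by rw [← hyw]; abel⟩
    · intro y w hy hyw
      obtain ⟨a', -, ha', -⟩ := h (n - 1 - 1) (n - 1) n (n + 1) (by omega) (by omega) rfl y w hy hyw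
      exact ⟨a', ha'⟩

/-- The zero group. -/
noncomputable abbrev zeroGrp : AddCommGrpCat.{u} := AddCommGrpCat.of PUnit.{u + 1}

/-- The terms of the bicomplex of a map. -/
noncomputable def coneA (C C' : CochainComplex AddCommGrpCat.{u} ℤ) (d : ℤ) : ℕ → ℕ → AddCommGrpCat.{u}
  | 0, m => C.X (d + m)
  | 1, m => C'.X (d + m)
  | _ + 2, _ => zeroGrp

/-- The two column bicomplex of a map, in degrees `≥ d`. -/
noncomputable abbrev Bi.cone (φ : C ⟶ C') (d : ℤ) : Bi.{u} where
  A := coneA C C' d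
  h p m := match p with
    | 0 => (φ.f (d + m)).hom
    | _ + 1 => 0
  v p m := match p with
    | 0 => (C.d (d + m) (d + (m + 1 : ℕ))).hom
    | 1 => (C'.d (d + m) (d + (m + 1 : ℕ))).hom
    | _ + 2 => 0
  hh p m x := by rcases p with _ | p <;> rfl
  vv p m x := match p, x with
    | 0, x => ConcreteCategory.congr_hom (C.d_comp_d (d + m) (d + (m + 1 : ℕ)) (d + (m + 1 + 1 : ℕ))) x
    | 1, x => ConcreteCategory.congr_hom (C'.d_comp_d (d + m) (d + (m + 1 : ℕ)) (d + (m + 1 + 1 : ℕ))) x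
    | _ + 2, _ => rfl
  hv p m x := match p, x with
    | 0, x => (ConcreteCategory.congr_hom (φ.comm (d + m) (d + (m + 1 : ℕ))) x).symm
    | 1, _ => (map_zero _).symm
    | _ + 2, _ => rfl

theorem eq_zero_of_lt (C : CochainComplex AddCommGrpCat.{u} ℤ) {d n : ℤ} [C.IsStrictlyGE d] (h : n < d)
    (x : C.X n) : x = 0 :=
  have : 𝟙 (C.X n) = 0 := (C.isZero_of_isStrictlyGE d n h).eq_of_src _ _
  ConcreteCategory.congr_hom this x

theorem Bi.cone_D_zero (φ : C ⟶ C') (d : ℤ) (x : ∀ i, (Bi.cone φ d).F i) (n : ℕ) :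
    (Bi.cone φ d).D x (0, n + 1) = (C.d (d + n) (d + (n + 1 : ℕ))).hom (x (0, n)) := by
  rw [Bi.D_apply]
  show (0 : C.X (d + (n + 1 : ℕ))) + (1 : ℤ) • _ = _
  rw [one_smul, zero_add]
  rfl

theorem Bi.cone_D_one_zero (φ : C ⟶ C') (d : ℤ) (x : ∀ i, (Bi.cone φ d).F i) :
    (Bi.cone φ d).D x (1, 0) = (φ.f (d + (0 : ℕ))).hom (x (0, 0)) := by
  rw [Bi.D_apply]
  show (φ.f (d + (0 : ℕ))).hom (x (0, 0)) + ((-1 : ℤ) ^ (1 : ℕ)) • (0 : C'.X (d + (0 : ℕ))) = _
  rw [smul_zero, add_zero]

theorem Bi.cone_D_one (φ : C ⟶ C') (d : ℤ) (x : ∀ i, (Bi.cone φ d).F i) (n : ℕ) :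
    (Bi.cone φ d).D x (1, n + 1) = (φ.f (d + (n + 1 : ℕ))).hom (x (0, n + 1)) -
      (C'.d (d + n) (d + (n + 1 : ℕ))).hom (x (1, n)) := by
  rw [Bi.D_apply]
  show _ + (-1 : ℤ) • _ = _
  rw [neg_one_smul, ← sub_eq_add_neg]
  rfl

theorem Bi.cone_exact_of_coneEx {φ : C ⟶ C'} {d : ℤ} [C.IsStrictlyGE d] [C'.IsStrictlyGE d] (h : ConeEx φ) :
    (Bi.cone φ d).Exact := by
  intro k x hx hD
  have hD0 : ∀ n : ℕ, (C.d (d + n) (d + (n + 1 : ℕ))).hom (x (0, n)) = 0 := fun n => by
    have e := congrFun hD (0, n + 1)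
    rw [Bi.cone_D_zero] at e
    exact e
  rcases k with _ | k
  · have e := congrFun hD (1, 0)
    rw [Bi.cone_D_one_zero] at e
    obtain ⟨a', -, ha', -⟩ := h (d - 2) (d - 1) (d + (0 : ℕ)) (d + (0 + 1 : ℕ)) (by omega) (by simp) (by simp)
      (x (0, 0)) 0 (hD0 0) (e.trans (map_zero _).symm)
    refine ⟨0, fun _ _ => rfl, ?_⟩
    rw [map_zero]
    funext ⟨p, m⟩
    by_cases hi : p + m = 0
    · obtain ⟨rfl, rfl⟩ : p = 0 ∧ m = 0 := by omega
      rw [eq_zero_of_lt C (show d - 1 < d by omega) a', map_zero] at ha'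
      exact ha'
    · exact (hx (p, m) (by simpa [Bi.deg] using hi)).symm
  · have e := congrFun hD (1, k + 1)
    rw [Bi.cone_D_one] at e
    obtain ⟨a', b', ha', hb'⟩ := h (d + k - 1) (d + k) (d + (k + 1 : ℕ)) (d + (k + 1 + 1 : ℕ)) (by omega)
      (by push_cast; ring) (by push_cast; ring) (x (0, k + 1)) (x (1, k)) (hD0 (k + 1))
      (sub_eq_zero.1 e)
    rcases k with _ | k
    · have hb0 : b' = 0 := eq_zero_of_lt C' (show d + ((0 : ℕ) : ℤ) - 1 < d by omega) b'
      rw [hb0, map_zero, sub_zero] at hb'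
      refine ⟨(Bi.cone φ d).single (0, 0) a', fun i hi => Bi.single_ne _ _ (by rintro rfl; simp [Bi.deg] at hi),
        funext fun i => ?_⟩
      rcases i with ⟨p, m⟩
      by_cases hi : p + m = 1
      · rcases p with _ | _ | p
        · obtain rfl : m = 1 := by omega
          rw [Bi.cone_D_zero, Bi.single_self]; exact ha'
        · obtain rfl : m = 0 := by omega
          rw [Bi.cone_D_one_zero, Bi.single_self]; exact hb'
        · omega
      · rw [hx (p, m) (by simpa [Bi.deg] using hi)]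
        exact (Bi.cone φ d).supp 0 _ (fun i hi => Bi.single_ne _ _ (by rintro rfl; simp [Bi.deg] at hi)) (p, m)
          (by simpa [Bi.deg] using hi)
    · have v1 : ∀ (u : C.X (d + (k + 1 : ℕ))) (w : C'.X (d + k)),
          ((Bi.cone φ d).single (0, k + 1) u + (Bi.cone φ d).single (1, k) w) (0, k + 1) = u :=
        fun u w => by rw [Pi.add_apply, Bi.single_self, Bi.single_ne _ _ (by simp), add_zero]
      have v2 : ∀ (u : C.X (d + (k + 1 : ℕ))) (w : C'.X (d + k)),
          ((Bi.cone φ d).single (0, k + 1) u + (Bi.cone φ d).single (1, k) w) (1, k) = w :=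
        fun u w => (Pi.add_apply _ _ _).trans
          (by rw [Bi.single_self, Bi.single_ne _ _ (show ((1, k) : ℕ × ℕ) ≠ (0, k + 1) by simp)]; exact zero_add _)
      let b₀ : C'.X (d + k) := (C'.XIsoOfEq (show d + ((k + 1 : ℕ) : ℤ) - 1 = d + k by push_cast; ring)).hom.hom b'
      have hb : (C'.d (d + k) (d + (k + 1 : ℕ))).hom b₀ =
          (C'.d (d + ((k + 1 : ℕ) : ℤ) - 1) (d + (k + 1 : ℕ))).hom b' := by
        exact ConcreteCategory.congr_hom (C'.XIsoOfEq_hom_comp_d _ _) b'
      rw [← hb] at hb'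
      have hs : Supp Bi.deg (k + 1) ((Bi.cone φ d).single (0, k + 1) a' + (Bi.cone φ d).single (1, k) b₀) :=
        fun i hi => by
          rw [Pi.add_apply, Bi.single_ne _ _ (by rintro rfl; simp [Bi.deg] at hi),
            Bi.single_ne _ _ (by rintro rfl; simp [Bi.deg] at hi; omega), add_zero]
      refine ⟨_, supp'_succ_iff.2 hs, funext fun i => ?_⟩
      rcases i with ⟨p, m⟩
      by_cases hi : p + m = k + 2
      · rcases p with _ | _ | p
        · obtain rfl : m = k + 2 := by omega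
          rw [Bi.cone_D_zero, Pi.add_apply, Bi.single_self, Bi.single_ne _ _ (by simp), add_zero]; exact ha'
        · obtain rfl : m = k + 1 := by omega
          refine (Bi.cone_D_one φ d _ k).trans ?_; rw [v1, v2]; exact hb'
        · exact Subsingleton.elim (α := PUnit) _ _
      · rw [hx (p, m) (by simpa [Bi.deg] using hi)]
        exact (Bi.cone φ d).supp (k + 1) _ hs (p, m) (by simpa [Bi.deg] using hi)

theorem Bi.coneEx_of_exact {φ : C ⟶ C'} {d : ℤ} [C.IsStrictlyGE d] [C'.IsStrictlyGE d]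
    (h : (Bi.cone φ d).Exact) : ConeEx φ := by
  intro i j k l hij hjk hkl a b ha hab
  by_cases hk : k < d
  · exact ⟨0, 0, by rw [map_zero, eq_zero_of_lt C hk a], by
      rw [map_zero, map_zero, sub_zero, eq_zero_of_lt C' (show j < d by omega) b]⟩
  obtain ⟨n, rfl⟩ : ∃ n : ℕ, k = d + n := ⟨(k - d).toNat, by omega⟩
  obtain rfl : l = d + (n + 1 : ℕ) := by push_cast; omega
  rcases n with _ | n
  · let x := (Bi.cone φ d).single (0, 0) a
    have hj : j < d := by omega
    rw [eq_zero_of_lt C' hj b, map_zero] at hab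
    obtain ⟨y, hy, hyx⟩ := h 0 x (fun i hi => Bi.single_ne _ _ (by rintro rfl; simp [Bi.deg] at hi)) (by
      funext ⟨p, m⟩
      by_cases hi : p + m = 1
      · rcases p with _ | _ | p
        · obtain rfl : m = 1 := by omega
          rw [Bi.cone_D_zero]
          simp only [x]
          rw [Bi.single_self]
          exact ha
        · obtain rfl : m = 0 := by omega
          rw [Bi.cone_D_one_zero]
          simp only [x]
          rw [Bi.single_self]
          exact hab
        · omega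
      · exact (Bi.cone φ d).supp 0 x (fun i hi => Bi.single_ne _ _ (by rintro rfl; simp [Bi.deg] at hi)) (p, m)
          (by simpa [Bi.deg] using hi))
    refine ⟨0, 0, ?_, by rw [map_zero, map_zero, sub_zero, eq_zero_of_lt C' hj b]⟩
    rw [map_zero]
    have e := congrFun hyx (0, 0)
    rw [supp'_zero hy, map_zero] at e
    simpa [x, Bi.single_self] using e
  · obtain rfl : j = d + n := by push_cast at hjk; omega
    let x := (Bi.cone φ d).single (0, n + 1) a + (Bi.cone φ d).single (1, n) b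
    have hx : Supp Bi.deg (n + 1) x := fun i hi => by
      simp only [x, Pi.add_apply]
      rw [Bi.single_ne _ _ (by rintro rfl; simp [Bi.deg] at hi),
        Bi.single_ne _ _ (by rintro rfl; simp [Bi.deg] at hi; omega), add_zero]
    have v1 : x (0, n + 1) = a := by
      simp only [x]; rw [Pi.add_apply, Bi.single_self, Bi.single_ne _ _ (by simp), add_zero]
    have v2 : x (1, n) = b := (Pi.add_apply _ _ _).trans
      (by rw [Bi.single_self, Bi.single_ne _ _ (show ((1, n) : ℕ × ℕ) ≠ (0, n + 1) by simp)]; exact zero_add _)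
    obtain ⟨y, hy, hyx⟩ := h (n + 1) x hx (by
      funext ⟨p, m⟩
      by_cases hi : p + m = n + 2
      · rcases p with _ | _ | p
        · obtain rfl : m = n + 2 := by omega
          refine (Bi.cone_D_zero φ d x (n + 1)).trans ?_; rw [v1]; exact ha
        · obtain rfl : m = n + 1 := by omega
          refine (Bi.cone_D_one φ d x n).trans ?_
          rw [v1, v2]
          exact sub_eq_zero.2 hab
        · exact Subsingleton.elim (α := PUnit) _ _
      · exact (Bi.cone φ d).supp (n + 1) x hx (p, m) (by simpa [Bi.deg] using hi))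
    have e0 : (C.d (d + n) (d + (n + 1 : ℕ))).hom (y (0, n)) = a := by
      have e := congrFun hyx (0, n + 1)
      rw [Bi.cone_D_zero, v1] at e
      exact e
    rcases n with _ | n
    · refine ⟨y (0, 0), 0, e0, ?_⟩
      rw [map_zero, sub_zero]
      have e := congrFun hyx (1, 0)
      rw [Bi.cone_D_one_zero, v2] at e
      exact e
    · obtain rfl : i = d + n := by push_cast at hij; omega
      refine ⟨y (0, n + 1), y (1, n), e0, ?_⟩
      have e := congrFun hyx (1, n + 1)
      rw [Bi.cone_D_one, v2] at e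
      exact e

theorem Bi.cone_exact_iff (φ : C ⟶ C') (d : ℤ) [C.IsStrictlyGE d] [C'.IsStrictlyGE d] :
    (Bi.cone φ d).Exact ↔ QuasiIso φ :=
  (quasiIso_iff_coneEx φ).symm.eq ▸ ⟨Bi.coneEx_of_exact, Bi.cone_exact_of_coneEx⟩

end Groth.Agent.CohDesc82
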