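import Groth.Agent.CohDesc82.Stalks
import Mathlib.AlgebraicTopology.AlternatingFaceMapComplex
import Mathlib.AlgebraicTopology.SimplexCategory.Augmented.Basic

/-!
# The Cech criterion for cohomological descent
-/

universe u

set_option autoImplicit false
set_option backward.isDefEq.respectTransparency false
set_option backward.isDefEq.respectTransparency.types false

open CategoryTheory CategoryTheory.Limits Opposite TopologicalSpace AlgebraicTopology Simplicial

namespace Groth.Agent.CohDesc82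

noncomputable section

/-- The augmented simplex category. -/
abbrev AΔ : Type := WithInitial SimplexCategory

/-- Its objects, numbered from the initial one. -/
def idx : ℕ → AΔ
  | 0 => WithInitial.star
  | p + 1 => WithInitial.of ⦋p⦌

/-- The unique map from the initial object. -/
abbrev fromStar (i : AΔ) : WithInitial.star ⟶ i := WithInitial.starInitial.to i

/-- The cosimplicial group of an augmented one. -/
abbrev cosimp (C : AΔ ⥤ AddCommGrpCat.{u}) : CosimplicialObject AddCommGrpCat.{u} := WithInitial.incl ⋙ C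

/-- The differentials of the augmented complex. -/
def cd (C : AΔ ⥤ AddCommGrpCat.{u}) : ∀ p, C.obj (idx p) →+ C.obj (idx (p + 1))
  | 0 => (C.map (fromStar (WithInitial.of ⦋0⦌))).hom
  | p + 1 => (AlternatingCofaceMapComplex.objD (cosimp C) p).hom

theorem cd_zero (C : AΔ ⥤ AddCommGrpCat.{u}) (x : C.obj (idx 0)) :
    cd C 0 x = (C.map (fromStar (WithInitial.of ⦋0⦌))).hom x := rfl

theorem cd_succ (C : AΔ ⥤ AddCommGrpCat.{u}) (p : ℕ) (x : C.obj (idx (p + 1))) :
    cd C (p + 1) x = ∑ k : Fin (p + 2), (-1 : ℤ) ^ (k : ℕ) •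
      (C.map (WithInitial.incl.map (SimplexCategory.δ k))).hom x := by
  let e : ((cosimp C).obj ⦋p⦌ ⟶ (cosimp C).obj ⦋p + 1⦌) →+ (cosimp C).obj ⦋p + 1⦌ :=
    AddMonoidHom.mk' (fun q => q.hom x) fun _ _ => rfl
  show e (∑ k : Fin (p + 2), (-1 : ℤ) ^ (k : ℕ) • (cosimp C).δ k) = _
  rw [map_sum]
  exact Finset.sum_congr rfl fun k _ => map_zsmul e _ _

theorem cd_natural {C C' : AΔ ⥤ AddCommGrpCat.{u}} (φ : C ⟶ C') (p : ℕ) (x : C.obj (idx p)) :
    (φ.app (idx (p + 1))).hom (cd C p x) = cd C' p ((φ.app (idx p)).hom x) := by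
  rcases p with _ | p
  · exact ConcreteCategory.congr_hom (φ.naturality (fromStar _)) x
  · rw [cd_succ, cd_succ]
    refine (map_sum (φ.app (idx (p + 1 + 1))).hom _ _).trans (Finset.sum_congr rfl fun k _ => ?_)
    exact (map_zsmul _ _ _).trans (congrArg _ (ConcreteCategory.congr_hom (φ.naturality _) x))

theorem cd_cd (C : AΔ ⥤ AddCommGrpCat.{u}) (p : ℕ) (x : C.obj (idx p)) : cd C (p + 1) (cd C p x) = 0 := by
  rcases p with _ | p
  · rw [cd_succ, cd_zero, Fin.sum_univ_two]
    have h : ∀ k : Fin 2, (C.map (WithInitial.incl.map (SimplexCategory.δ k))).hom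
        ((C.map (fromStar (WithInitial.of ⦋0⦌))).hom x) = (C.map (fromStar (WithInitial.of ⦋1⦌))).hom x := fun k => by
      refine ((ConcreteCategory.comp_apply _ _ x).symm.trans ?_)
      rw [← C.map_comp]
      exact congrArg (fun q => (C.map q).hom x) (WithInitial.starInitial.hom_ext _ _)
    refine (congrArg₂ (· + ·) (congrArg ((-1 : ℤ) ^ ((0 : Fin 2) : ℕ) • ·) (h 0))
      (congrArg ((-1 : ℤ) ^ ((1 : Fin 2) : ℕ) • ·) (h 1))).trans ?_
    simp
  · exact ConcreteCategory.congr_hom (AlternatingCofaceMapComplex.d_squared (cosimp C) p) x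

/-- The bicomplex of a complex of augmented cosimplicial groups. -/
abbrev Bi.ofAug (C : ℕ → AΔ ⥤ AddCommGrpCat.{u}) (d : ∀ n, C n ⟶ C (n + 1))
    (dd : ∀ n, d n ≫ d (n + 1) = 0) : Bi.{u} where
  A p n := (C n).obj (idx p)
  h p n := cd (C n) p
  v p n := ((d n).app (idx p)).hom
  hh p n x := cd_cd (C n) p x
  vv p n x := ConcreteCategory.congr_hom (congrArg (fun q => q.app (idx p)) (dd n)) x
  hv p n x := (cd_natural (d n) p x).symm

variable (Z : AΔᵒᵖ ⥤ TopCat.{u})

/-- The base point is final. -/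
def hbot : IsTerminal (op WithInitial.star : AΔᵒᵖ) := terminalOpOfInitial WithInitial.starInitial

/-- The preimage of an open of the base. -/
abbrev lev (U : Opens (Z.obj (op WithInitial.star))) (i : AΔᵒᵖ) : Opens (Z.obj i) :=
  (Opens.map (Z.map (hbot.from i))).obj U

theorem mem_lev (U : Opens (Z.obj (op WithInitial.star))) {i j : AΔᵒᵖ} (f : i ⟶ j) :
    ∀ x ∈ lev Z U i, Z.map f x ∈ lev Z U j := fun x (hx : Z.map (hbot.from i) x ∈ U) => by
  show Z.map (hbot.from j) (Z.map f x) ∈ U
  rwa [← ConcreteCategory.comp_apply, ← Z.map_comp, hbot.hom_ext (f ≫ hbot.from j) (hbot.from i)]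

/-- The sections of a presheaf over the levels of an open of the base. -/
abbrev lvl (U : Opens (Z.obj (op WithInitial.star))) : AΔ ⥤ (Pseudofunctor.CoGrothendieck (osF Z))ᵒᵖ where
  obj i := op (pl (op i) (lev Z U (op i)))
  map f := (hm f.op (mem_lev Z U f.op)).op
  map_id i := congrArg Quiver.Hom.op (hom_ext' _ (𝟙 _) rfl)
  map_comp f g := congrArg Quiver.Hom.op (hom_ext' _ (hm g.op (mem_lev Z U g.op) ≫ hm f.op (mem_lev Z U f.op)) rfl)

/-- The augmented cosimplicial group of a presheaf. -/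
abbrev csec (P : Pre Z) (U : Opens (Z.obj (op WithInitial.star))) : AΔ ⥤ AddCommGrpCat.{u} := lvl Z U ⋙ P

/-- The Cech bicomplex of a complex of sheaves. -/
abbrev cechBi (K : CochainComplex (Sh Z) ℤ) (d : ℤ) (U : Opens (Z.obj (op WithInitial.star))) : Bi.{u} :=
  Bi.ofAug (fun n => csec Z (K.X (d + n)).obj U)
    (fun n => Functor.whiskerLeft (lvl Z U) (K.d (d + n) (d + (n + 1 : ℕ))).hom)
    (fun n => by
      rw [← Functor.whiskerLeft_comp]
      exact (congrArg (fun q => Functor.whiskerLeft (lvl Z U) q.hom)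
        (K.d_comp_d (d + n) (d + (n + 1 : ℕ)) (d + (n + 1 + 1 : ℕ)))).trans (by rfl))

variable {Z}

/-- All transition maps on stalks are quasi-isomorphisms. -/
def Cart {𝒮 : Type} [Category.{0} 𝒮] {Y : 𝒮 ⥤ TopCat.{u}} (K : CochainComplex (Sh Y) ℤ) : Prop :=
  ∀ ⦃i j : 𝒮⦄ (f : i ⟶ j) (x : Y.obj i) (y : Y.obj j) (h : Y.map f x = y),
    QuasiIso ((NatTrans.mapHomologicalComplex (trans f x y h) _).app K)

variable (Z)

/-- The Cech criterion. -/
def Crit : Prop :=
  ∀ (K : CochainComplex (Sh Z) ℤ) (d : ℤ) [K.IsStrictlyGE d], (∀ n, FlFib (K.X n).obj) → Cart K →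
    ∀ U, (cechBi Z K d U).Exact

end

end Groth.Agent.CohDesc82
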