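import Groth.Agent.CohDesc82.Stalks
import Mathlib.CategoryTheory.Limits.Shapes.IsTerminal
import Mathlib.CategoryTheory.Abelian.Exact

/-!
# Extension from a final space: stalks, exactness
-/

universe w v u

set_option autoImplicit false
set_option backward.isDefEq.respectTransparency false
set_option backward.isDefEq.respectTransparency.types false

open CategoryTheory CategoryTheory.Limits Opposite Pseudofunctor.CoGrothendieck TopologicalSpace

namespace Groth.Agent.CohDesc82

noncomputable section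

variable {𝒮 : Type w} [Category.{v} 𝒮] {Y : 𝒮 ⥤ TopCat.{u}}

variable (Y) in
/-- A family of groups at the points, with transition maps. -/
structure PtFam where
  /-- the groups -/
  A : ∀ i : 𝒮, Y.obj i → AddCommGrpCat.{u}
  /-- the transition maps -/
  m : ∀ {i j : 𝒮} (f : i ⟶ j) (x : Y.obj i) (y : Y.obj j), Y.map f x = y → (A j y →+ A i x)
  m_self : ∀ {i : 𝒮} (f : i ⟶ i), f = 𝟙 i → ∀ (x : Y.obj i) (h : Y.map f x = x) (a : A i x), m f x x h a = a
  m_comp : ∀ {i j k : 𝒮} (f : i ⟶ j) (g : j ⟶ k) (x : Y.obj i) (y : Y.obj j) (z : Y.obj k)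
    (h : Y.map f x = y) (h' : Y.map g y = z) (e : i ⟶ k) (_ : f ≫ g = e) (h'' : Y.map e x = z) (a : A k z),
    m f x y h (m g y z h' a) = m e x z h'' a

namespace PtFam

variable (P : PtFam Y)

/-- The presheaf of arbitrary families. -/
def pre : Pre Y where
  obj a := AddCommGrpCat.of (∀ x : (show Opens (Y.obj a.unop.base) from a.unop.fiber), P.A a.unop.base x.1)
  map {a b} φ := AddCommGrpCat.ofHom (AddMonoidHom.mk'
    (fun s x => P.m φ.unop.base x.1 (Y.map φ.unop.base x.1) rfl
      (s ⟨Y.map φ.unop.base x.1, mem_of_hom (i := b.unop.base) (j := a.unop.base) φ.unop x.1 x.2⟩))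
    fun s t => funext fun x => map_add _ _ _)
  map_id a := by
    refine ConcreteCategory.hom_ext _ _ fun s => funext fun x => ?_
    have key : ∀ (y : (show Opens (Y.obj a.unop.base) from a.unop.fiber)) (f : a.unop.base ⟶ a.unop.base),
        f = 𝟙 _ → ∀ h : Y.map f x.1 = y.1, P.m f x.1 y.1 h (s y) = s x := by
      rintro ⟨y, hy⟩ f hf h
      have h₀ : Y.map f x.1 = y := h
      obtain rfl : x.1 = y := by rw [← h₀, hf, Y.map_id]; rfl
      exact P.m_self f hf x.1 h (s x)
    exact key ⟨_, mem_of_hom (i := a.unop.base) (j := a.unop.base) (𝟙 a).unop x.1 x.2⟩ (𝟙 a).unop.base rfl rfl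
  map_comp {a b c} φ ψ := by
    refine ConcreteCategory.hom_ext _ _ fun s => funext fun x => ?_
    have key : ∀ (y z : (show Opens (Y.obj a.unop.base) from a.unop.fiber)) (e : c.unop.base ⟶ a.unop.base)
        (_ : ψ.unop.base ≫ φ.unop.base = e) (h : Y.map e x.1 = y.1)
        (h' : Y.map φ.unop.base (Y.map ψ.unop.base x.1) = z.1),
        P.m e x.1 y.1 h (s y) =
          P.m ψ.unop.base x.1 _ rfl (P.m φ.unop.base (Y.map ψ.unop.base x.1) z.1 h' (s z)) := by
      rintro ⟨y, hy⟩ ⟨z, hz⟩ e rfl h h'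
      have h₀ : Y.map (ψ.unop.base ≫ φ.unop.base) x.1 = y := h
      have h₁ : Y.map φ.unop.base (Y.map ψ.unop.base x.1) = z := h'
      obtain rfl : z = y := by rw [← h₀, ← h₁, Y.map_comp]; rfl
      exact (P.m_comp _ _ x.1 _ z rfl h' _ rfl h (s ⟨z, hy⟩)).symm
    exact key ⟨_, mem_of_hom (i := c.unop.base) (j := a.unop.base) (φ ≫ ψ).unop x.1 x.2⟩
      ⟨_, mem_of_hom (i := b.unop.base) (j := a.unop.base) φ.unop _
        (mem_of_hom (i := c.unop.base) (j := b.unop.base) ψ.unop x.1 x.2)⟩ (φ ≫ ψ).unop.base rfl rfl rfl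

theorem pre_mv {i j : 𝒮} (f : i ⟶ j) {V : Opens (Y.obj i)} {W : Opens (Y.obj j)} (h : ∀ x ∈ V, Y.map f x ∈ W)
    (s : sec P.pre j W) (x : V) :
    (mv P.pre f h s : ∀ x : V, P.A i x.1) x =
      P.m f x.1 (Y.map f x.1) rfl ((s : ∀ y : W, P.A j y.1) ⟨Y.map f x.1, h x.1 x.2⟩) := rfl

theorem pre_res {i : 𝒮} {V U : Opens (Y.obj i)} (h : V ≤ U) (s : sec P.pre i U) (x : V) :
    (mv P.pre (𝟙 i) (le_id h) s : ∀ x : V, P.A i x.1) x = (s : ∀ y : U, P.A i y.1) ⟨x.1, h x.2⟩ := by
  rw [pre_mv]
  have key : ∀ (y : U) (e : Y.map (𝟙 i) x.1 = y.1), P.m (𝟙 i) x.1 y.1 e ((s : ∀ y : U, P.A i y.1) y) =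
      (s : ∀ y : U, P.A i y.1) ⟨x.1, h x.2⟩ := by
    rintro ⟨y, hy⟩ e
    have h₀ : Y.map (𝟙 i) x.1 = y := e
    obtain rfl : x.1 = y := by rw [← h₀, Y.map_id]; rfl
    exact P.m_self _ rfl x.1 e _
  exact key ⟨_, le_id h x.1 x.2⟩ rfl

/-- The sheaf of arbitrary families. -/
def sheaf : Sh Y :=
  ⟨P.pre, (isSheaf_iff P.pre).2 fun i => by
    rw [TopCat.Presheaf.isSheaf_iff_isSheafUniqueGluing]
    intro κ U s hs
    have hc : ∀ (x : Y.obj i) (k l : κ) (hk : x ∈ U k) (hl : x ∈ U l),
        (s k : ∀ y : U k, P.A i y.1) ⟨x, hk⟩ = (s l : ∀ y : U l, P.A i y.1) ⟨x, hl⟩ := fun x k l hk hl => by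
      have e : mv P.pre (𝟙 i) (le_id (inf_le_left : U k ⊓ U l ≤ U k)) (s k) =
          mv P.pre (𝟙 i) (le_id (inf_le_right : U k ⊓ U l ≤ U l)) (s l) :=
        (fibP_map P.pre inf_le_left (s k)).symm.trans ((hs k l).trans (fibP_map P.pre inf_le_right (s l)))
      exact (P.pre_res inf_le_left (s k) ⟨x, hk, hl⟩).symm.trans
        ((congrFun e ⟨x, hk, hl⟩).trans (P.pre_res inf_le_right (s l) ⟨x, hk, hl⟩))
    choose k hk using fun x : ↥(iSup U) => Opens.mem_iSup.1 x.2
    refine ⟨fun x => (s (k x) : ∀ y : U (k x), P.A i y.1) ⟨x.1, hk x⟩, fun l => ?_, fun t ht => ?_⟩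
    · refine (fibP_map P.pre (le_iSup U l) _).trans (funext fun x => ?_)
      exact (P.pre_res (le_iSup U l) _ x).trans (hc _ _ _ _ _)
    · funext x
      exact (P.pre_res (le_iSup U (k x)) t ⟨x.1, hk x⟩).symm.trans
        (congrFun ((fibP_map P.pre (le_iSup U (k x)) t).symm.trans (ht (k x))) ⟨x.1, hk x⟩)⟩

/-- Evaluation of germs. -/
def ev (i : 𝒮) (x : Y.obj i) : (fibP P.pre i).stalk x ⟶ P.A i x :=
  colimit.desc ((OpenNhds.inclusion x).op ⋙ fibP P.pre i)
    { pt := P.A i x
      ι :=
        { app := fun W => AddCommGrpCat.ofHom (AddMonoidHom.mk'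
              (fun (s : ∀ y : W.unop.1, P.A i y.1) => s ⟨x, W.unop.2⟩) fun _ _ => rfl)
          naturality := fun W W' g => by
            refine ConcreteCategory.hom_ext _ _ fun (s : sec P.pre i W.unop.1) => ?_
            have hle : W'.unop.1 ≤ W.unop.1 := leOfHom g.unop
            exact (congrFun (fibP_map P.pre hle s) ⟨x, W'.unop.2⟩).trans (P.pre_res hle s ⟨x, W'.unop.2⟩) } }

theorem ev_germ {i : 𝒮} {V : Opens (Y.obj i)} (x : Y.obj i) (hx : x ∈ V) (s : sec P.pre i V) :
    (P.ev i x).hom (germ P.pre V x hx s) = (s : ∀ y : V, P.A i y.1) ⟨x, hx⟩ := by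
  have e : (fibP P.pre i).germ V x hx ≫ P.ev i x =
      AddCommGrpCat.ofHom (AddMonoidHom.mk' (fun (s : ∀ y : V, P.A i y.1) => s ⟨x, hx⟩) fun _ _ => rfl) := by
    exact colimit.ι_desc _ (op (⟨V, hx⟩ : OpenNhds x))
  exact ConcreteCategory.congr_hom e s

end PtFam

variable [Good Y] {T : 𝒮} (hT : IsTerminal T)

set_option linter.unusedSectionVars false

variable (Y T) in
/-- Extension from the space at `T`. -/
abbrev extT : TopCat.Sheaf AddCommGrpCat.{u} (Y.obj T) ⥤ Sh Y :=
  FibSite.extend (osF Y) (osTop Y) AddCommGrpCat.{u} T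

variable (Y T) in
/-- Its adjunction with restriction. -/
abbrev extAdj : extT Y T ⊣ restr Y T :=
  (ι (osF Y) T).sheafAdjunctionContinuous AddCommGrpCat.{u} (osTop Y T) (osTot Y)

/-- The map to the final space. -/
abbrev aug (i : 𝒮) : Y.obj i ⟶ Y.obj T := Y.map (hT.from i)

/-- The comparison of stalks. -/
def gam (G : TopCat.Sheaf AddCommGrpCat.{u} (Y.obj T)) (i : 𝒮) (x : Y.obj i) (y : Y.obj T)
    (h : Y.map (hT.from i) x = y) :
    (SiteBase.stalkF' y).obj G ⟶ (stk Y i x).obj ((extT Y T).obj G) :=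
  (SiteBase.stalkF' y).map ((extAdj Y T).unit.app G) ≫ trn ((extT Y T).obj G).obj (hT.from i) x y h

theorem gam_germ (G : TopCat.Sheaf AddCommGrpCat.{u} (Y.obj T)) {i : 𝒮} (x : Y.obj i) (y : Y.obj T)
    (h : Y.map (hT.from i) x = y) {W : Opens (Y.obj T)} (hy : y ∈ W) {V : Opens (Y.obj i)} (hx : x ∈ V)
    (hV : ∀ z ∈ V, Y.map (hT.from i) z ∈ W) (s : G.obj.obj (op W)) :
    (gam hT G i x y h).hom ((TopCat.Presheaf.germ G.obj W y hy).hom s) =
      germ ((extT Y T).obj G).obj V x hx
        (mv _ (hT.from i) hV ((((extAdj Y T).unit.app G).hom.app (op W)).hom s)) := by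
  refine (congrArg (trn _ (hT.from i) x y h).hom
    (TopCat.Presheaf.stalkFunctor_map_germ_apply W y hy ((extAdj Y T).unit.app G).hom s)).trans ?_
  exact trn_germ _ (hT.from i) x y h hy hx hV _

theorem trn_gam (G : TopCat.Sheaf AddCommGrpCat.{u} (Y.obj T)) {i j : 𝒮} (f : i ⟶ j) (x : Y.obj i)
    (z : Y.obj j) (h : Y.map f x = z) (y : Y.obj T) (h' : Y.map (hT.from j) z = y)
    (h'' : Y.map (hT.from i) x = y) :
    gam hT G j z y h' ≫ trn ((extT Y T).obj G).obj f x z h = gam hT G i x y h'' := by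
  simp only [gam, Category.assoc]
  rw [trn_trn _ f (hT.from j) x z y h h' (hT.from i) (hT.hom_ext _ _) h'']

/-- The family of the stalks of a sheaf on the final space. -/
def stalkFam (G : TopCat.Sheaf AddCommGrpCat.{u} (Y.obj T)) : PtFam Y where
  A i x := (SiteBase.stalkF' (Y.map (hT.from i) x)).obj G
  m {i j} f x y h := (eqToHom (congrArg (fun z => (SiteBase.stalkF' z).obj G)
    (show Y.map (hT.from j) y = Y.map (hT.from i) x by
      rw [← hT.hom_ext (f ≫ hT.from j) (hT.from i), Y.map_comp, ← h]; rfl))).hom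
  m_self f _ x h a := rfl
  m_comp f g x y z h h' e _ h'' a := by
    rw [← ConcreteCategory.comp_apply, eqToHom_trans]

theorem stalkFam_cast (G : TopCat.Sheaf AddCommGrpCat.{u} (Y.obj T)) {W : Opens (Y.obj T)} {y y' : Y.obj T}
    (e : y = y') (hy : y ∈ W) (hy' : y' ∈ W) (s : G.obj.obj (op W)) :
    (eqToHom (congrArg (fun z => (SiteBase.stalkF' z).obj G) e)).hom ((TopCat.Presheaf.germ G.obj W y hy).hom s) =
      (TopCat.Presheaf.germ G.obj W y' hy').hom s := by
  subst e; rfl

theorem from_self_apply (x : Y.obj T) : Y.map (hT.from T) x = x := by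
  rw [hT.hom_ext (hT.from T) (𝟙 T), Y.map_id]; rfl

/-- The tautological map to the sheaf of families of germs. -/
def toStalkFam (G : TopCat.Sheaf AddCommGrpCat.{u} (Y.obj T)) : G ⟶ (restr Y T).obj (stalkFam hT G).sheaf :=
  ⟨{ app := fun W => AddCommGrpCat.ofHom (AddMonoidHom.mk'
        (fun (s : G.obj.obj W) (x : (show Opens (Y.obj T) from W.unop)) =>
          (TopCat.Presheaf.germ G.obj W.unop (Y.map (hT.from T) x.1)
            (by rw [from_self_apply hT]; exact x.2)).hom s)
        fun s t => funext fun x => map_add _ _ _)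
     naturality := fun W W' g => by
       refine ConcreteCategory.hom_ext _ _ fun s => ?_
       have hle : W'.unop ≤ W.unop := leOfHom g.unop
       refine Eq.trans ?_ (fibP_map (stalkFam hT G).pre hle _).symm
       funext x
       refine Eq.trans ?_ ((stalkFam hT G).pre_res hle _ x).symm
       exact TopCat.Presheaf.germ_res_apply G.obj (homOfLE hle) _ _ s }⟩

theorem gam_bijective (G : TopCat.Sheaf AddCommGrpCat.{u} (Y.obj T)) (i : 𝒮) (x : Y.obj i) (y : Y.obj T)
    (h : Y.map (hT.from i) x = y) : Function.Bijective (gam hT G i x y h).hom := by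
  subst h
  constructor
  · refine (injective_iff_map_eq_zero _).2 fun a ha => ?_
    obtain ⟨W, -, hy, s, rfl⟩ := TopCat.Presheaf.exists_le_germ_eq G.obj a (show _ ∈ (⊤ : Opens (Y.obj T)) from trivial)
    let V : Opens (Y.obj i) := (Opens.map (Y.map (hT.from i))).obj W
    rw [gam_germ hT G x _ rfl hy (V := V) hy (fun _ hz => hz) s] at ha
    let m := ((extAdj Y T).homEquiv _ _).symm (toStalkFam hT G)
    have hm : ((extAdj Y T).unit.app G) ≫ (restr Y T).map m = toStalkFam hT G := by
      exact ((extAdj Y T).homEquiv_unit (f := m)).symm.trans (Equiv.apply_symm_apply _ _)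
    have e := congrArg (fun t => ((stalkFam hT G).ev i x).hom (((stk Y i x).map m).hom t)) ha
    simp only [map_zero] at e
    rw [stk_map_germ, mv_natural] at e
    refine Eq.trans ?_ e
    have hmW : (m.hom.app (op (pl T W))).hom ((((extAdj Y T).unit.app G).hom.app (op W)).hom s) =
        ((toStalkFam hT G).hom.app (op W)).hom s :=
      ConcreteCategory.congr_hom (congrArg (fun q => q.hom.app (op W)) hm) s
    rw [hmW]
    refine Eq.trans ?_ ((stalkFam hT G).ev_germ x _ _).symm
    refine Eq.trans ?_ ((stalkFam hT G).pre_mv (hT.from i) (V := V) (W := W) (fun _ hz => hz) _ ⟨x, hy⟩).symm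
    exact (stalkFam_cast G (from_self_apply hT _) _ hy s).symm
  · intro t
    let R : PtFam Y :=
      { A := fun j z => AddCommGrpCat.of
          ((stk Y j z).obj ((extT Y T).obj G) ⧸ (gam hT G j z (Y.map (hT.from j) z) rfl).hom.range)
        m := fun {j k} f z z' hzz => QuotientAddGroup.map _ _ (trn ((extT Y T).obj G).obj f z z' hzz).hom (by
          rintro _ ⟨b, rfl⟩
          have e : Y.map (hT.from k) z' = Y.map (hT.from j) z := by
            rw [← hT.hom_ext (f ≫ hT.from k) (hT.from j), Y.map_comp, ← hzz]; rfl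
          have key : ∀ y' (h' : Y.map (hT.from j) z = y') (b' : (SiteBase.stalkF' y').obj G),
              (gam hT G j z y' h').hom b' ∈ (gam hT G j z (Y.map (hT.from j) z) rfl).hom.range := by
            rintro _ rfl b'; exact ⟨b', rfl⟩
          refine AddSubgroup.mem_comap.2 ?_
          exact (congrArg (fun w => w ∈ (gam hT G j z (Y.map (hT.from j) z) rfl).hom.range)
            (ConcreteCategory.congr_hom (trn_gam hT G f z z' hzz _ rfl e.symm) b)).mpr (key _ _ b))
        m_self := fun f hf z hz a => by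
          obtain ⟨a, rfl⟩ := QuotientAddGroup.mk_surjective a
          show QuotientAddGroup.mk ((trn _ f z z hz).hom a) = QuotientAddGroup.mk a
          exact congrArg _ (ConcreteCategory.congr_hom (trn_self _ f hf z hz) a)
        m_comp := fun f g z z' z'' hh h' e he h'' a => by
          obtain ⟨a, rfl⟩ := QuotientAddGroup.mk_surjective a
          show QuotientAddGroup.mk ((trn _ f z z' hh).hom ((trn _ g z' z'' h').hom a)) =
            QuotientAddGroup.mk ((trn _ e z z'' h'').hom a)
          exact congrArg _ (ConcreteCategory.congr_hom (trn_trn _ f g z z' z'' hh h' e he h'') a) }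
    let q : (extT Y T).obj G ⟶ R.sheaf :=
      ⟨{ app := fun a => AddCommGrpCat.ofHom (AddMonoidHom.mk'
            (fun (s : sec ((extT Y T).obj G).obj a.unop.base a.unop.fiber)
              (z : (show Opens (Y.obj a.unop.base) from a.unop.fiber)) =>
              (QuotientAddGroup.mk (germ ((extT Y T).obj G).obj _ z.1 z.2 s) : R.A a.unop.base z.1))
            fun s t => funext fun z => by rw [map_add]; rfl)
         naturality := fun a b φ => by
           refine ConcreteCategory.hom_ext _ _ fun s => funext fun z => ?_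
           refine congrArg _ ?_
           refine Eq.trans ?_ (trn_germ _ φ.unop.base z.1 _ rfl
             (mem_of_hom (i := b.unop.base) (j := a.unop.base) φ.unop z.1 z.2) z.2
             (mem_of_hom (i := b.unop.base) (j := a.unop.base) φ.unop) s).symm
           refine congrArg (germ _ _ _ _) ?_
           show (((extT Y T).obj G).obj.map φ).hom s = _
           simp only [mv]
           rw [← hom_ext' φ.unop (hm φ.unop.base (mem_of_hom (i := b.unop.base) (j := a.unop.base) φ.unop)) rfl]
           rfl }⟩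
    have hq : q = 0 := by
      apply ((extAdj Y T).homEquiv _ _).injective
      rw [Adjunction.homEquiv_unit, Adjunction.homEquiv_unit, (restr Y T).map_zero, comp_zero]
      refine Sheaf.hom_ext (NatTrans.ext (funext fun W => ConcreteCategory.hom_ext _ _ fun s => funext fun z => ?_))
      refine (QuotientAddGroup.eq_zero_iff _).2 ⟨(eqToHom (congrArg (fun z' => (SiteBase.stalkF' z').obj G)
        (from_self_apply hT z.1).symm)).hom ((TopCat.Presheaf.germ G.obj W.unop z.1 z.2).hom s), ?_⟩
      have hz' : Y.map (hT.from T) z.1 ∈ W.unop := by rw [from_self_apply hT]; exact z.2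
      refine (congrArg _ (stalkFam_cast G (from_self_apply hT z.1).symm z.2 hz' s)).trans ?_
      refine (gam_germ hT G z.1 _ rfl _ z.2 (fun a ha => show Y.map (hT.from T) a ∈ W.unop by rw [from_self_apply hT]; exact ha) s).trans ?_
      refine congrArg (germ _ _ _ _) ?_
      exact mv_self _ _ (hT.hom_ext _ _) _ _
    obtain ⟨V, -, hxV, s, rfl⟩ := exists_germ _ t (U := ⊤) (x := x) trivial
    exact (QuotientAddGroup.eq_zero_iff _).1
      (congrFun (ConcreteCategory.congr_hom (congrArg (fun g => g.hom.app (op (pl i V))) hq) s) ⟨x, hxV⟩)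

instance isIso_gam (G : TopCat.Sheaf AddCommGrpCat.{u} (Y.obj T)) (i : 𝒮) (x : Y.obj i) (y : Y.obj T)
    (h : Y.map (hT.from i) x = y) : IsIso (gam hT G i x y h) :=
  (ConcreteCategory.isIso_iff_bijective _).2 (gam_bijective hT G i x y h)

include hT in
/-- The transition maps of an extended sheaf are isomorphisms. -/
theorem isIso_trn_extT (G : TopCat.Sheaf AddCommGrpCat.{u} (Y.obj T)) {i j : 𝒮} (f : i ⟶ j) (x : Y.obj i)
    (z : Y.obj j) (h : Y.map f x = z) : IsIso (trn ((extT Y T).obj G).obj f x z h) := by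
  have e : Y.map (hT.from i) x = Y.map (hT.from j) z := by
    rw [← hT.hom_ext (f ≫ hT.from j) (hT.from i), Y.map_comp, ← h]; rfl
  have := trn_gam hT G f x z h _ rfl e
  exact IsIso.of_isIso_fac_left this

instance additive_stalkFT (y : Y.obj T) :
    Functor.Additive (C := TopCat.Sheaf AddCommGrpCat.{u} (Y.obj T)) (SiteBase.stalkF' y) :=
  inferInstanceAs (ClosedEmb.stalkF y).Additive

/-- The stalks of an extension. -/
def stkExtIso (i : 𝒮) (x : Y.obj i) : SiteBase.stalkF' (Y.map (hT.from i) x) ≅ extT Y T ⋙ stk Y i x :=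
  NatIso.ofComponents (fun G => asIso (gam hT G i x _ rfl)) fun {G H} g => by
    refine ConcreteCategory.hom_ext _ _ fun t => ?_
    obtain ⟨W, -, hy, s, rfl⟩ := TopCat.Presheaf.exists_le_germ_eq G.obj t (show _ ∈ (⊤ : Opens (Y.obj T)) from trivial)
    have e1 := TopCat.Presheaf.stalkFunctor_map_germ_apply W _ hy g.hom s
    show (gam hT H i x _ rfl).hom (((SiteBase.stalkF' _).map g).hom ((TopCat.Presheaf.germ G.obj W _ hy).hom s)) =
      ((stk Y i x).map ((extT Y T).map g)).hom ((gam hT G i x _ rfl).hom _)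
    rw [gam_germ hT G x _ rfl hy (V := (Opens.map (Y.map (hT.from i))).obj W) hy (fun _ hz => hz) s, stk_map_germ]
    refine (congrArg (gam hT H i x _ rfl).hom e1).trans ?_
    refine (gam_germ hT H x _ rfl hy (V := (Opens.map (Y.map (hT.from i))).obj W) hy (fun _ hz => hz) _).trans ?_
    refine congrArg (germ _ _ _ _) ?_
    rw [mv_natural]
    exact congrArg _ (ConcreteCategory.congr_hom
      (congrArg (fun q => q.hom.app (op W)) ((extAdj Y T).unit.naturality g)) s)

instance additive_extT : (extT Y T).Additive :=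
  (extAdj Y T).left_adjoint_additive

include hT in
theorem preservesFiniteLimits_extT : PreservesFiniteLimits (extT Y T) := by
  have hh : (extT Y T).PreservesHomology := Functor.preservesHomology_of_map_exact _ fun S hS => by
    rw [ShortComplex.exact_iff_isZero_homology, IsZero.iff_id_eq_zero]
    have : IsIso (0 : (S.map (extT Y T)).homology ⟶ (S.map (extT Y T)).homology) := by
      refine isIso_of_stk _ fun i x => ?_
      have hz : IsZero ((stk Y i x).obj (S.map (extT Y T)).homology) := by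
        refine IsZero.of_iso ?_ ((S.map (extT Y T)).mapHomologyIso (stk Y i x)).symm
        rw [← ShortComplex.exact_iff_isZero_homology]
        exact (ShortComplex.exact_iff_of_iso (S.mapNatIso (stkExtIso hT i x))).1
          ((TopCat.Sheaf.exact_iff_stalkFunctor_map_exact S).1 hS _)
      exact ⟨0, hz.eq_of_src _ _, hz.eq_of_src _ _⟩
    have h0 := IsIso.hom_inv_id (0 : (S.map (extT Y T)).homology ⟶ (S.map (extT Y T)).homology)
    rw [zero_comp] at h0
    exact h0.symm
  exact (extT Y T).preservesFiniteLimits_of_preservesHomology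

include hT in
/-- The unit of the extension is an isomorphism. -/
theorem isIso_unit_extT (G : TopCat.Sheaf AddCommGrpCat.{u} (Y.obj T)) : IsIso ((extAdj Y T).unit.app G) := by
  have : ∀ x, IsIso ((TopCat.Presheaf.stalkFunctor AddCommGrpCat.{u} x).map ((extAdj Y T).unit.app G).hom) :=
    fun x => by
      have e : gam hT G T x x (from_self_apply hT x) = (SiteBase.stalkF' x).map ((extAdj Y T).unit.app G) := by
        simp only [gam]
        rw [trn_self _ (hT.from T) (hT.hom_ext _ _) x]
        exact Category.comp_id _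
      exact e ▸ (inferInstance : IsIso (gam hT G T x x (from_self_apply hT x)))
  exact TopCat.Presheaf.isIso_of_stalkFunctor_map_iso _

end

end Groth.Agent.CohDesc82
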