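import Groth.Agent.CohDesc82.Site
import Groth.Agent.SiteBase.Cohom

/-!
# Diagrams of spaces whose total site has the usual sheaf theory
-/

universe w v u

set_option autoImplicit false
set_option backward.isDefEq.respectTransparency false
set_option backward.isDefEq.respectTransparency.types false

open CategoryTheory CategoryTheory.Limits Opposite Pseudofunctor.CoGrothendieck TopologicalSpace

namespace Groth.Agent.CohDesc82

/-- The sheaf theoretic side conditions on a diagram of spaces (all hold for small index categories). -/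
class Good {𝒮 : Type w} [Category.{v} 𝒮] (Y : 𝒮 ⥤ TopCat.{u}) : Prop where
  sheafify : HasSheafify (osTot Y) AddCommGrpCat.{u}
  rightAdjoint : ∀ i : 𝒮,
    ((ι (osF Y) i).sheafPushforwardContinuous AddCommGrpCat.{u} (osTop Y i) (osTot Y)).IsRightAdjoint
  ran : ∀ (i : 𝒮) (P : (Opens (Y.obj i))ᵒᵖ ⥤ AddCommGrpCat.{u}), (ι (osF Y) i).op.HasPointwiseRightKanExtension P
  injectives : (letI := sheafify; EnoughInjectives (Sheaf (osTot Y) AddCommGrpCat.{u}))
  injFlasque : ∀ (J : Sheaf (osTot Y) AddCommGrpCat.{u}) [Injective J] (i : 𝒮) (V U : Opens (Y.obj i))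
    (h : V ≤ U), Function.Surjective (mv J.obj (𝟙 i) (le_id h))

instance mono_hm {𝒮 : Type w} [Category.{v} 𝒮] {Y : 𝒮 ⥤ TopCat.{u}} {i : 𝒮} {V U : Opens (Y.obj i)}
    (h : V ≤ U) : Mono (hm (𝟙 i) (le_id h)) :=
  ⟨fun g g' e => hom_ext' g g' (by
    have e' : g.base ≫ 𝟙 i = g'.base ≫ 𝟙 i := congrArg (fun q => q.base) e
    exact (Category.comp_id _).symm.trans (e'.trans (Category.comp_id _)))⟩

attribute [instance] Good.sheafify Good.rightAdjoint

instance {𝒮 : Type w} [Category.{v} 𝒮] (Y : 𝒮 ⥤ TopCat.{u}) [Good Y] : EnoughInjectives (Sh Y) :=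
  Good.injectives

instance {𝒮 : Type w} [Category.{v} 𝒮] (Y : 𝒮 ⥤ TopCat.{u}) [Good Y] (i : 𝒮)
    (P : (Opens (Y.obj i))ᵒᵖ ⥤ AddCommGrpCat.{u}) : (ι (osF Y) i).op.HasPointwiseRightKanExtension P :=
  Good.ran i P

instance good_of_zero {𝒮 : Type} [Category.{0} 𝒮] (Y : 𝒮 ⥤ TopCat.{u}) : Good Y where
  sheafify := inferInstance
  rightAdjoint _ := inferInstance
  ran _ _ := inferInstance
  injectives := inferInstance
  injFlasque J _ i _ _ h :=
    have := mono_hm (Y := Y) (i := i) h
    SiteBase.sections_surjective_of_mono (hm (𝟙 i) (le_id h)) J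

instance good_of_small {𝒮 : Type} [Category.{u} 𝒮] (Y : 𝒮 ⥤ TopCat.{u}) : Good Y where
  sheafify := inferInstance
  rightAdjoint _ := inferInstance
  ran _ _ := inferInstance
  injectives := inferInstance
  injFlasque J _ i _ _ h :=
    have := mono_hm (Y := Y) (i := i) h
    SiteBase.sections_surjective_of_mono (hm (𝟙 i) (le_id h)) J

/-- The restrictions are left adjoints. -/
instance isLeftAdjoint_restr {𝒮 : Type w} [Category.{v} 𝒮] (Y : 𝒮 ⥤ TopCat.{u}) [Good Y] (i : 𝒮) :
    (restr Y i).IsLeftAdjoint :=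
  ((ι (osF Y) i).sheafAdjunctionCocontinuous AddCommGrpCat.{u} (osTop Y i) (osTot Y)).isLeftAdjoint

instance additive_restr' {𝒮 : Type w} [Category.{v} 𝒮] (Y : 𝒮 ⥤ TopCat.{u}) [Good Y] (i : 𝒮) :
    (restr Y i).Additive where

end Groth.Agent.CohDesc82
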