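import Groth.Agent.CohDesc82.Nerve
import Mathlib.CategoryTheory.Products.Basic

/-!
# The grid of two nerves
-/

universe u

set_option autoImplicit false
set_option linter.unusedVariables false
set_option backward.isDefEq.respectTransparency false
set_option backward.isDefEq.respectTransparency.types false

open CategoryTheory CategoryTheory.Limits Opposite TopologicalSpace Simplicial

namespace Groth.Agent.CohDesc82

noncomputable section

/-- Isomorphic families of augmented cosimplicial groups give bicomplexes exact together. -/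
theorem Bi.ofAug_congr {C C' : ℕ → AΔ ⥤ AddCommGrpCat.{u}} {d : ∀ n, C n ⟶ C (n + 1)}
    {dd : ∀ n, d n ≫ d (n + 1) = 0} {d' : ∀ n, C' n ⟶ C' (n + 1)} {dd' : ∀ n, d' n ≫ d' (n + 1) = 0}
    (E : ∀ n, C n ≅ C' n) (hE : ∀ n, d n ≫ (E (n + 1)).hom = (E n).hom ≫ d' n)
    (h : (Bi.ofAug C d dd).Exact) : (Bi.ofAug C' d' dd').Exact :=
  h.congr (fun p n => ((E n).app (idx p)).addCommGroupIsoToAddEquiv)
    (fun p n x => cd_natural (E n).hom p x)
    (fun p n x => ConcreteCategory.congr_hom (congrArg (fun q => q.app (idx p)) (hE n)) x)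

section levels

variable {𝒮 : Type} [Category.{0} 𝒮] {Y : 𝒮 ⥤ TopCat.{u}}

/-- Opens along a functor from the augmented simplex category. -/
abbrev lvlF (Ψ : AΔᵒᵖ ⥤ 𝒮) (V : ∀ i, Opens (Y.obj (Ψ.obj i)))
    (hV : ∀ {i j} (f : i ⟶ j), ∀ x ∈ V i, Y.map (Ψ.map f) x ∈ V j) :
    AΔ ⥤ (Pseudofunctor.CoGrothendieck (osF Y))ᵒᵖ where
  obj i := op (pl (Ψ.obj (op i)) (V (op i)))
  map f := (hm (Ψ.map f.op) (hV f.op)).op
  map_id i := congrArg Quiver.Hom.op (hom_ext' _ (𝟙 _) (Ψ.map_id (op i)))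
  map_comp f g := congrArg Quiver.Hom.op
    (hom_ext' _ (hm (Ψ.map g.op) (hV g.op) ≫ hm (Ψ.map f.op) (hV f.op)) (Ψ.map_comp g.op f.op))

variable {K : CochainComplex (Sh Y) ℤ}

/-- The bicomplex along such a family of opens. -/
abbrev lvlBi (K : CochainComplex (Sh Y) ℤ) (d : ℤ) (L : AΔ ⥤ (Pseudofunctor.CoGrothendieck (osF Y))ᵒᵖ) : Bi.{u} :=
  Bi.ofAug (fun n => L ⋙ (K.X (d + n)).obj)
    (fun n => Functor.whiskerLeft L (K.d (d + n) (d + (n + 1 : ℕ))).hom)
    (fun n => by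
      rw [← Functor.whiskerLeft_comp]
      exact (congrArg (fun q => Functor.whiskerLeft L q.hom)
        (K.d_comp_d (d + n) (d + (n + 1 : ℕ)) (d + (n + 1 + 1 : ℕ)))).trans (by rfl))

theorem lvlBi_exact_of_iso (d : ℤ) {L L' : AΔ ⥤ (Pseudofunctor.CoGrothendieck (osF Y))ᵒᵖ} (θ : L ≅ L')
    (h : (lvlBi K d L).Exact) : (lvlBi K d L').Exact :=
  Bi.ofAug_congr (d' := fun n => Functor.whiskerLeft L' (K.d (d + n) (d + (n + 1 : ℕ))).hom)
    (d := fun n => Functor.whiskerLeft L (K.d (d + n) (d + (n + 1 : ℕ))).hom)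
    (fun n => Functor.isoWhiskerRight θ (K.X (d + n)).obj)
    (fun n => NatTrans.ext (funext fun i => ((K.d (d + n) (d + (n + 1 : ℕ))).hom.naturality (θ.app i).hom).symm)) h

/-- The levels of a restricted diagram. -/
def lvlIso (Ψ : AΔᵒᵖ ⥤ 𝒮) (U : Opens (Y.obj (Ψ.obj B0))) (V : ∀ i, Opens (Y.obj (Ψ.obj i)))
    (hV : ∀ {i j} (f : i ⟶ j), ∀ x ∈ V i, Y.map (Ψ.map f) x ∈ V j)
    (e : ∀ i, lev (Ψ ⋙ Y) U i = V i) : lvl (Ψ ⋙ Y) U ⋙ (bc Ψ Y).op ≅ lvlF Ψ V hV :=
  NatIso.ofComponents (fun i => Iso.op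
    { hom := hm (𝟙 (Ψ.obj (op i))) (le_id (e (op i)).ge)
      inv := hm (𝟙 (Ψ.obj (op i))) (le_id (e (op i)).le)
      hom_inv_id := hom_ext' _ _ (Category.comp_id _)
      inv_hom_id := hom_ext' _ _ (Category.comp_id _) })
    fun {i j} f => congrArg Quiver.Hom.op (hom_ext' _ _ ((Category.id_comp _).trans (Category.comp_id _).symm))

/-- Exactness along a sub-diagram, from the criterion. -/
theorem lvlBi_exact_of_crit (Ψ : AΔᵒᵖ ⥤ 𝒮) (d : ℤ) [K.IsStrictlyGE d] (hfl : ∀ n, FlFib (K.X n).obj)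
    (hK : Cart K) (hc : Crit (Ψ ⋙ Y)) (U : Opens (Y.obj (Ψ.obj B0))) (V : ∀ i, Opens (Y.obj (Ψ.obj i)))
    (hV : ∀ {i j} (f : i ⟶ j), ∀ x ∈ V i, Y.map (Ψ.map f) x ∈ V j)
    (e : ∀ i, lev (Ψ ⋙ Y) U i = V i) : (lvlBi K d (lvlF Ψ V hV)).Exact :=
  lvlBi_exact_of_iso d (lvlIso Ψ U V hV e)
    (hc (((restrΦ Ψ Y).mapHomologicalComplex _).obj K) d (fun n => flFib_restrΦ (hfl n)) (cart_restrΦ Ψ hK) U)

end levels

variable {X Y S : TopCat.{u}} (u : X ⟶ S) (v : Y ⟶ S)

/-- The grid of two nerves. -/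
abbrev grid : AΔᵒᵖ × AΔᵒᵖ ⥤ TopCat.{u} where
  obj a := pullback (nvAug u a.1) (nvAug v a.2)
  map {a b} φ := pullback.lift (pullback.fst _ _ ≫ (nv u).map φ.1) (pullback.snd _ _ ≫ (nv v).map φ.2)
    (by rw [Category.assoc, nv_aug, Category.assoc, nv_aug, pullback.condition])
  map_id a := pullback.hom_ext
    (by
      rw [pullback.lift_fst, show (𝟙 a : a ⟶ a).1 = 𝟙 a.1 from rfl, (nv u).map_id]
      exact (Category.comp_id _).trans (Category.id_comp _).symm)
    (by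
      rw [pullback.lift_snd, show (𝟙 a : a ⟶ a).2 = 𝟙 a.2 from rfl, (nv v).map_id]
      exact (Category.comp_id _).trans (Category.id_comp _).symm)
  map_comp {a b c} φ ψ := pullback.hom_ext
    (by rw [pullback.lift_fst, Category.assoc, pullback.lift_fst, pullback.lift_fst_assoc, Category.assoc,
      show (φ ≫ ψ).1 = φ.1 ≫ ψ.1 from rfl, (nv u).map_comp])
    (by rw [pullback.lift_snd, Category.assoc, pullback.lift_snd, pullback.lift_snd_assoc, Category.assoc,
      show (φ ≫ ψ).2 = φ.2 ≫ ψ.2 from rfl, (nv v).map_comp])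

/-- The final index. -/
def hbot₂ : IsTerminal ((B0, B0) : AΔᵒᵖ × AΔᵒᵖ) :=
  IsTerminal.ofUniqueHom (fun a => CategoryTheory.Prod.mkHom (hbot.from a.1 : a.1 ⟶ B0) (hbot.from a.2 : a.2 ⟶ B0))
    (fun a m => Prod.ext (hbot.hom_ext _ _) (hbot.hom_ext _ _))

/-- The slice at a fixed second index. -/
abbrev snd0 (j : AΔᵒᵖ) : AΔᵒᵖ ⥤ AΔᵒᵖ × AΔᵒᵖ := Prod.sectL AΔᵒᵖ j

/-- The slice at a fixed first index. -/
abbrev fst0 (i : AΔᵒᵖ) : AΔᵒᵖ ⥤ AΔᵒᵖ × AΔᵒᵖ := Prod.sectR i AΔᵒᵖ

/-- The slices at fixed second index are base changes of the first nerve. -/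
def sndIso (j : AΔᵒᵖ) : snd0 j ⋙ grid u v ≅ Bc u (nvAug v j) :=
  NatIso.ofComponents (fun i => Iso.refl _) fun {i i'} φ => by
    refine (Category.comp_id _).trans (Eq.trans ?_ (Category.id_comp _).symm)
    exact pullback.hom_ext ((pullback.lift_fst _ _ _).trans (pullback.lift_fst _ _ _).symm)
      ((pullback.lift_snd _ _ _).trans (((congrArg (pullback.snd _ _ ≫ ·) ((nv v).map_id j)).trans
        (Category.comp_id _)).trans (pullback.lift_snd _ _ _).symm))

/-- The slices at fixed first index are base changes of the second nerve. -/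
def fstIso (i : AΔᵒᵖ) : fst0 i ⋙ grid u v ≅ Bc v (nvAug u i) :=
  NatIso.ofComponents (fun j => pullbackSymmetry _ _) fun {j j'} φ => by
    refine pullback.hom_ext ?_ ?_
    · refine (Category.assoc _ _ _).trans ((congrArg (_ ≫ ·) (pullbackSymmetry_hom_comp_fst _ _)).trans ?_)
      refine (pullback.lift_snd _ _ _).trans (Eq.trans ?_ (Category.assoc _ _ _).symm)
      refine Eq.trans ?_ ((congrArg (_ ≫ ·) (pullback.lift_fst _ _ _)).trans rfl).symm
      exact ((Category.assoc _ _ _).symm.trans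
        (congrArg (· ≫ (nv v).map φ) (pullbackSymmetry_hom_comp_fst _ _))).symm
    · refine (Category.assoc _ _ _).trans ((congrArg (_ ≫ ·) (pullbackSymmetry_hom_comp_snd _ _)).trans ?_)
      refine (pullback.lift_fst _ _ _).trans (Eq.trans ?_ (Category.assoc _ _ _).symm)
      refine Eq.trans ?_ (congrArg (_ ≫ ·) (pullback.lift_snd _ _ _)).symm
      exact ((congrArg (pullback.fst _ _ ≫ ·) ((nv u).map_id i)).trans (Category.comp_id _)).trans
        (pullbackSymmetry_hom_comp_snd _ _).symm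

/-- The levels of an open of the base. -/
abbrev lev₂ (U : Opens ((grid u v).obj (B0, B0))) (a : AΔᵒᵖ × AΔᵒᵖ) : Opens ((grid u v).obj a) :=
  (Opens.map ((grid u v).map (hbot₂.from a))).obj U

theorem mem_lev₂ (U : Opens ((grid u v).obj (B0, B0))) {a b : AΔᵒᵖ × AΔᵒᵖ} (f : a ⟶ b) :
    ∀ x ∈ lev₂ u v U a, (grid u v).map f x ∈ lev₂ u v U b :=
  fun x (hx : (grid u v).map (hbot₂.from a) x ∈ U) => by
    show (grid u v).map (hbot₂.from b) ((grid u v).map f x) ∈ U
    rwa [← ConcreteCategory.comp_apply, ← Functor.map_comp, hbot₂.hom_ext (f ≫ hbot₂.from b) (hbot₂.from a)]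

theorem lev_slice (U : Opens ((grid u v).obj (B0, B0))) (Ψ : AΔᵒᵖ ⥤ AΔᵒᵖ × AΔᵒᵖ) (i : AΔᵒᵖ) :
    lev (Ψ ⋙ grid u v) (lev₂ u v U (Ψ.obj B0)) i = lev₂ u v U (Ψ.obj i) := by
  ext x
  show (grid u v).map (hbot₂.from (Ψ.obj B0)) ((grid u v).map (Ψ.map (hbot.from i)) x) ∈ U ↔
    (grid u v).map (hbot₂.from (Ψ.obj i)) x ∈ U
  rw [← ConcreteCategory.comp_apply, ← Functor.map_comp,
    hbot₂.hom_ext (Ψ.map (hbot.from i) ≫ hbot₂.from _) (hbot₂.from _)]

/-- The levels along a slice. -/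
abbrev lvlS (U : Opens ((grid u v).obj (B0, B0))) (Ψ : AΔᵒᵖ ⥤ AΔᵒᵖ × AΔᵒᵖ) :
    AΔ ⥤ (Pseudofunctor.CoGrothendieck (osF (grid u v)))ᵒᵖ :=
  lvlF Ψ (fun i => lev₂ u v U (Ψ.obj i)) (fun f => mem_lev₂ u v U (Ψ.map f))

/-- The triple complex of the grid. -/
abbrev gridTri (K : CochainComplex (Sh (grid u v)) ℤ) (d : ℤ) (U : Opens ((grid u v).obj (B0, B0))) : Tri.{u} where
  A r p n := sec (K.X (d + n)).obj (op (idx r), op (idx p)) (lev₂ u v U _)
  a r p n := cd (lvlS u v U (snd0 (op (idx p))) ⋙ (K.X (d + n)).obj) r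
  b r p n := cd (lvlS u v U (fst0 (op (idx r))) ⋙ (K.X (d + n)).obj) p
  c r p n := ((K.d (d + n) (d + (n + 1 : ℕ))).hom.app (op (pl (op (idx r), op (idx p)) (lev₂ u v U _)))).hom
  aa r p n x := cd_cd (lvlS u v U (snd0 (op (idx p))) ⋙ (K.X (d + n)).obj) r x
  bb r p n x := cd_cd (lvlS u v U (fst0 (op (idx r))) ⋙ (K.X (d + n)).obj) p x
  cc r p n x := ConcreteCategory.congr_hom
    (congrArg (fun q => q.hom.app (op (pl (op (idx r), op (idx p)) (lev₂ u v U _))))
      (K.d_comp_d (d + n) (d + (n + 1 : ℕ)) (d + (n + 1 + 1 : ℕ)))) x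
  ab r p n x := by
    let P := (K.X (d + n)).obj
    let C : AΔ → (AΔ ⥤ AddCommGrpCat.{u}) := fun i => lvlS u v U (fst0 (op i)) ⋙ P
    let φ : lvlS u v U (snd0 (op (idx p))) ⋙ P ⟶ lvlS u v U (snd0 (op (idx (p + 1)))) ⋙ P :=
      { app := fun i => AddCommGrpCat.ofHom (cd (C i) p)
        naturality := fun i i' f => by
          refine ConcreteCategory.hom_ext _ _ fun y => ?_
          let ψ : C i ⟶ C i' :=
            { app := fun j => P.map (hm (CategoryTheory.Prod.mkHom (f.op : op i' ⟶ op i) (𝟙 (op j) : op j ⟶ op j)) (mem_lev₂ u v U _)).op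
              naturality := fun j j' g => by
                refine (P.map_comp _ _).symm.trans
                  (Eq.trans (congrArg P.map (congrArg Quiver.Hom.op ?_)) (P.map_comp _ _))
                exact hom_ext' _ _ (Prod.ext ((Category.comp_id _).trans (Category.id_comp _).symm)
                  ((Category.id_comp _).trans (Category.comp_id _).symm)) }
          exact (cd_natural ψ p y).symm }
    exact (cd_natural φ r x).symm
  ac r p n x :=
    (cd_natural (Functor.whiskerLeft (lvlS u v U (snd0 (op (idx p)))) (K.d (d + n) (d + (n + 1 : ℕ))).hom) r x).symm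
  bc r p n x :=
    (cd_natural (Functor.whiskerLeft (lvlS u v U (fst0 (op (idx r)))) (K.d (d + n) (d + (n + 1 : ℕ))).hom) p x).symm

/-- Cohomological descent for one map from that after base change along the nerve of another. -/
theorem cd_of_grid (hv : UCD v)
    (h : ∀ p : ℕ, CD (pullback.snd u (nvAug v (op (WithInitial.of ⦋p⦌))))) : CD u := by
  have hT : IsTerminal ((snd0 B0).obj B0) := hbot₂
  have h0 : Crit (snd0 B0 ⋙ grid u v) := by
    refine crit_restr (snd0 B0) (grid u v) hT fun K d _ hfl hK U => ?_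
    have hfirst : ∀ r, ((gridTri u v K d U).slice₁ r).Exact := fun r => by
      show (lvlBi K d (lvlS u v U (fst0 (op (idx r))))).Exact
      exact
      lvlBi_exact_of_crit (fst0 (op (idx r))) d hfl hK
        (crit_of_iso (fstIso u v (op (idx r))).symm (hv.cd_bc v (nvAug u (op (idx r)))))
        _ _ (fun f => mem_lev₂ u v U ((fst0 (op (idx r))).map f)) (lev_slice u v U (fst0 (op (idx r))))
    have hsecond : ∀ p, ((gridTri u v K d U).slice₂ (p + 1)).Exact := fun p => by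
      show (lvlBi K d (lvlS u v U (snd0 (op (idx (p + 1)))))).Exact
      exact
      lvlBi_exact_of_crit (snd0 (op (idx (p + 1)))) d hfl hK
        (crit_of_iso (sndIso u v (op (idx (p + 1)))).symm ((cd_iff_bc u _).1 (h p)))
        _ _ (fun f => mem_lev₂ u v U ((snd0 (op (idx (p + 1)))).map f)) (lev_slice u v U (snd0 (op (idx (p + 1)))))
    have key := (gridTri u v K d U).slice₂_zero ((gridTri u v K d U).exact_of_slices₁ hfirst) hsecond
    have key' : (lvlBi K d (lvlS u v U (snd0 B0))).Exact := key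
    refine lvlBi_exact_of_iso (K := K) (L := lvlS u v U (snd0 B0))
      (L' := lvl (snd0 B0 ⋙ grid u v) U ⋙ (bc (snd0 B0) (grid u v)).op) d
      (lvlIso (Y := grid u v) (snd0 B0) U (fun i => lev₂ u v U ((snd0 B0).obj i))
        (fun f => mem_lev₂ u v U ((snd0 B0).map f)) ?_).symm key' 
    intro i
    refine Eq.trans ?_ (lev_slice u v U (snd0 B0) i)
    congr 1
    ext x
    have e : (grid u v).map (hbot₂.from ((B0, B0) : AΔᵒᵖ × AΔᵒᵖ)) x = x := by
      rw [hbot₂.hom_ext (hbot₂.from _) (𝟙 _), (grid u v).map_id]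
      rfl
    exact Iff.of_eq (congrArg (fun y => y ∈ U) e).symm
  have h1 : CD (pullback.snd u (nvAug v B0)) := (cd_iff_bc u _).2 (crit_of_iso (sndIso u v B0) h0)
  have : IsIso (nvAug v B0) := by
    rw [show nvAug v B0 = 𝟙 S from nvAug_star v]
    exact IsIso.id S
  exact h1.of_iso (Arrow.isoMk (asIso (pullback.fst u (nvAug v B0))) (asIso (nvAug v B0)) pullback.condition)

end

end Groth.Agent.CohDesc82
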