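import Groth.Agent.CohDesc82.Tot

/-!
# Triple complexes and their slices

The slices of a triple complex along the first and along the second coordinate are bicomplexes; exactness
of the triple complex is compared with exactness of these.
-/

universe u

set_option autoImplicit false
set_option linter.unusedSimpArgs false
set_option linter.unnecessarySeqFocus false

namespace Groth.Agent.CohDesc82

/-- A first octant triple complex of abelian groups, with commuting differentials. -/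
structure Tri where
  /-- the terms -/
  A : ℕ → ℕ → ℕ → AddCommGrpCat.{u}
  /-- the first differential -/
  a : ∀ r p n, A r p n →+ A (r + 1) p n
  /-- the second differential -/
  b : ∀ r p n, A r p n →+ A r (p + 1) n
  /-- the third differential -/
  c : ∀ r p n, A r p n →+ A r p (n + 1)
  aa : ∀ r p n x, a (r + 1) p n (a r p n x) = 0
  bb : ∀ r p n x, b r (p + 1) n (b r p n x) = 0
  cc : ∀ r p n x, c r p (n + 1) (c r p n x) = 0
  ab : ∀ r p n x, a r (p + 1) n (b r p n x) = b (r + 1) p n (a r p n x)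
  ac : ∀ r p n x, a r p (n + 1) (c r p n x) = c (r + 1) p n (a r p n x)
  bc : ∀ r p n x, b r p (n + 1) (c r p n x) = c r (p + 1) n (b r p n x)

namespace Tri

variable (T : Tri.{u})

/-- The terms indexed by triples. -/
abbrev F (i : ℕ × ℕ × ℕ) : Type u := T.A i.1 i.2.1 i.2.2

/-- The first part of the differential. -/
def aP (x : ∀ i, T.F i) : ∀ i, T.F i
  | (0, _, _) => 0
  | (r + 1, p, n) => T.a r p n (x (r, p, n))

/-- The second part of the differential. -/
def bP (x : ∀ i, T.F i) : ∀ i, T.F i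
  | (_, 0, _) => 0
  | (r, p + 1, n) => T.b r p n (x (r, p, n))

/-- The third part of the differential. -/
def cP (x : ∀ i, T.F i) : ∀ i, T.F i
  | (_, _, 0) => 0
  | (r, p, n + 1) => T.c r p n (x (r, p, n))

/-- The total differential. -/
def D : (∀ i, T.F i) →+ (∀ i, T.F i) :=
  AddMonoidHom.mk' (fun x i => T.aP x i + (-1 : ℤ) ^ i.1 • (T.bP x i + (-1 : ℤ) ^ i.2.1 • T.cP x i))
    fun x y => funext fun i => by
      rcases i with ⟨_ | r, _ | p, _ | n⟩ <;>
        simp only [aP, bP, cP, Pi.add_apply, map_add, smul_add, smul_zero, add_zero, zero_add] <;> abel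

lemma D_apply (x : ∀ i, T.F i) (i : ℕ × ℕ × ℕ) :
    T.D x i = T.aP x i + (-1 : ℤ) ^ i.1 • (T.bP x i + (-1 : ℤ) ^ i.2.1 • T.cP x i) := rfl

/-- The total degree. -/
abbrev deg (i : ℕ × ℕ × ℕ) : ℕ := i.1 + (i.2.1 + i.2.2)

/-- The first coordinate. -/
abbrev π₁ (i : ℕ × ℕ × ℕ) : ℕ := i.1

/-- The second coordinate. -/
abbrev π₂ (i : ℕ × ℕ × ℕ) : ℕ := i.2.1

/-- Exactness of the total complex. -/
def Exact : Prop := TotExact deg T.D

lemma sq (x : ∀ i, T.F i) : T.D (T.D x) = 0 := by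
  funext ⟨r, p, n⟩
  rw [D_apply, Pi.zero_apply]
  rcases r with _ | _ | r <;> rcases p with _ | _ | p <;> rcases n with _ | _ | n <;>
    simp [aP, bP, cP, D_apply, T.aa, T.bb, T.cc, T.ab, T.ac, T.bc, pow_succ, smul_add, smul_smul,
      mul_comm] <;> abel

lemma supp (k : ℕ) (x : ∀ i, T.F i) (hx : Supp deg k x) : Supp deg (k + 1) (T.D x) := by
  rintro ⟨r, p, n⟩ hi
  rw [D_apply]
  have h1 : T.aP x (r, p, n) = 0 := by
    rcases r with _ | r
    · rfl
    · simp only [aP, hx (r, p, n) (by simp [deg] at hi ⊢; omega), map_zero]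
  have h2 : T.bP x (r, p, n) = 0 := by
    rcases p with _ | p
    · rfl
    · simp only [bP, hx (r, p, n) (by simp [deg] at hi ⊢; omega), map_zero]
  have h3 : T.cP x (r, p, n) = 0 := by
    rcases n with _ | n
    · rfl
    · simp only [cP, hx (r, p, n) (by simp [deg] at hi ⊢; omega), map_zero]
  simp [h1, h2, h3]

lemma filt₁ : Filt deg π₁ T.D where
  sq := T.sq
  supp := T.supp
  le _ := Nat.le_add_right _ _
  tri a x hx := by
    rintro ⟨r, p, n⟩ (hi : r < a)
    rw [D_apply]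
    have h1 : T.aP x (r, p, n) = 0 := by
      rcases r with _ | r
      · rfl
      · simp only [aP, hx (r, p, n) (show r < a by omega), map_zero]
    have h2 : T.bP x (r, p, n) = 0 := by
      rcases p with _ | p
      · rfl
      · simp only [bP, hx (r, p, n) (show r < a by omega), map_zero]
    have h3 : T.cP x (r, p, n) = 0 := by
      rcases n with _ | n
      · rfl
      · simp only [cP, hx (r, p, n) (show r < a by omega), map_zero]
    simp [h1, h2, h3]

lemma filt₂ : Filt deg π₂ T.D where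
  sq := T.sq
  supp := T.supp
  le _ := (Nat.le_add_right _ _).trans (Nat.le_add_left _ _)
  tri a x hx := by
    rintro ⟨r, p, n⟩ (hi : p < a)
    rw [D_apply]
    have h1 : T.aP x (r, p, n) = 0 := by
      rcases r with _ | r
      · rfl
      · simp only [aP, hx (r, p, n) (show p < a by omega), map_zero]
    have h2 : T.bP x (r, p, n) = 0 := by
      rcases p with _ | p
      · rfl
      · simp only [bP, hx (r, p, n) (show p < a by omega), map_zero]
    have h3 : T.cP x (r, p, n) = 0 := by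
      rcases n with _ | n
      · rfl
      · simp only [cP, hx (r, p, n) (show p < a by omega), map_zero]
    simp [h1, h2, h3]

/-- The slice at first coordinate `r`. -/
abbrev slice₁ (r : ℕ) : Bi.{u} where
  A p n := T.A r p n
  h p n := T.b r p n
  v p n := T.c r p n
  hh := T.bb r
  vv := T.cc r
  hv := T.bc r

/-- The slice at second coordinate `p`. -/
abbrev slice₂ (p : ℕ) : Bi.{u} where
  A r n := T.A r p n
  h r n := T.a r p n
  v r n := T.c r p n
  hh r n := T.aa r p n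
  vv r n := T.cc r p n
  hv r n := T.ac r p n

lemma sign_sq (a : ℕ) : (-1 : ℤ) ^ a * (-1 : ℤ) ^ a = 1 := by
  rw [← pow_add]; exact Even.neg_one_pow ⟨a, rfl⟩

/-- Insert a family on the slice with first coordinate `r`. -/
def ins₁ (r : ℕ) (z : ∀ j, (T.slice₁ r).F j) : ∀ i, T.F i :=
  fun i => if h : i.1 = r then (h ▸ fun j => z j : ∀ j : ℕ × ℕ, T.A i.1 j.1 j.2) i.2 else 0

lemma ins₁_self (r : ℕ) (z : ∀ j, (T.slice₁ r).F j) (j : ℕ × ℕ) : T.ins₁ r z (r, j) = z j := dif_pos rfl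

lemma ins₁_ne (r : ℕ) (z : ∀ j, (T.slice₁ r).F j) {i : ℕ × ℕ × ℕ} (h : i.1 ≠ r) : T.ins₁ r z i = 0 := dif_neg h

lemma D_slice₁ (r : ℕ) (x : ∀ i, T.F i) (hx : ∀ i : ℕ × ℕ × ℕ, i.1 ≠ r → x i = 0) (j : ℕ × ℕ) :
    T.D x (r, j) = (-1 : ℤ) ^ r • (T.slice₁ r).D (fun j => x (r, j)) j := by
  obtain ⟨p, n⟩ := j
  rw [D_apply, Bi.D_apply]
  have h1 : T.aP x (r, p, n) = 0 := by
    rcases r with _ | r
    · rfl
    · simp only [aP, hx (r, p, n) (by simp), map_zero]
  rw [h1, zero_add]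
  rcases p with _ | p <;> rcases n with _ | n <;> simp only [bP, cP, Bi.hP, Bi.vP] <;> rfl

lemma slice_of₁ {r : ℕ} (h : (T.slice₁ r).Exact) : SliceExact deg π₁ T.D r := by
  intro k x hk hx hDx
  rcases Nat.lt_or_ge k r with hkr | hkr
  · refine ⟨0, fun _ _ => rfl, fun _ _ => rfl, fun i hi => ?_⟩
    rw [map_zero, hk i (by simp [deg]; simp [π₁] at hi; omega)]
    rfl
  obtain ⟨k, rfl⟩ : ∃ k', k = r + k' := ⟨k - r, by omega⟩
  obtain ⟨y, hy, hyx⟩ := h k (fun j => x (r, j)) (fun j hj => hk _ (by simp [deg, Bi.deg] at hj ⊢; omega))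
    (funext fun j => by
      have h1 := hDx (r, j) rfl
      rw [T.D_slice₁ r x hx] at h1
      have h2 := congrArg ((-1 : ℤ) ^ r • ·) h1
      simp only [smul_smul, sign_sq, one_smul, smul_zero] at h2
      exact h2)
  refine ⟨T.ins₁ r ((-1 : ℤ) ^ r • y), fun i hi => ?_, fun i hi => T.ins₁_ne _ _ hi, fun i hi => ?_⟩
  · obtain ⟨r', j⟩ := i
    by_cases h' : r' = r
    · subst h'
      rw [ins₁_self, Pi.smul_apply, hy j (by simp [deg, Bi.deg] at hi ⊢; omega), smul_zero]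
    · exact T.ins₁_ne _ _ h'
  · obtain ⟨r', j⟩ := i
    obtain rfl : r' = r := hi
    rw [T.D_slice₁ r' _ (fun i hi => T.ins₁_ne _ _ hi),
      show (fun j => T.ins₁ r' ((-1 : ℤ) ^ r' • y) (r', j)) = (-1 : ℤ) ^ r' • y from funext (T.ins₁_self _ _),
      map_zsmul, hyx, Pi.smul_apply, smul_smul, sign_sq, one_smul]

lemma of_slice₁ {r : ℕ} (h : SliceExact deg π₁ T.D r) : (T.slice₁ r).Exact := by
  intro k z hk hz
  obtain ⟨y, hy, hy0, hyx⟩ := h (r + k) (T.ins₁ r z) (fun i hi => by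
      obtain ⟨r', j⟩ := i
      by_cases h' : r' = r
      · subst h'; rw [ins₁_self]; exact hk j (by simp [deg, Bi.deg] at hi ⊢; omega)
      · exact T.ins₁_ne _ _ h')
    (fun i hi => T.ins₁_ne _ _ hi) (fun i hi => by
      obtain ⟨r', j⟩ := i
      obtain rfl : r' = r := hi
      rw [T.D_slice₁ r' _ (fun i hi => T.ins₁_ne _ _ hi),
        show (fun j => T.ins₁ r' z (r', j)) = z from funext (T.ins₁_self _ _), hz]
      exact smul_zero _)
  refine ⟨(-1 : ℤ) ^ r • fun j => y (r, j), fun j hj => ?_, funext fun j => ?_⟩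
  · rw [Pi.smul_apply]
    exact (congrArg ((-1 : ℤ) ^ r • ·) (hy (r, j) (by simp [deg, Bi.deg] at hj ⊢; omega))).trans (smul_zero _)
  · rw [map_zsmul, Pi.smul_apply, ← T.ins₁_self r z j, ← hyx (r, j) rfl, T.D_slice₁ r y hy0]

/-- Insert a family on the slice with second coordinate `p`. -/
def ins₂ (p : ℕ) (z : ∀ j, (T.slice₂ p).F j) : ∀ i, T.F i :=
  fun i => if h : i.2.1 = p then (h ▸ fun j => z j : ∀ j : ℕ × ℕ, T.A j.1 i.2.1 j.2) (i.1, i.2.2) else 0

lemma ins₂_self (p : ℕ) (z : ∀ j, (T.slice₂ p).F j) (r n : ℕ) : T.ins₂ p z (r, p, n) = z (r, n) := dif_pos rfl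

lemma ins₂_ne (p : ℕ) (z : ∀ j, (T.slice₂ p).F j) {i : ℕ × ℕ × ℕ} (h : i.2.1 ≠ p) : T.ins₂ p z i = 0 := dif_neg h

/-- The sign twist used for the slices with fixed second coordinate. -/
def tw (p : ℕ) (z : ∀ j, (T.slice₂ p).F j) : ∀ j, (T.slice₂ p).F j := fun j => (-1 : ℤ) ^ (p * j.2) • z j

lemma tw_tw (p : ℕ) (z : ∀ j, (T.slice₂ p).F j) : T.tw p (T.tw p z) = z := by
  funext j; simp only [tw, smul_smul, sign_sq, one_smul]

lemma tw_zero (p : ℕ) : T.tw p 0 = 0 := funext fun j => smul_zero _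

lemma D_slice₂ (p : ℕ) (x : ∀ i, T.F i) (hx : ∀ i : ℕ × ℕ × ℕ, i.2.1 ≠ p → x i = 0) (r n : ℕ) :
    T.D x (r, p, n) = T.tw p ((T.slice₂ p).D (T.tw p fun j => x (j.1, p, j.2))) (r, n) := by
  rw [D_apply, tw, Bi.D_apply]
  have h1 : T.bP x (r, p, n) = 0 := by
    rcases p with _ | p
    · rfl
    · simp only [bP, hx (r, p, n) (by simp), map_zero]
  rw [h1, zero_add]
  rcases r with _ | r <;> rcases n with _ | n
  · simp [aP, cP, Bi.hP, Bi.vP, tw]
  · simp [aP, cP, Bi.hP, Bi.vP, tw, smul_smul, mul_add, pow_add]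
    rw [show (-1 : ℤ) ^ (p * n) * (-1 : ℤ) ^ p * (-1 : ℤ) ^ (p * n) = (-1 : ℤ) ^ p by
      rw [mul_comm ((-1 : ℤ) ^ (p * n)), mul_assoc, sign_sq, mul_one]]
  · simp [aP, cP, Bi.hP, Bi.vP, tw]
  · simp only [aP, cP, Bi.hP, Bi.vP, tw, smul_add, map_zsmul, smul_smul, smul_neg, pow_succ, mul_neg, mul_one,
      neg_smul, neg_mul, zero_add, Nat.mul_succ, pow_add, sign_sq, one_smul]
    congr 1
    · rw [show (-1 : ℤ) ^ (p * n) * (-1 : ℤ) ^ p * ((-1 : ℤ) ^ (p * n) * (-1 : ℤ) ^ p) = 1 by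
        rw [← pow_add, sign_sq], one_smul]
    · rw [show (-1 : ℤ) ^ (p * n) * (-1 : ℤ) ^ p * ((-1 : ℤ) ^ r * (-1 : ℤ) ^ (p * n)) =
          (-1 : ℤ) ^ r * (-1 : ℤ) ^ p by
        rw [← pow_add, ← pow_add, ← pow_add, ← pow_add,
          show p * n + p + (r + p * n) = (r + p) + (p * n + p * n) by omega, pow_add (-1 : ℤ) (r + p),
          Even.neg_one_pow ⟨p * n, rfl⟩, mul_one]]

lemma slice_of₂ {p : ℕ} (h : (T.slice₂ p).Exact) : SliceExact deg π₂ T.D p := by
  intro k x hk hx hDx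
  rcases Nat.lt_or_ge k p with hkr | hkr
  · refine ⟨0, fun _ _ => rfl, fun _ _ => rfl, fun i hi => ?_⟩
    rw [map_zero, hk i (by simp [deg]; simp [π₂] at hi; omega)]
    rfl
  obtain ⟨k, rfl⟩ : ∃ k', k = p + k' := ⟨k - p, by omega⟩
  obtain ⟨y, hy, hyx⟩ := h k (T.tw p fun j => x (j.1, p, j.2))
    (fun j hj => by
      rw [tw, hk (j.1, p, j.2) (by simp [deg, Bi.deg] at hj ⊢; omega)]
      exact smul_zero _)
    (by
      rw [← T.tw_tw p ((T.slice₂ p).D _), ← T.tw_zero p]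
      exact congrArg (T.tw p) (funext fun j => (T.D_slice₂ p x hx j.1 j.2).symm.trans (hDx _ rfl)))
  refine ⟨T.ins₂ p (T.tw p y), fun i hi => ?_, fun i hi => T.ins₂_ne _ _ hi, fun i hi => ?_⟩
  · obtain ⟨r, p', n⟩ := i
    by_cases h' : p' = p
    · subst h'
      rw [ins₂_self, tw, hy (r, n) (by simp [deg, Bi.deg] at hi ⊢; omega), smul_zero]
    · exact T.ins₂_ne _ _ h'
  · obtain ⟨r, p', n⟩ := i
    obtain rfl : p' = p := hi
    rw [T.D_slice₂ p' _ (fun i hi => T.ins₂_ne _ _ hi),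
      show (fun j : ℕ × ℕ => T.ins₂ p' (T.tw p' y) (j.1, p', j.2)) = T.tw p' y from
        funext fun j => T.ins₂_self _ _ _ _, T.tw_tw, hyx]
    exact congrFun (T.tw_tw p' fun j => x (j.1, p', j.2)) (r, n)

lemma of_slice₂ {p : ℕ} (h : SliceExact deg π₂ T.D p) : (T.slice₂ p).Exact := by
  intro k z hk hz
  obtain ⟨y, hy, hy0, hyx⟩ := h (p + k) (T.ins₂ p (T.tw p z)) (fun i hi => by
      obtain ⟨r, p', n⟩ := i
      by_cases h' : p' = p
      · subst h'; rw [ins₂_self, tw, hk (r, n) (by simp [deg, Bi.deg] at hi ⊢; omega), smul_zero]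
      · exact T.ins₂_ne _ _ h')
    (fun i hi => T.ins₂_ne _ _ hi) (fun i hi => by
      obtain ⟨r, p', n⟩ := i
      obtain rfl : p' = p := hi
      rw [T.D_slice₂ p' _ (fun i hi => T.ins₂_ne _ _ hi),
        show (fun j : ℕ × ℕ => T.ins₂ p' (T.tw p' z) (j.1, p', j.2)) = T.tw p' z from
          funext fun j => T.ins₂_self _ _ _ _, T.tw_tw, hz, T.tw_zero]
      rfl)
  refine ⟨T.tw p fun j => y (j.1, p, j.2), fun j hj => ?_, ?_⟩
  · rw [tw, hy (j.1, p, j.2) (by simp [deg, Bi.deg] at hj ⊢; omega)]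
    exact smul_zero _
  · rw [← T.tw_tw p ((T.slice₂ p).D _), ← T.tw_tw p z]
    refine congrArg (T.tw p) (funext fun j => ?_)
    rw [← T.D_slice₂ p y hy0, hyx _ rfl, ins₂_self]

/-- Exact slices of the first kind give exactness. -/
theorem exact_of_slices₁ (h : ∀ r, (T.slice₁ r).Exact) : T.Exact :=
  T.filt₁.totExact fun r => T.slice_of₁ (h r)

/-- Exact slices of the second kind give exactness. -/
theorem exact_of_slices₂ (h : ∀ p, (T.slice₂ p).Exact) : T.Exact :=
  T.filt₂.totExact fun p => T.slice_of₂ (h p)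

/-- The first slice of the first kind. -/
theorem slice₁_zero (hT : T.Exact) (h : ∀ r, (T.slice₁ (r + 1)).Exact) : (T.slice₁ 0).Exact :=
  T.of_slice₁ <| T.filt₁.slice_zero hT fun a ha => by
    obtain ⟨r, rfl⟩ : ∃ r, a = r + 1 := ⟨a - 1, by omega⟩
    exact T.slice_of₁ (h r)

/-- The first slice of the second kind. -/
theorem slice₂_zero (hT : T.Exact) (h : ∀ p, (T.slice₂ (p + 1)).Exact) : (T.slice₂ 0).Exact :=
  T.of_slice₂ <| T.filt₂.slice_zero hT fun a ha => by
    obtain ⟨p, rfl⟩ : ∃ p, a = p + 1 := ⟨a - 1, by omega⟩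
    exact T.slice_of₂ (h p)

/-- The second slice of the first kind, when there are only two. -/
theorem slice₁_one (hT : T.Exact) (h0 : (T.slice₁ 0).Exact) (h2 : ∀ (r p n : ℕ) (a : T.A (r + 2) p n), a = 0) :
    (T.slice₁ 1).Exact :=
  T.of_slice₁ <| T.filt₁.slice_one hT (T.slice_of₁ h0) fun ⟨r, p, n⟩ hr a => by
    obtain ⟨r', rfl⟩ : ∃ r', r = r' + 2 := ⟨r - 2, by simp only [Tri.π₁] at hr; omega⟩
    exact h2 r' p n a

end Tri

end Groth.Agent.CohDesc82
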