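import Groth.Agent.CohDesc82.Cone
import Groth.Agent.CohDesc82.Tri

/-!
# Maps of bicomplexes, as triple complexes
-/

universe u

set_option autoImplicit false
set_option linter.unusedVariables false
set_option backward.isDefEq.respectTransparency false
set_option backward.isDefEq.respectTransparency.types false

open CategoryTheory

namespace Groth.Agent.CohDesc82

/-- Isomorphic bicomplexes are exact together. -/
theorem Bi.Exact.congr {B B' : Bi.{u}} (e : ∀ p n, B.A p n ≃+ B'.A p n)
    (eh : ∀ p n x, e (p + 1) n (B.h p n x) = B'.h p n (e p n x))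
    (ev : ∀ p n x, e p (n + 1) (B.v p n x) = B'.v p n (e p n x)) (hB : B.Exact) : B'.Exact := by
  let E : (∀ i, B.F i) →+ (∀ i, B'.F i) :=
    AddMonoidHom.mk' (fun x i => e i.1 i.2 (x i)) fun x y => funext fun i => map_add _ _ _
  have hD : ∀ x, E (B.D x) = B'.D (E x) := fun x => funext fun ⟨p, n⟩ => by
    show e p n (B.D x (p, n)) = B'.D (E x) (p, n)
    rw [Bi.D_apply, Bi.D_apply, map_add, map_zsmul]
    congr 1
    · rcases p with _ | p
      · exact map_zero _
      · exact eh p n _
    · congr 1
      rcases n with _ | n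
      · exact map_zero _
      · exact ev p n _
  intro k x hx hD'
  obtain ⟨y, hy, hyx⟩ := hB k (fun i => (e i.1 i.2).symm (x i)) (fun i hi => by simp [hx i hi]) (by
    have hE : Function.Injective E := fun a b h => funext fun i => (e i.1 i.2).injective (congrFun h i)
    apply hE
    rw [hD, map_zero]
    have : E (fun i => (e i.1 i.2).symm (x i)) = x := funext fun i => (e i.1 i.2).apply_symm_apply (x i)
    rw [this, hD'])
  refine ⟨E y, fun i hi => ?_, ?_⟩
  · show e i.1 i.2 (y i) = 0
    rw [hy i hi, map_zero]
  · rw [← hD, hyx]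
    exact funext fun i => (e i.1 i.2).apply_symm_apply (x i)

variable {B B' : Bi.{u}}

/-- The terms of the triple complex of a map. -/
noncomputable def homA (B B' : Bi.{u}) : ℕ → ℕ → ℕ → AddCommGrpCat.{u}
  | 0, p, n => B.A p n
  | 1, p, n => B'.A p n
  | _ + 2, _, _ => zeroGrp

/-- The triple complex of a map of bicomplexes. -/
noncomputable abbrev Tri.ofHom (f : ∀ p n, B.A p n →+ B'.A p n)
    (fh : ∀ p n x, f (p + 1) n (B.h p n x) = B'.h p n (f p n x))
    (fv : ∀ p n x, f p (n + 1) (B.v p n x) = B'.v p n (f p n x)) : Tri.{u} where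
  A := homA B B'
  a r p n := match r with
    | 0 => f p n
    | _ + 1 => 0
  b r p n := match r with
    | 0 => B.h p n
    | 1 => B'.h p n
    | _ + 2 => 0
  c r p n := match r with
    | 0 => B.v p n
    | 1 => B'.v p n
    | _ + 2 => 0
  aa r p n x := by rcases r with _ | r <;> rfl
  bb r p n x := match r, x with
    | 0, x => B.hh p n x
    | 1, x => B'.hh p n x
    | _ + 2, _ => rfl
  cc r p n x := match r, x with
    | 0, x => B.vv p n x
    | 1, x => B'.vv p n x
    | _ + 2, _ => rfl
  ab r p n x := match r, x with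
    | 0, x => fh p n x
    | 1, _ => (map_zero _).symm
    | _ + 2, _ => rfl
  ac r p n x := match r, x with
    | 0, x => fv p n x
    | 1, _ => (map_zero _).symm
    | _ + 2, _ => rfl
  bc r p n x := match r, x with
    | 0, x => B.hv p n x
    | 1, x => B'.hv p n x
    | _ + 2, _ => rfl

/-- The zero slices of the triple complex of a map. -/
theorem Tri.ofHom_slice₁_exact (f : ∀ p n, B.A p n →+ B'.A p n) (fh fv) (r : ℕ) :
    ((Tri.ofHom f fh fv).slice₁ (r + 2)).Exact := fun k x _ _ =>
  ⟨0, fun _ _ => rfl, funext fun _ => Subsingleton.elim (α := PUnit) _ _⟩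

/-- If all the cones of the columns and the target are exact, so is the source. -/
theorem exact_source (f : ∀ p n, B.A p n →+ B'.A p n) (fh fv)
    (hcone : ∀ p, ((Tri.ofHom f fh fv).slice₂ p).Exact) (hB' : B'.Exact) : B.Exact :=
  (Tri.ofHom f fh fv).slice₁_zero ((Tri.ofHom f fh fv).exact_of_slices₂ hcone) fun r => by
    rcases r with _ | r
    · exact hB'
    · exact Tri.ofHom_slice₁_exact f fh fv r

/-- If all the cones of the columns and the source are exact, so is the target. -/
theorem exact_target (f : ∀ p n, B.A p n →+ B'.A p n) (fh fv)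
    (hcone : ∀ p, ((Tri.ofHom f fh fv).slice₂ p).Exact) (hB : B.Exact) : B'.Exact :=
  (Tri.ofHom f fh fv).slice₁_one ((Tri.ofHom f fh fv).exact_of_slices₂ hcone) hB
    fun r p n a => Subsingleton.elim (α := PUnit) _ _

/-- If source and target are exact, and the cones of the columns of positive index are, so is that of index `0`. -/
theorem exact_cone_zero (f : ∀ p n, B.A p n →+ B'.A p n) (fh fv)
    (hB : B.Exact) (hB' : B'.Exact) (hcone : ∀ p, ((Tri.ofHom f fh fv).slice₂ (p + 1)).Exact) :
    ((Tri.ofHom f fh fv).slice₂ 0).Exact :=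
  (Tri.ofHom f fh fv).slice₂_zero ((Tri.ofHom f fh fv).exact_of_slices₁ fun r => by
    rcases r with _ | _ | r
    · exact hB
    · exact hB'
    · exact Tri.ofHom_slice₁_exact f fh fv r) hcone

end Groth.Agent.CohDesc82
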