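import Groth.Agent.CohDesc82.OE

/-!
# Models from larger diagrams
-/

universe u

set_option autoImplicit false
set_option linter.unusedVariables false
set_option backward.isDefEq.respectTransparency false
set_option backward.isDefEq.respectTransparency.types false

open CategoryTheory CategoryTheory.Limits Opposite TopologicalSpace DerivedCategory

attribute [local instance] HasDerivedCategory.standard

namespace Groth.Agent.CohDesc82

noncomputable section

variable {𝒮 : Type} [Category.{0} 𝒮] (Φ : AΔᵒᵖ ⥤ 𝒮) (Y : 𝒮 ⥤ TopCat.{u})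

/-- The base fibre of a restriction. -/
def restrBaseIso : restrΦ Φ Y ⋙ restr (Φ ⋙ Y) B0 ≅ restr Y (Φ.obj B0) :=
  NatIso.ofComponents
    (fun P => (fullyFaithfulSheafToPresheaf _ _).preimageIso
      (Functor.isoWhiskerRight (NatIso.op (bcIso Φ Y B0)).symm P.obj))
    fun {P Q} f => Sheaf.hom_ext (NatTrans.ext (funext fun V => (f.hom.naturality _).symm))

/-- The criterion for a diagram sitting in a larger one with final object the base. -/
theorem crit_restr (hT : IsTerminal (Φ.obj B0))
    (h : ∀ (K : CochainComplex (Sh Y) ℤ) (d : ℤ) [K.IsStrictlyGE d], (∀ n, FlFib (K.X n).obj) → Cart K →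
      ∀ U, (cechBi (Φ ⋙ Y) (((restrΦ Φ Y).mapHomologicalComplex _).obj K) d U).Exact) :
    Crit (Φ ⋙ Y) := by
  refine crit_of_models _ fun I d _ _ => ?_
  have := preservesFiniteLimits_extT (Y := Y) hT
  have : PreservesFiniteColimits (extT Y (Φ.obj B0)) :=
    have : PreservesColimitsOfSize.{0, 0} (extT Y (Φ.obj B0)) := (extAdj Y (Φ.obj B0)).leftAdjoint_preservesColimits
    PreservesColimitsOfSize.preservesFiniteColimits _
  let I' : CochainComplex (TopCat.Sheaf AddCommGrpCat.{u} (Y.obj (Φ.obj B0))) ℤ := I
  have : I'.IsStrictlyGE d := inferInstanceAs (I.IsStrictlyGE d)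
  obtain ⟨K, j₀, hj, hi, hb⟩ := CochainComplex.Plus.modelCategoryQuillen.exists_quasiIso_injective
    (((extT Y (Φ.obj B0)).mapHomologicalComplex _).obj I') d
  have hext : Cart (((extT Y (Φ.obj B0)).mapHomologicalComplex _).obj I') := fun i j f x y hxy => by
    have : ∀ n, IsIso (((NatTrans.mapHomologicalComplex (trans f x y hxy) (ComplexShape.up ℤ)).app
        (((extT Y (Φ.obj B0)).mapHomologicalComplex _).obj I')).f n) :=
      fun n => isIso_trn_extT hT (I'.X n) f x y hxy
    have := HomologicalComplex.Hom.isIso_of_components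
      ((NatTrans.mapHomologicalComplex (trans f x y hxy) (ComplexShape.up ℤ)).app
        (((extT Y (Φ.obj B0)).mapHomologicalComplex _).obj I'))
    infer_instance
  have hK : Cart K := fun i j f x y hxy => by
    have := hext f x y hxy
    have e := (NatTrans.mapHomologicalComplex (trans f x y hxy) (ComplexShape.up ℤ)).naturality j₀
    have : QuasiIso (((stk Y j y).mapHomologicalComplex (ComplexShape.up ℤ)).map j₀ ≫
        (NatTrans.mapHomologicalComplex (trans f x y hxy) (ComplexShape.up ℤ)).app K) := by
      rw [e]; infer_instance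
    exact quasiIso_of_comp_left (((stk Y j y).mapHomologicalComplex (ComplexShape.up ℤ)).map j₀) _
  have hfl : ∀ n, FlFib (K.X n).obj := fun n =>
    have := hi n
    flFib_of_injective _
  let K' := ((restrΦ Φ Y).mapHomologicalComplex _).obj K
  let un : I' ⟶ ((restr Y (Φ.obj B0)).mapHomologicalComplex _).obj
      (((extT Y (Φ.obj B0)).mapHomologicalComplex _).obj I') :=
    { f := fun n => (extAdj Y (Φ.obj B0)).unit.app (I'.X n)
      comm' := fun i j _ => ((extAdj Y (Φ.obj B0)).unit.naturality (I'.d i j)).symm }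
  have : ∀ n, IsIso (un.f n) := fun n => isIso_unit_extT hT (I'.X n)
  have := HomologicalComplex.Hom.isIso_of_components un
  let θ₀ : I ⟶ ((restr (Φ ⋙ Y) B0).mapHomologicalComplex _).obj K' :=
    (un ≫ ((restr Y (Φ.obj B0)).mapHomologicalComplex _).map j₀) ≫
      (NatTrans.mapHomologicalComplex (restrBaseIso Φ Y).inv (ComplexShape.up ℤ)).app K
  have : QuasiIso θ₀ := by
    have h1 : QuasiIso (un ≫ ((restr Y (Φ.obj B0)).mapHomologicalComplex _).map j₀) := inferInstance
    have h2 : IsIso ((NatTrans.mapHomologicalComplex (restrBaseIso Φ Y).inv (ComplexShape.up ℤ)).app K) :=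
      inferInstanceAs (IsIso ((NatIso.mapHomologicalComplex (restrBaseIso Φ Y).symm (ComplexShape.up ℤ)).app K).hom)
    exact quasiIso_comp _ _
  have : I.IsKInjective := CochainComplex.isKInjective_of_injective I d
  obtain ⟨θ, hθ⟩ := Q_map_surjective (((restr (Φ ⋙ Y) B0).mapHomologicalComplex _).obj K') I (inv (Q.map θ₀))
  refine ⟨K', θ, inferInstance, fun n => flFib_restrΦ (hfl n), cart_restrΦ Φ hK, ?_, h K d hfl hK⟩
  rw [← isIso_Q_map_iff_quasiIso, hθ]
  infer_instance

end

end Groth.Agent.CohDesc82
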