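import Groth.Agent.CohDesc82.Section
import Groth.Agent.CohDesc82.Grid

/-!
# Permanence properties of universal cohomological descent
-/

universe u

set_option autoImplicit false
set_option linter.unusedVariables false
set_option backward.isDefEq.respectTransparency false
set_option backward.isDefEq.respectTransparency.types false

open CategoryTheory CategoryTheory.Limits Opposite TopologicalSpace Simplicial

namespace Groth.Agent.CohDesc82

noncomputable section

variable {X Y S : TopCat.{u}}

/-- The first projection from a fibre power lifts the structure map. -/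
theorem π_nvAug (v : Y ⟶ S) (p : ℕ) :
    WidePullback.π (fun _ : Fin (p + 1) => v) 0 ≫ v = nvAug v (op (WithInitial.of ⦋p⦌)) :=
  WidePullback.π_arrow (fun _ : Fin (p + 1) => v) 0

/-- A map through which a map of universal cohomological descent factors is one. -/
theorem UCD.of_factor {g : Y ⟶ S} {w : X ⟶ S} (hw : UCD w) (j : X ⟶ Y) (e : j ≫ g = w) : UCD g := by
  intro T h
  refine cd_of_grid (pullback.snd g h) (pullback.snd w h) (hw.baseChange h) fun p => ?_
  let v : pullback w h ⟶ T := pullback.snd w h
  let j' : pullback w h ⟶ pullback g h := pullback.lift (pullback.fst w h ≫ j) (pullback.snd w h)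
    (by rw [Category.assoc, e, pullback.condition])
  refine cd_of_section _ (pullback.lift (WidePullback.π (fun _ : Fin (p + 1) => v) 0 ≫ j') (𝟙 _) ?_)
    (pullback.lift_snd _ _ _)
  rw [Category.assoc, pullback.lift_snd]
  exact (π_nvAug v p).trans (Category.id_comp _).symm

/-- Composites. -/
theorem UCD.comp {f : X ⟶ Y} {g : Y ⟶ S} (hf : UCD f) (hg : UCD g) : UCD (f ≫ g) := by
  intro T h
  refine cd_of_grid (pullback.snd (f ≫ g) h) (pullback.snd g h) (hg.baseChange h) fun p => ?_
  let v : pullback g h ⟶ T := pullback.snd g h
  let k := nvAug v (op (WithInitial.of ⦋p⦌))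
  let r := WidePullback.π (fun _ : Fin (p + 1) => v) 0 ≫ pullback.fst g h
  have hr : r ≫ g = k ≫ h := by
    show _ = nvAug v (op (WithInitial.of ⦋p⦌)) ≫ h
    rw [← π_nvAug v p, Category.assoc, pullback.condition]
    exact (Category.assoc _ _ _).symm
  have w : pullback.fst f r ≫ f ≫ g = (pullback.snd f r ≫ k) ≫ h := by
    rw [Category.assoc, ← hr, pullback.condition_assoc]
  exact CD.of_ucd ((hf.baseChange r).of_factor
    (pullback.lift (pullback.lift (pullback.fst f r) (pullback.snd f r ≫ k) w) (pullback.snd f r)
      (pullback.lift_snd _ _ _)) (pullback.lift_snd _ _ _))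

/-- Locality for maps of universal cohomological descent. -/
theorem UCD.of_baseChange {S' : TopCat.{u}} {f : X ⟶ S} {g : S' ⟶ S} (hg : UCD g)
    (hf : UCD (pullback.snd f g)) : UCD f := by
  intro T h
  refine cd_of_grid (pullback.snd f h) (pullback.snd g h) (hg.baseChange h) fun p => ?_
  let v : pullback g h ⟶ T := pullback.snd g h
  let k := nvAug v (op (WithInitial.of ⦋p⦌))
  let r := WidePullback.π (fun _ : Fin (p + 1) => v) 0 ≫ pullback.fst g h
  have hr : r ≫ g = k ≫ h := by
    show _ = nvAug v (op (WithInitial.of ⦋p⦌)) ≫ h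
    rw [← π_nvAug v p, Category.assoc, pullback.condition]
    exact (Category.assoc _ _ _).symm
  let f' := pullback.snd f g
  have w : (pullback.fst f' r ≫ pullback.fst f g) ≫ f = (pullback.snd f' r ≫ k) ≫ h := by
    rw [Category.assoc, Category.assoc, ← hr, pullback.condition, ← pullback.condition_assoc]
  exact CD.of_ucd ((hf.baseChange r).of_factor
    (pullback.lift (pullback.lift (pullback.fst f' r ≫ pullback.fst f g) (pullback.snd f' r ≫ k) w)
      (pullback.snd f' r) (pullback.lift_snd _ _ _)) (pullback.lift_snd _ _ _))

/-- Fibre products. -/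
theorem UCD.pullbackMap {X' Y' X Y : TopCat.{u}} (pX : X' ⟶ S) (pY : Y' ⟶ S) {f : X ⟶ X'} {g : Y ⟶ Y'}
    (hf : UCD f) (hg : UCD g) :
    UCD (pullback.map (f ≫ pX) (g ≫ pY) pX pY f g (𝟙 S) (Category.comp_id _) (Category.comp_id _)) := by
  let a := pullback.snd f (pullback.fst pX pY)
  let b := pullback.snd g (a ≫ pullback.snd pX pY)
  have hab : UCD (b ≫ a) := UCD.comp (hg.baseChange _) (hf.baseChange _)
  refine hab.of_factor (pullback.lift (b ≫ pullback.fst f (pullback.fst pX pY)) (pullback.fst g _) ?_) ?_
  · rw [Category.assoc, pullback.condition_assoc, pullback.condition]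
    have e : pullback.fst g (a ≫ pullback.snd pX pY) ≫ g = b ≫ a ≫ pullback.snd pX pY := pullback.condition
    rw [← Category.assoc (pullback.fst g _), e]
    simp only [Category.assoc]
    rfl
  · refine pullback.hom_ext ?_ ?_
    · simp only [Category.assoc, pullback.map, pullback.lift_fst, pullback.lift_fst_assoc]
      rw [pullback.condition]
    · simp only [Category.assoc, pullback.map, pullback.lift_snd, pullback.lift_snd_assoc]
      exact pullback.condition

end

end Groth.Agent.CohDesc82
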