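import Groth.Agent.CohDesc82.Push
import Groth.Agent.CohDesc82.Hom
import Groth.Agent.CohDesc82.Abstract

/-!
# Cohomological descent is the Cech criterion
-/

universe u

set_option autoImplicit false
set_option backward.isDefEq.respectTransparency false
set_option backward.isDefEq.respectTransparency.types false

open CategoryTheory CategoryTheory.Limits Opposite TopologicalSpace DerivedCategory Simplicial

attribute [local instance] HasDerivedCategory.standard

namespace Groth.Agent.CohDesc82

noncomputable section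

variable {Z : AΔᵒᵖ ⥤ TopCat.{u}} {K L : CochainComplex (Sh Z) ℤ}

/-- The triple complex of a map of complexes of sheaves. -/
abbrev cechTri (φ : K ⟶ L) (d : ℤ) (U : Opens (Z.obj (op WithInitial.star))) : Tri.{u} :=
  Tri.ofHom (B := cechBi Z K d U) (B' := cechBi Z L d U)
    (fun p n => ((Functor.whiskerLeft (lvl Z U) (φ.f (d + n)).hom).app (idx p)).hom)
    (fun p n x => cd_natural (Functor.whiskerLeft (lvl Z U) (φ.f (d + n)).hom) p x)
    (fun p n x => (ConcreteCategory.congr_hom (congrArg (fun q => q.hom.app ((lvl Z U).obj (idx p)))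
      (φ.comm (d + n) (d + (n + 1 : ℕ)))) x).symm)

theorem slice₂_iff_cone (φ : K ⟶ L) (d : ℤ) (U : Opens (Z.obj (op WithInitial.star))) (p : ℕ) :
    ((cechTri φ d U).slice₂ p).Exact ↔
      (Bi.cone ((secC Z (op (idx p)) (lev Z U (op (idx p)))).map φ) d).Exact := by
  constructor <;> intro h
  · exact Bi.Exact.congr (B := (cechTri φ d U).slice₂ p)
      (B' := Bi.cone ((secC Z (op (idx p)) (lev Z U (op (idx p)))).map φ) d)
      (fun r n => match r with | 0 => AddEquiv.refl _ | 1 => AddEquiv.refl _ | _ + 2 => AddEquiv.refl _)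
      (fun r n x => by rcases r with _ | _ | r <;> rfl) (fun r n x => by rcases r with _ | _ | r <;> rfl) h
  · exact Bi.Exact.congr (B := Bi.cone ((secC Z (op (idx p)) (lev Z U (op (idx p)))).map φ) d)
      (B' := (cechTri φ d U).slice₂ p)
      (fun r n => match r with | 0 => AddEquiv.refl _ | 1 => AddEquiv.refl _ | _ + 2 => AddEquiv.refl _)
      (fun r n x => by rcases r with _ | _ | r <;> rfl) (fun r n x => by rcases r with _ | _ | r <;> rfl) h

theorem slice₂_exact (φ : K ⟶ L) [QuasiIso φ] (d : ℤ) [K.IsStrictlyGE d] [L.IsStrictlyGE d]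
    (hK : ∀ n, FlFib (K.X n).obj) (hL : ∀ n, FlFib (L.X n).obj) (U : Opens (Z.obj (op WithInitial.star)))
    (p : ℕ) : ((cechTri φ d U).slice₂ p).Exact :=
  (slice₂_iff_cone φ d U p).2 (secCone_exact φ d hK hL _ _)

/-- Exactness of the Cech bicomplex pulls back along quasi-isomorphisms. -/
theorem cechBi_exact_of_qis (φ : K ⟶ L) [QuasiIso φ] (d : ℤ) [K.IsStrictlyGE d] [L.IsStrictlyGE d]
    (hK : ∀ n, FlFib (K.X n).obj) (hL : ∀ n, FlFib (L.X n).obj) (U : Opens (Z.obj (op WithInitial.star)))
    (h : (cechBi Z L d U).Exact) : (cechBi Z K d U).Exact :=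
  exact_source _ _ _ (slice₂_exact φ d hK hL U) h

/-- Being cartesian is invariant under quasi-isomorphisms. -/
theorem cart_of_qis (φ : K ⟶ L) [QuasiIso φ] (hK : Cart K) : Cart L := fun i j f x y h => by
  have := hK f x y h
  have e := (NatTrans.mapHomologicalComplex (trans f x y h) (ComplexShape.up ℤ)).naturality φ
  have : QuasiIso (((stk Z j y).mapHomologicalComplex (ComplexShape.up ℤ)).map φ ≫
      (NatTrans.mapHomologicalComplex (trans f x y h) (ComplexShape.up ℤ)).app L) := by
    rw [e]; infer_instance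
  exact quasiIso_of_comp_left (((stk Z j y).mapHomologicalComplex (ComplexShape.up ℤ)).map φ) _

variable (Z)

/-- The base point. -/
abbrev B0 : AΔᵒᵖ := op WithInitial.star

/-- Extension from the base. -/
abbrev extB : TopCat.Sheaf AddCommGrpCat.{u} (Z.obj B0) ⥤ Sh Z := extT Z B0

instance preservesFiniteLimits_extB : PreservesFiniteLimits (extB Z) := preservesFiniteLimits_extT hbot

instance preservesFiniteColimits_extB : PreservesFiniteColimits (extB Z) :=
  have : PreservesColimitsOfSize.{0, 0} (extB Z) := (extAdj Z B0).leftAdjoint_preservesColimits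
  PreservesColimitsOfSize.preservesFiniteColimits _

/-- The inverse image to the part. -/
abbrev pullB : TopCat.Sheaf AddCommGrpCat.{u} (Z.obj B0) ⥤ Sh (Zp Z) := extB Z ⋙ restrΦ ΦΔ Z

/-- The direct image from the part. -/
abbrev pushB : Sh (Zp Z) ⥤ TopCat.Sheaf AddCommGrpCat.{u} (Z.obj B0) := pushΦ Z ⋙ restr Z B0

/-- The adjunction. -/
abbrev adjB : pullB Z ⊣ pushB Z := (extAdj Z B0).comp (adjΦ Z)

instance preservesFiniteLimits_pullB : PreservesFiniteLimits (pullB Z) := comp_preservesFiniteLimits _ _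

instance preservesFiniteColimits_pullB : PreservesFiniteColimits (pullB Z) := comp_preservesFiniteColimits _ _

instance additive_pushB : (pushB Z).Additive := (adjB Z).right_adjoint_additive

variable {Z}

theorem cart_extB (I : CochainComplex (TopCat.Sheaf AddCommGrpCat.{u} (Z.obj B0)) ℤ) :
    Cart (((extB Z).mapHomologicalComplex _).obj I) := fun i j f x y h => by
  have : ∀ n, IsIso (((NatTrans.mapHomologicalComplex (trans f x y h) (ComplexShape.up ℤ)).app
      (((extB Z).mapHomologicalComplex _).obj I)).f n) := fun n => isIso_trn_extT hbot (I.X n) f x y h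
  have := HomologicalComplex.Hom.isIso_of_components
    ((NatTrans.mapHomologicalComplex (trans f x y h) (ComplexShape.up ℤ)).app (((extB Z).mapHomologicalComplex _).obj I))
  infer_instance

theorem flFib_of_zero {P : Sh Z} (h : IsZero P) : FlFib P.obj := fun i V U hVU s =>
  ⟨0, by
    rw [map_zero]
    have : 𝟙 ((secF Z i V).obj P) = 0 := ((secF Z i V).map_isZero h).eq_of_src _ _
    exact (ConcreteCategory.congr_hom this s).symm⟩

/-- The data attached to an injective complex on the base. -/
structure Res (I : CochainComplex (TopCat.Sheaf AddCommGrpCat.{u} (Z.obj B0)) ℤ) (d : ℤ) where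
  /-- the resolution of the extension -/
  Ja : CochainComplex (Sh Z) ℤ
  ge : Ja.IsStrictlyGE d
  inj : ∀ n, Injective (Ja.X n)
  /-- the resolution map -/
  j₀ : ((extB Z).mapHomologicalComplex _).obj I ⟶ Ja
  qis₀ : QuasiIso j₀
  /-- the resolution on the part -/
  J : CochainComplex (Sh (Zp Z)) ℤ
  geJ : J.IsStrictlyGE d
  injJ : ∀ n, Injective (J.X n)
  /-- its resolution map -/
  jp : ((restrΦ ΦΔ Z).mapHomologicalComplex _).obj Ja ⟶ J
  qisp : QuasiIso jp

namespace Res

theorem nonempty (I : CochainComplex (TopCat.Sheaf AddCommGrpCat.{u} (Z.obj B0)) ℤ) (d : ℤ)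
    [I.IsStrictlyGE d] : Nonempty (Res I d) := by
  obtain ⟨Ja, j₀, h₀, hi, hb⟩ := CochainComplex.Plus.modelCategoryQuillen.exists_quasiIso_injective
    (((extB Z).mapHomologicalComplex _).obj I) d
  obtain ⟨J, jp, hp, hiJ, hbJ⟩ := CochainComplex.Plus.modelCategoryQuillen.exists_quasiIso_injective
    (((restrΦ ΦΔ Z).mapHomologicalComplex _).obj Ja) d
  exact ⟨⟨Ja, hb, hi, j₀, h₀, J, hbJ, hiJ, jp, hp⟩⟩

variable {I : CochainComplex (TopCat.Sheaf AddCommGrpCat.{u} (Z.obj B0)) ℤ} {d : ℤ} (R : Res I d)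

/-- The direct image of the resolution on the part. -/
abbrev P : CochainComplex (Sh Z) ℤ := ((pushΦ Z).mapHomologicalComplex _).obj R.J

/-- The comparison map. -/
def φ : R.Ja ⟶ R.P := adjunct (adjΦ Z) R.jp

theorem cart : Cart R.Ja :=
  have := R.qis₀
  cart_of_qis R.j₀ (cart_extB I)

theorem flJa (n : ℤ) : FlFib (R.Ja.X n).obj :=
  have := R.inj n
  flFib_of_injective _

theorem flP (n : ℤ) : FlFib (R.P.X n).obj :=
  have := R.injJ n
  @flFib_of_injective _ _ _ _ ((pushΦ Z).obj (R.J.X n)) (injective_pushΦ Z (R.J.X n))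

/-- On the part the comparison is a quasi-isomorphism. -/
theorem quasiIso_part (i : SimplexCategoryᵒᵖ) (x : Z.obj (ΦΔ.obj i)) :
    QuasiIso ((stkC (Y := Z) (ΦΔ.obj i) x).map R.φ) := by
  have := R.qisp
  have : ∀ n, IsIso ((coadjunct (adjΦ Z) (𝟙 R.P) :
      ((restrΦ ΦΔ Z).mapHomologicalComplex _).obj R.P ⟶ R.J).f n) := fun n => by
    show IsIso (((adjΦ Z).homEquiv _ _).symm (𝟙 _))
    rw [Adjunction.homEquiv_counit, CategoryTheory.Functor.map_id, Category.id_comp]
    exact isIso_counit_adjΦ Z _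
  have hiso := HomologicalComplex.Hom.isIso_of_components (coadjunct (adjΦ Z) (𝟙 R.P) :
      ((restrΦ ΦΔ Z).mapHomologicalComplex _).obj R.P ⟶ R.J)
  have e : ((restrΦ ΦΔ Z).mapHomologicalComplex _).map R.φ ≫ coadjunct (adjΦ Z) (𝟙 R.P) = R.jp := by
    rw [← coadjunct_comp, Category.comp_id]
    exact coadjunct_adjunct _ _
  have hq : QuasiIso (((restrΦ ΦΔ Z).mapHomologicalComplex _).map R.φ) := by
    have : QuasiIso (((restrΦ ΦΔ Z).mapHomologicalComplex _).map R.φ ≫ coadjunct (adjΦ Z) (𝟙 R.P)) := by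
      rw [e]; infer_instance
    exact quasiIso_of_comp_right _ (coadjunct (adjΦ Z) (𝟙 R.P) :
      ((restrΦ ΦΔ Z).mapHomologicalComplex _).obj R.P ⟶ R.J)
  have hs := (quasiIso_iff_stk _).1 hq i x
  exact (quasiIso_iff_of_arrow_mk_iso _ _ (Arrow.isoMk
    ((NatIso.mapHomologicalComplex (stkRestrΦ ΦΔ Z i x) _).app R.Ja)
    ((NatIso.mapHomologicalComplex (stkRestrΦ ΦΔ Z i x) _).app R.P)
    ((NatIso.mapHomologicalComplex (stkRestrΦ ΦΔ Z i x) (ComplexShape.up ℤ)).hom.naturality R.φ).symm)).1 hs

theorem quasiIso_φ (h : ∀ x, QuasiIso ((stkC (Y := Z) B0 x).map R.φ)) : QuasiIso R.φ :=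
  (quasiIso_iff_stk _).2 fun i x => by
    obtain ⟨i⟩ := i
    cases i with
    | of q => exact R.quasiIso_part (op q) x
    | star => exact h x

/-- The adjunct of the resolution on the base. -/
theorem quasiIso_adjunct_iff :
    QuasiIso (adjunct (adjB Z)
      (((restrΦ ΦΔ Z).mapHomologicalComplex _).map R.j₀ ≫ R.jp :
        ((pullB Z).mapHomologicalComplex _).obj I ⟶ R.J)) ↔
      QuasiIso (((restr Z B0).mapHomologicalComplex _).map R.φ) := by
  have := R.qis₀
  let un : I ⟶ ((restr Z B0).mapHomologicalComplex _).obj (((extB Z).mapHomologicalComplex _).obj I) :=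
    { f := fun n => (extAdj Z B0).unit.app (I.X n)
      comm' := fun i j _ => ((extAdj Z B0).unit.naturality (I.d i j)).symm }
  have : ∀ n, IsIso (un.f n) := fun n => isIso_unit_extT hbot (I.X n)
  have := HomologicalComplex.Hom.isIso_of_components un
  have e : adjunct (adjB Z) (((restrΦ ΦΔ Z).mapHomologicalComplex _).map R.j₀ ≫ R.jp :
      ((pullB Z).mapHomologicalComplex _).obj I ⟶ R.J) =
        (un ≫ ((restr Z B0).mapHomologicalComplex _).map R.j₀) ≫
          ((restr Z B0).mapHomologicalComplex _).map R.φ := by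
    refine HomologicalComplex.hom_ext _ _ fun n => ?_
    show (adjB Z).homEquiv _ _ ((restrΦ ΦΔ Z).map (R.j₀.f n) ≫ R.jp.f n) =
      ((extAdj Z B0).unit.app (I.X n) ≫ (restr Z B0).map (R.j₀.f n)) ≫
        (restr Z B0).map ((adjΦ Z).homEquiv _ _ (R.jp.f n))
    rw [Adjunction.comp_homEquiv]
    show (extAdj Z B0).homEquiv _ _ ((adjΦ Z).homEquiv _ _ ((restrΦ ΦΔ Z).map (R.j₀.f n) ≫ R.jp.f n)) = _
    rw [Adjunction.homEquiv_naturality_left, Adjunction.homEquiv_naturality_right, Adjunction.homEquiv_unit]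
  rw [e]
  exact quasiIso_iff_comp_left _ _

theorem rowsP (U : Opens (Z.obj B0)) : (cechBi Z R.P d U).Exact :=
  Bi.exact_of_rows _ fun n =>
    have := R.injJ (d + n)
    rowExact_pushΦ Z U (R.J.X (d + n))

theorem geP : R.P.IsStrictlyGE d :=
  have := R.geJ
  inferInstance

/-- Exactness of the Cech bicomplexes of the resolution is the bijectivity of the adjunct. -/
theorem crit_iff :
    (∀ U, (cechBi Z R.Ja d U).Exact) ↔
      QuasiIso (adjunct (adjB Z)
        (((restrΦ ΦΔ Z).mapHomologicalComplex _).map R.j₀ ≫ R.jp :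
          ((pullB Z).mapHomologicalComplex _).obj I ⟶ R.J)) := by
  rw [quasiIso_adjunct_iff]
  have := R.ge
  have := R.geP
  constructor
  · intro h
    refine SiteBase.quasiIso_of_stalks _ fun x => quasiIso_stkC R.φ d (i := B0) (fun U => ?_) x
    have hl : lev Z U B0 = U := by
      ext y
      show Z.map (hbot.from B0) y ∈ U ↔ y ∈ U
      rw [hbot.hom_ext (hbot.from B0) (𝟙 B0), Z.map_id]
      rfl
    have h0 := exact_cone_zero (B := cechBi Z R.Ja d U) (B' := cechBi Z R.P d U) _
      (fun p n x => cd_natural (Functor.whiskerLeft (lvl Z U) (R.φ.f (d + n)).hom) p x)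
      (fun p n x => (ConcreteCategory.congr_hom (congrArg (fun q => q.hom.app ((lvl Z U).obj (idx p)))
        (R.φ.comm (d + n) (d + (n + 1 : ℕ)))) x).symm) (h U) (R.rowsP U)
      fun p => (slice₂_iff_cone R.φ d U (p + 1)).2 ?_
    · have h1 := (slice₂_iff_cone R.φ d U 0).1 h0
      exact hl ▸ h1
    · exact secCone_exact_of_stk R.φ d R.flJa R.flP (op (idx (p + 1))) (fun y => R.quasiIso_part (op ⦋p⦌) y) _
  · intro h U
    have : ∀ x, QuasiIso ((stkC (Y := Z) B0 x).map R.φ) := fun x => by
      have := SiteBase.preservesHomology_stalk (X := Z.obj B0) x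
      exact inferInstanceAs (QuasiIso (((SiteBase.stalkF' x).mapHomologicalComplex _).map
        (((restr Z B0).mapHomologicalComplex _).map R.φ)))
    have := R.quasiIso_φ this
    exact cechBi_exact_of_qis R.φ d R.flJa R.flP U (R.rowsP U)

end Res

variable (Z)

variable {Z} in
/-- A cartesian complex maps quasi-isomorphically to the resolutions of the extension of its base. -/
theorem exists_qis_res {K : CochainComplex (Sh Z) ℤ} (hK : Cart K)
    {I : CochainComplex (TopCat.Sheaf AddCommGrpCat.{u} (Z.obj B0)) ℤ} {d : ℤ}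
    (θ : ((restr Z B0).mapHomologicalComplex _).obj K ⟶ I) [QuasiIso θ] (R : Res I d) :
    ∃ g : K ⟶ R.Ja, QuasiIso g := by
  let K₀ := ((restr Z B0).mapHomologicalComplex _).obj K
  have := R.ge
  have := R.inj
  have := R.qis₀
  have : R.Ja.IsKInjective := CochainComplex.isKInjective_of_injective R.Ja d
  let c : ((extB Z).mapHomologicalComplex _).obj K₀ ⟶ K :=
    { f := fun n => (extAdj Z B0).counit.app (K.X n)
      comm' := fun i j _ => ((extAdj Z B0).counit.naturality (K.d i j)).symm }
  have hc : QuasiIso c := (quasiIso_iff_stk _).2 fun i x => by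
    obtain ⟨y, hy⟩ : ∃ y, Z.map (hbot.from i) x = y := ⟨_, rfl⟩
    let g : ((SiteBase.stalkF' y).mapHomologicalComplex _).obj K₀ ⟶
        (stkC (Y := Z) i x).obj (((extB Z).mapHomologicalComplex _).obj K₀) :=
      { f := fun n => gam hbot (K₀.X n) i x y hy
        comm' := fun a b _ => by
          subst hy
          exact ((stkExtIso hbot i x).hom.naturality (K₀.d a b)).symm }
    have : ∀ n, IsIso (g.f n) := fun n => isIso_gam hbot (K₀.X n) i x y hy
    have := HomologicalComplex.Hom.isIso_of_components g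
    have e : g ≫ (stkC (Y := Z) i x).map c =
        (NatTrans.mapHomologicalComplex (trans (hbot.from i) x y hy) (ComplexShape.up ℤ)).app K := by
      refine HomologicalComplex.hom_ext _ _ fun n => ?_
      show ((SiteBase.stalkF' y).map ((extAdj Z B0).unit.app ((restr Z B0).obj (K.X n))) ≫
        (trans (hbot.from i) x y hy).app _) ≫ (stk Z i x).map ((extAdj Z B0).counit.app (K.X n)) = _
      rw [Category.assoc, ← (trans (hbot.from i) x y hy).naturality, ← Category.assoc]
      show ((SiteBase.stalkF' y).map ((extAdj Z B0).unit.app ((restr Z B0).obj (K.X n))) ≫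
        (SiteBase.stalkF' y).map ((restr Z B0).map ((extAdj Z B0).counit.app (K.X n)))) ≫ _ = _
      rw [← Functor.map_comp, (extAdj Z B0).right_triangle_components]
      exact (congrArg (· ≫ _) ((SiteBase.stalkF' y).map_id _)).trans (Category.id_comp _)
    have : QuasiIso (g ≫ (stkC (Y := Z) i x).map c) := e ▸ hK (hbot.from i) x y hy
    exact quasiIso_of_comp_left g _
  have hE : QuasiIso (((extB Z).mapHomologicalComplex _).map θ ≫ R.j₀) := inferInstance
  obtain ⟨g, hg⟩ := Q_map_surjective K R.Ja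
    (inv (Q.map c) ≫ Q.map (((extB Z).mapHomologicalComplex _).map θ ≫ R.j₀))
  have : QuasiIso g := by
    rw [← isIso_Q_map_iff_quasiIso, hg]
    infer_instance
  exact ⟨g, inferInstance⟩

/-- The criterion only has to be checked on resolutions of extensions. -/
theorem crit_of_res
    (h : ∀ (I : CochainComplex (TopCat.Sheaf AddCommGrpCat.{u} (Z.obj B0)) ℤ) (d : ℤ) [I.IsStrictlyGE d]
      [∀ n, Injective (I.X n)] (R : Res I d) (U : Opens (Z.obj B0)), (cechBi Z R.Ja d U).Exact) : Crit Z := by
  intro K d _ hfl hK U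
  obtain ⟨I, θ, hθ, hi, hb⟩ := CochainComplex.Plus.modelCategoryQuillen.exists_quasiIso_injective
    (((restr Z B0).mapHomologicalComplex _).obj K) d
  obtain ⟨R⟩ := Res.nonempty I d
  have := R.ge
  obtain ⟨g, hg⟩ := exists_qis_res hK θ R
  exact cechBi_exact_of_qis g d hfl R.flJa U (h I d R U)

/-- The criterion only has to be checked on one cartesian complex for each complex on the base. -/
theorem crit_of_models
    (h : ∀ (I : CochainComplex (TopCat.Sheaf AddCommGrpCat.{u} (Z.obj B0)) ℤ) (d : ℤ) [I.IsStrictlyGE d]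
      [∀ n, Injective (I.X n)], ∃ (K : CochainComplex (Sh Z) ℤ) (θ : ((restr Z B0).mapHomologicalComplex _).obj K ⟶ I),
        K.IsStrictlyGE d ∧ (∀ n, FlFib (K.X n).obj) ∧ Cart K ∧ QuasiIso θ ∧ ∀ U, (cechBi Z K d U).Exact) :
    Crit Z := by
  refine crit_of_res Z fun I d _ _ R U => ?_
  obtain ⟨K, θ, hb, hfl, hK, hθ, hex⟩ := h I d
  have := R.ge
  obtain ⟨g, hg⟩ := exists_qis_res hK θ R
  exact exact_target _ _ _ (slice₂_exact g d hfl R.flJa U) (hex U)

set_option maxHeartbeats 1000000 in
set_option synthInstance.maxHeartbeats 200000 in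
/-- Cohomological descent is the Cech criterion. -/
theorem isCohDescentTop_iff : FibDesc.IsCohDescentTop Z ↔ Crit Z := by
  constructor
  · rintro ⟨_, _, _, _, _, _, hb⟩
    refine crit_of_res Z fun I d _ _ R U => ?_
    have := R.geJ
    have := R.injJ
    have := R.qis₀
    have := R.qisp
    have hq : QuasiIso (adjunct (adjB Z) (((restrΦ ΦΔ Z).mapHomologicalComplex _).map R.j₀ ≫ R.jp :
        ((pullB Z).mapHomologicalComplex _).obj I ⟶ R.J)) :=
      adjunct_quasiIso (adjB Z) hb I d R.J _
    exact R.crit_iff.2 hq U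
  · intro h
    refine ⟨instContι (Y := Z) B0, Good.rightAdjoint (Y := Z) B0, isContinuous_bc ΦΔ Z, isCocontinuous_bc ΦΔ Z,
      fun P => ran_bc Z P,
      preservesFiniteLimits_pullB Z, fun K L => ?_⟩
    refine bijective_of_adjunct (adjB Z) (fun I a _ _ => ?_) K L
    obtain ⟨R⟩ := Res.nonempty (Z := Z) I a
    have := R.ge
    have := R.geJ
    have := R.qis₀
    have := R.qisp
    exact ⟨R.J, ((restrΦ ΦΔ Z).mapHomologicalComplex _).map R.j₀ ≫ R.jp, R.geJ, R.injJ,
      (inferInstance : QuasiIso (((restrΦ ΦΔ Z).mapHomologicalComplex _).map R.j₀ ≫ R.jp)),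
      R.crit_iff.1 fun U => h R.Ja a R.flJa R.cart U⟩

end

end Groth.Agent.CohDesc82
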