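import Groth.Agent.CohDesc82.Tot
import Mathlib.Topology.Sets.Opens
import Mathlib.Order.Zorn

/-!
# Families of bicomplexes of flasque sheaves: local exactness gives exactness

A family of bicomplexes indexed by the open subsets of a space, with flasque sheaves as terms, is exact on
every open as soon as every cycle is locally a boundary.
-/

universe v u

set_option autoImplicit false

open TopologicalSpace

namespace Groth.Agent.CohDesc82

/-- A bicomplex of flasque sheaves on `X`, given by its values on opens. -/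
structure BiSh (X : Type v) [TopologicalSpace X] where
  /-- the values -/
  B : Opens X → Bi.{u}
  /-- restriction -/
  res : ∀ {V U : Opens X}, V ≤ U → ∀ p n, (B U).A p n →+ (B V).A p n
  res_h : ∀ {V U : Opens X} (h : V ≤ U) p n x, res h (p + 1) n ((B U).h p n x) = (B V).h p n (res h p n x)
  res_v : ∀ {V U : Opens X} (h : V ≤ U) p n x, res h p (n + 1) ((B U).v p n x) = (B V).v p n (res h p n x)
  res_res : ∀ {W V U : Opens X} (h : W ≤ V) (h' : V ≤ U) p n x, res h p n (res h' p n x) = res (h.trans h') p n x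
  res_self : ∀ (U : Opens X) p n x, res (le_refl U) p n x = x
  glue : ∀ p n {κ : Type v} (U : κ → Opens X) (W : Opens X) (hU : ∀ k, U k ≤ W), W ≤ iSup U →
    ∀ s : ∀ k, (B (U k)).A p n,
      (∀ k l, res (inf_le_left : U k ⊓ U l ≤ U k) p n (s k) = res (inf_le_right : U k ⊓ U l ≤ U l) p n (s l)) →
      ∃! t : (B W).A p n, ∀ k, res (hU k) p n t = s k
  flasque : ∀ {V U : Opens X} (h : V ≤ U) p n, Function.Surjective (res h p n)

namespace BiSh

variable {X : Type v} [TopologicalSpace X] (𝔅 : BiSh.{v, u} X)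

/-- Restriction of families. -/
def resF {V U : Opens X} (h : V ≤ U) : (∀ i, (𝔅.B U).F i) →+ (∀ i, (𝔅.B V).F i) :=
  AddMonoidHom.mk' (fun x i => 𝔅.res h i.1 i.2 (x i)) fun _ _ => funext fun _ => map_add _ _ _

lemma resF_apply {V U : Opens X} (h : V ≤ U) (x : ∀ i, (𝔅.B U).F i) (i : ℕ × ℕ) :
    𝔅.resF h x i = 𝔅.res h i.1 i.2 (x i) := rfl

lemma resF_D {V U : Opens X} (h : V ≤ U) (x : ∀ i, (𝔅.B U).F i) :
    𝔅.resF h ((𝔅.B U).D x) = (𝔅.B V).D (𝔅.resF h x) := by
  funext ⟨p, n⟩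
  rw [resF_apply, Bi.D_apply, Bi.D_apply, map_add, map_zsmul]
  congr 1
  · rcases p with _ | p
    · exact map_zero _
    · exact 𝔅.res_h h p n _
  · congr 1
    rcases n with _ | n
    · exact map_zero _
    · exact 𝔅.res_v h p n _

lemma resF_resF {W V U : Opens X} (h : W ≤ V) (h' : V ≤ U) (x : ∀ i, (𝔅.B U).F i) :
    𝔅.resF h (𝔅.resF h' x) = 𝔅.resF (h.trans h') x := funext fun _ => 𝔅.res_res h h' _ _ _

lemma resF_self (U : Opens X) (x : ∀ i, (𝔅.B U).F i) : 𝔅.resF (le_refl U) x = x :=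
  funext fun _ => 𝔅.res_self U _ _ _

lemma resF_supp {V U : Opens X} (h : V ≤ U) {k : ℕ} {x : ∀ i, (𝔅.B U).F i} (hx : Supp Bi.deg k x) :
    Supp Bi.deg k (𝔅.resF h x) := fun i hi => by rw [resF_apply, hx i hi, map_zero]

/-- Families are determined by their restrictions to a covering. -/
lemma extF {κ : Type v} (U : κ → Opens X) {W : Opens X} (hU : ∀ k, U k ≤ W) (hW : W ≤ iSup U)
    {x y : ∀ i, (𝔅.B W).F i} (h : ∀ k, 𝔅.resF (hU k) x = 𝔅.resF (hU k) y) : x = y := by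
  funext i
  exact (𝔅.glue i.1 i.2 U W hU hW (fun k => 𝔅.res (hU k) i.1 i.2 (x i)) fun k l => by
    rw [𝔅.res_res, 𝔅.res_res]).unique (fun _ => rfl) fun k => (congrFun (h k) i).symm

/-- Gluing of families supported in one degree. -/
lemma glueF {κ : Type v} (U : κ → Opens X) {W : Opens X} (hU : ∀ k, U k ≤ W) (hW : W ≤ iSup U)
    {k : ℕ} (y : ∀ a, ∀ i, (𝔅.B (U a)).F i) (hy : ∀ a, Supp Bi.deg k (y a))
    (hc : ∀ a b, 𝔅.resF (inf_le_left : U a ⊓ U b ≤ U a) (y a) = 𝔅.resF (inf_le_right : U a ⊓ U b ≤ U b) (y b)) :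
    ∃ z : ∀ i, (𝔅.B W).F i, Supp Bi.deg k z ∧ ∀ a, 𝔅.resF (hU a) z = y a := by
  have h : ∀ i : ℕ × ℕ, ∃ t, ∀ a, 𝔅.res (hU a) i.1 i.2 t = y a i := fun i =>
    (𝔅.glue i.1 i.2 U W hU hW (fun a => y a i) fun a b => congrFun (hc a b) i).exists
  choose t ht using h
  refine ⟨fun i => if Bi.deg i = k then t i else 0, fun i hi => if_neg hi, fun a => funext fun i => ?_⟩
  rw [resF_apply]
  by_cases hi : Bi.deg i = k
  · rw [if_pos hi]; exact ht i a
  · rw [if_neg hi, map_zero, hy a i hi]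

lemma exists_ext {V U : Opens X} (h : V ≤ U) {k : ℕ} {x : ∀ i, (𝔅.B V).F i} (hx : Supp' Bi.deg k x) :
    ∃ z : ∀ i, (𝔅.B U).F i, Supp' Bi.deg k z ∧ 𝔅.resF h z = x := by
  choose t ht using fun i : ℕ × ℕ => 𝔅.flasque h i.1 i.2 (x i)
  refine ⟨fun i => if Bi.deg i + 1 = k then t i else 0, fun i hi => if_neg hi, funext fun i => ?_⟩
  rw [resF_apply]
  by_cases hi : Bi.deg i + 1 = k
  · rw [if_pos hi, ht i]
  · rw [if_neg hi, map_zero, hx i hi]

/-- Every cycle is locally a boundary. -/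
def LocExact : Prop :=
  ∀ (U : Opens X) (k : ℕ) (x : ∀ i, (𝔅.B U).F i), Supp Bi.deg k x → (𝔅.B U).D x = 0 →
    ∀ a ∈ U, ∃ (V : Opens X) (h : V ≤ U), a ∈ V ∧ ∃ y, Supp' Bi.deg k y ∧ (𝔅.B V).D y = 𝔅.resF h x

/-- A partial primitive. -/
structure Prim (U : Opens X) (k : ℕ) (x : ∀ i, (𝔅.B U).F i) where
  /-- where it is defined -/
  V : Opens X
  le : V ≤ U
  /-- the primitive -/
  y : ∀ i, (𝔅.B V).F i
  supp : Supp Bi.deg k y
  eq : (𝔅.B V).D y = 𝔅.resF le x

/-- Extension of partial primitives. -/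
def Prim.Le {U : Opens X} {k : ℕ} {x : ∀ i, (𝔅.B U).F i} (P Q : 𝔅.Prim U k x) : Prop :=
  ∃ h : P.V ≤ Q.V, 𝔅.resF h Q.y = P.y

theorem exact (hloc : 𝔅.LocExact) (U : Opens X) : (𝔅.B U).Exact := by
  intro k
  induction k generalizing U with
  | zero =>
    intro x hx hDx
    refine ⟨0, fun _ _ => rfl, ?_⟩
    rw [map_zero]
    choose V hV haV y hy hyx using fun a : U => hloc U 0 x hx hDx a.1 a.2
    refine 𝔅.extF (U := fun a : U => V a) hV (fun a ha => Opens.mem_iSup.2 ⟨⟨a, ha⟩, haV _⟩) fun a => ?_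
    rw [map_zero, ← hyx a, supp'_zero (hy a), map_zero]
  | succ k ih =>
    intro x hx hDx
    obtain ⟨P, hP⟩ : ∃ P : 𝔅.Prim U k x, ∀ Q, Prim.Le 𝔅 P Q → Prim.Le 𝔅 Q P := by
      refine exists_maximal_of_chains_bounded (fun c hc => ?_) ?_
      · choose rep hrep hrepV using fun V : {V : Opens X // ∃ P ∈ c, P.V = V} => V.2
        have comp : ∀ P ∈ c, ∀ Q ∈ c, 𝔅.resF (inf_le_left : P.V ⊓ Q.V ≤ P.V) P.y =
            𝔅.resF (inf_le_right : P.V ⊓ Q.V ≤ Q.V) Q.y := fun P hP Q hQ => by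
          rcases eq_or_ne P Q with rfl | hne
          · rfl
          rcases hc hP hQ hne with ⟨h, e⟩ | ⟨h, e⟩
          · rw [← e, resF_resF]
          · rw [← e, resF_resF]
        obtain ⟨y, hy, hyc⟩ := 𝔅.glueF (fun V => (rep V).V) (W := iSup fun V => (rep V).V)
          (le_iSup fun V => (rep V).V) le_rfl (fun V => (rep V).y) (fun V => (rep V).supp)
          fun V V' => comp _ (hrep V) _ (hrep V')
        have hle : (iSup fun V => (rep V).V) ≤ U := iSup_le fun V => (rep V).le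
        refine ⟨⟨_, hle, y, hy, ?_⟩, fun P hP => ?_⟩
        · refine 𝔅.extF (fun V => (rep V).V) (le_iSup fun V => (rep V).V) le_rfl fun V => ?_
          rw [resF_D, hyc V, resF_resF]
          exact (rep V).eq
        · have hV : P.V ≤ (rep ⟨P.V, P, hP, rfl⟩).V := (hrepV ⟨P.V, P, hP, rfl⟩).ge
          refine ⟨hV.trans (le_iSup (fun V => (rep V).V) ⟨P.V, P, hP, rfl⟩), ?_⟩
          rw [← 𝔅.resF_resF hV (le_iSup (fun V => (rep V).V) ⟨P.V, P, hP, rfl⟩), hyc]
          have e := congrArg (𝔅.resF (le_inf le_rfl hV : P.V ≤ P.V ⊓ (rep ⟨P.V, P, hP, rfl⟩).V))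
            (comp P hP _ (hrep ⟨P.V, P, hP, rfl⟩))
          rw [resF_resF, resF_resF, resF_self] at e
          exact e.symm
      · rintro P Q R ⟨h, e⟩ ⟨h', e'⟩
        exact ⟨h.trans h', by rw [← e, ← e', resF_resF]⟩
    by_cases hPU : U ≤ P.V
    · refine ⟨𝔅.resF hPU P.y, supp'_succ_iff.2 (𝔅.resF_supp hPU P.supp), ?_⟩
      rw [← resF_D, P.eq, resF_resF, resF_self]
    obtain ⟨a, haU, haV⟩ : ∃ a ∈ U, a ∉ P.V := by
      by_contra h
      exact hPU fun a ha => by_contra fun h' => h ⟨a, ha, h'⟩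
    obtain ⟨W, hW, haW, y', hy', hy'x⟩ := hloc U (k + 1) x hx hDx a haU
    obtain ⟨z, hz, hzd⟩ := ih (P.V ⊓ W)
      (𝔅.resF inf_le_left P.y - 𝔅.resF inf_le_right y')
      (fun i hi => by
        rw [Pi.sub_apply, 𝔅.resF_supp _ P.supp i hi, 𝔅.resF_supp _ (supp'_succ_iff.1 hy') i hi, sub_zero])
      (by rw [map_sub, ← resF_D, ← resF_D, P.eq, hy'x, resF_resF, resF_resF, sub_self])
    obtain ⟨z', hz', hzz⟩ := 𝔅.exists_ext (inf_le_right : P.V ⊓ W ≤ W) hz
    let y'' := y' + (𝔅.B W).D z'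
    have hy'' : Supp Bi.deg k y'' := fun i hi => by
      simp only [y'', Pi.add_apply, supp'_succ_iff.1 hy' i hi,
        (𝔅.B W).filtFst.supp_D' hz' i hi, add_zero]
    have hagree : 𝔅.resF (inf_le_left : P.V ⊓ W ≤ P.V) P.y = 𝔅.resF inf_le_right y'' := by
      simp only [y'', map_add, resF_D, hzz, hzd]; abel
    let O : ULift.{v} Bool → Opens X := fun b => cond b.down P.V W
    have hsup : P.V ⊔ W ≤ iSup O :=
      sup_le (le_iSup O ⟨true⟩) (le_iSup O ⟨false⟩)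
    have hO : ∀ b, O b ≤ P.V ⊔ W := by
      rintro ⟨_ | _⟩
      · exact le_sup_right
      · exact le_sup_left
    let yy : ∀ b, ∀ i, (𝔅.B (O b)).F i := fun b => match b with
      | ⟨true⟩ => P.y
      | ⟨false⟩ => y''
    obtain ⟨t, ht, htb⟩ := 𝔅.glueF O hO hsup yy
      (by rintro ⟨_ | _⟩ <;> first | exact hy'' | exact P.supp)
      (by
        rintro ⟨_ | _⟩ ⟨_ | _⟩
        · rfl
        · have := congrArg (𝔅.resF (le_inf inf_le_right inf_le_left : W ⊓ P.V ≤ P.V ⊓ W)) hagree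
          rw [resF_resF, resF_resF] at this
          exact this.symm
        · exact hagree
        · rfl)
    have hle : P.V ⊔ W ≤ U := sup_le P.le hW
    let Q : 𝔅.Prim U k x := ⟨_, hle, t, ht, 𝔅.extF O hO hsup (by
      rintro ⟨_ | _⟩
      · rw [resF_D, htb ⟨false⟩, resF_resF]
        show (𝔅.B W).D y'' = _
        simp only [y'', map_add, (𝔅.B W).sq, add_zero, hy'x]
      · rw [resF_D, htb ⟨true⟩, resF_resF]
        exact P.eq)⟩
    obtain ⟨h, -⟩ := hP Q ⟨le_sup_left, htb ⟨true⟩⟩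
    exact absurd (h (le_sup_right (a := P.V) haW)) haV

end BiSh

end Groth.Agent.CohDesc82
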