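import Groth.Agent.CohDesc82.Perm
import Mathlib.Topology.IsLocalHomeomorph

/-!
# The criterion is local on the base
-/

universe u

set_option autoImplicit false
set_option linter.unusedVariables false
set_option backward.isDefEq.respectTransparency false
set_option backward.isDefEq.respectTransparency.types false

open CategoryTheory CategoryTheory.Limits Opposite TopologicalSpace Simplicial Topology

namespace Groth.Agent.CohDesc82

noncomputable section

section

variable {Z : AΔᵒᵖ ⥤ TopCat.{u}} (K : CochainComplex (Sh Z) ℤ) (d : ℤ)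

theorem lev_mono {V U : Opens (Z.obj B0)} (h : V ≤ U) (i : AΔᵒᵖ) : lev Z V i ≤ lev Z U i := fun x hx => h hx

/-- Cech bicomplexes as a family over the opens of the base. -/
def biShCech (hfl : ∀ n, FlFib (K.X n).obj) : BiSh.{u, u} (Z.obj B0) where
  B U := cechBi Z K d U
  res {V U} h p n := mv (K.X (d + n)).obj (𝟙 (op (idx p))) (le_id (lev_mono h (op (idx p))))
  res_h {V U} h p n x :=
    cd_natural (C := csec Z (K.X (d + n)).obj U) (C' := csec Z (K.X (d + n)).obj V)
      { app := fun i => (K.X (d + n)).obj.map (hm (𝟙 (op i)) (le_id (fun x hx => h hx))).op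
        naturality := fun i j f => by
          refine ((K.X (d + n)).obj.map_comp _ _).symm.trans
            (Eq.trans (congrArg (K.X (d + n)).obj.map (congrArg Quiver.Hom.op ?_)) ((K.X (d + n)).obj.map_comp _ _))
          exact hom_ext' _ _ ((Category.id_comp _).trans (Category.comp_id _).symm) } p x
  res_v {V U} h p n x := (mv_natural (K.d (d + n) (d + (n + 1 : ℕ))).hom (𝟙 _) (le_id (lev_mono h (op (idx p)))) x).symm
  res_res {W V U} h h' p n x := mv_mv _ _ _ (𝟙 _) (Category.comp_id _) (le_id (lev_mono (h.trans h') (op (idx p)))) x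
  res_self U p n x := mv_self _ _ rfl _ x
  glue p n _ U W hU hW s hs :=
    glue_sec (K.X (d + n)) (fun k => lev Z (U k) (op (idx p))) (lev Z W (op (idx p))) (fun k x hx => hU k hx)
      (fun x hx => Opens.mem_iSup.2 ((Opens.mem_iSup (x := Z.map (hbot.from (op (idx p))) x)).1 (hW hx))) s hs
  flasque {V U} h p n := hfl (d + n) _ (lev_mono h (op (idx p)))

end

/-- The criterion is local for open embeddings with cartesian images. -/
theorem crit_of_local {Z : AΔᵒᵖ ⥤ TopCat.{u}}
    (h : ∀ a : Z.obj B0, ∃ (Z' : AΔᵒᵖ ⥤ TopCat.{u}) (e : Z' ⟶ Z) (_ : OEmb e), Crit Z' ∧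
      a ∈ Set.range (e.app B0) ∧ ∀ i y, Z.map (hbot.from i) y ∈ Set.range (e.app B0) → y ∈ Set.range (e.app i)) :
    Crit Z := by
  intro K d _ hfl hK U
  refine (biShCech K d hfl).exact (fun U k x hx hD a ha => ?_) U
  obtain ⟨Z', e, _, hc, haR, hR⟩ := h a
  let V : Opens (Z.obj B0) := U ⊓ ⟨Set.range (e.app B0), (OEmb.emb (e := e) B0).isOpen_range⟩
  let U' : Opens (Z'.obj B0) := (Opens.map (e.app B0)).obj V
  have hU : ∀ i, img e i (lev Z' U' i) = lev Z V i := fun i => by
    have hn : ∀ z, Z.map (hbot.from i) (e.app i z) = e.app B0 (Z'.map (hbot.from i) z) := fun z =>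
      (ConcreteCategory.congr_hom (e.naturality (hbot.from i)) z).symm
    ext y
    constructor
    · rintro ⟨z, hz, rfl⟩
      show Z.map (hbot.from i) (e.app i z) ∈ V
      rw [hn]; exact hz
    · intro hy
      obtain ⟨z, rfl⟩ := hR i y hy.2
      refine ⟨z, ?_, rfl⟩
      show e.app B0 (Z'.map (hbot.from i) z) ∈ V
      rw [← hn]; exact hy
  have hV : V ≤ U := inf_le_left
  have hex : (cechBi Z K d V).Exact := (cechBi_oeC_iff e d U' V hU).1
    (hc (oeC e K) d (fun n => flFib_oePull e (hfl n)) (cart_oePull e hK) U')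
  obtain ⟨y, hy, hyx⟩ := hex k ((biShCech K d hfl).resF hV x) ((biShCech K d hfl).resF_supp hV hx)
    (((biShCech K d hfl).resF_D hV x).symm.trans (by rw [hD, map_zero]))
  exact ⟨V, hV, ⟨ha, haR⟩, y, hy, hyx⟩

variable {X S : TopCat.{u}} (u : X ⟶ S)

/-- The criterion for a map is local on the base. -/
theorem cd_of_local (h : ∀ a : S, ∃ (T : TopCat.{u}) (j : T ⟶ S), IsOpenEmbedding j ∧ a ∈ Set.range j ∧
    CD (pullback.snd u j)) : CD u := by
  refine crit_of_local fun a => ?_
  obtain ⟨T, j, hj, ha, hc⟩ := h a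
  have : OEmb (bcFst u j) := ⟨fun i => TopCat.fst_isOpenEmbedding_of_right _ hj⟩
  have hr : ∀ i y, y ∈ Set.range ((bcFst u j).app i) ↔ nvAug u i y ∈ Set.range j := fun i y => by
    show y ∈ Set.range (pullback.fst (nvAug u i) j) ↔ _
    rw [TopCat.pullback_fst_range]
    exact ⟨fun ⟨t, ht⟩ => ⟨t, ht.symm⟩, fun ⟨t, ht⟩ => ⟨t, ht.symm⟩⟩
  have h0 : nvAug u B0 a = a := ConcreteCategory.congr_hom (nvAug_star u) a
  refine ⟨_, bcFst u j, this, (cd_iff_bc u j).1 hc, (hr B0 a).2 (by rw [h0]; exact ha), fun i y hy => (hr i y).2 ?_⟩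
  have e : nvAug u B0 ((nv u).map (hbot.from i) y) = nvAug u i y :=
    ConcreteCategory.congr_hom (nv_aug u (hbot.from i)) y
  exact e ▸ (hr B0 _).1 hy

/-- Universal cohomological descent for surjective local homeomorphisms. -/
theorem ucd_of_isLocalHomeomorph (hu : IsLocalHomeomorph u) (hs : Function.Surjective u) : UCD u := by
  intro T h
  refine cd_of_local _ fun a => ?_
  obtain ⟨x, hx⟩ := hs (h a)
  obtain ⟨e, hxe, he⟩ := hu x
  let V : Opens T := ⟨h ⁻¹' e.target, e.open_target.preimage h.hom.continuous⟩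
  let j : TopCat.of V ⟶ T := TopCat.ofHom ⟨Subtype.val, continuous_subtype_val⟩
  have haV : a ∈ V := by
    show h a ∈ e.target
    rw [← hx, he]
    exact e.map_source hxe
  let σ : TopCat.of V ⟶ X := TopCat.ofHom ⟨fun v => e.symm (h v.1),
    e.symm.continuousOn.comp_continuous (h.hom.continuous.comp continuous_subtype_val) fun v => v.2⟩
  have hσ : σ ≫ u = j ≫ h := by
    refine TopCat.hom_ext (ContinuousMap.ext fun v => ?_)
    show u (e.symm (h v.1)) = h v.1
    rw [he]
    exact e.right_inv v.2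
  refine ⟨_, j, V.2.isOpenEmbedding_subtypeVal, ⟨⟨a, haV⟩, rfl⟩, ?_⟩
  exact cd_of_section _ (pullback.lift (pullback.lift σ j hσ) (𝟙 _)
    ((pullback.lift_snd _ _ _).trans (Category.id_comp _).symm)) (pullback.lift_snd _ _ _)

end

end Groth.Agent.CohDesc82
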