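import Groth.Agent.CohDesc82.Models
import Groth.Prelude.Def_FibDesc
import Mathlib.CategoryTheory.Limits.Shapes.Pullback.Pasting
import Mathlib.Topology.Category.TopCat.Limits.Pullbacks

/-!
# Base changes of Cech nerves
-/

universe u

set_option autoImplicit false
set_option linter.unusedVariables false
set_option backward.isDefEq.respectTransparency false
set_option backward.isDefEq.respectTransparency.types false

open CategoryTheory CategoryTheory.Limits Opposite TopologicalSpace Simplicial

namespace Groth.Agent.CohDesc82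

noncomputable section

/-- The augmented nerve of a map. -/
abbrev nv {X S : TopCat.{u}} (u : X ⟶ S) : AΔᵒᵖ ⥤ TopCat.{u} := FibDesc.cechAug u

/-- The criterion for a map. -/
def CD {X S : TopCat.{u}} (u : X ⟶ S) : Prop := Crit (nv u)

/-- The criterion for all base changes. -/
def UCD {X S : TopCat.{u}} (u : X ⟶ S) : Prop :=
  ∀ (T : TopCat.{u}) (h : T ⟶ S), CD (pullback.snd u h)

theorem isCohDescentMap_iff {X S : TopCat.{u}} (u : X ⟶ S) : FibDesc.IsCohDescentMap u ↔ CD u :=
  isCohDescentTop_iff (nv u)

theorem isUnivCohDescentMap_iff {X S : TopCat.{u}} (u : X ⟶ S) : FibDesc.IsUnivCohDescentMap u ↔ UCD u :=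
  ⟨fun h T g => (isCohDescentMap_iff _).1 (h T g), fun h T g => (isCohDescentMap_iff _).2 (h T g)⟩

theorem CD.of_iso {X S X' S' : TopCat.{u}} {u : X ⟶ S} {u' : X' ⟶ S'} (e : Arrow.mk u ≅ Arrow.mk u')
    (h : CD u) : CD u' :=
  crit_of_iso (AugmentedSimplexCategory.equivAugmentedSimplicialObject.inverse.mapIso
    (SimplicialObject.augmentedCechNerve.mapIso e)) h

theorem CD.of_iso_source {X X' S : TopCat.{u}} {u : X ⟶ S} {u' : X' ⟶ S} (e : X ≅ X')
    (w : e.hom ≫ u' = u) (h : CD u) : CD u' :=
  h.of_iso (Arrow.isoMk e (Iso.refl _) (w.trans (Category.comp_id _).symm))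

variable {X S T : TopCat.{u}} (u : X ⟶ S) (h : T ⟶ S)

/-- The map to the base. -/
abbrev nvAug (i : AΔᵒᵖ) : (nv u).obj i ⟶ S := (nv u).map (hbot.from i)

theorem nv_aug {i j : AΔᵒᵖ} (φ : i ⟶ j) : (nv u).map φ ≫ nvAug u j = nvAug u i := by
  rw [← Functor.map_comp, hbot.hom_ext (φ ≫ hbot.from j) (hbot.from i)]

/-- The base change of a nerve. -/
abbrev Bc : AΔᵒᵖ ⥤ TopCat.{u} where
  obj i := pullback (nvAug u i) h
  map {i j} φ := pullback.lift (pullback.fst _ _ ≫ (nv u).map φ) (pullback.snd _ _)
    (by rw [Category.assoc, nv_aug, pullback.condition])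
  map_id i := pullback.hom_ext
    (by rw [pullback.lift_fst, (nv u).map_id]; exact (Category.comp_id _).trans (Category.id_comp _).symm)
    (by rw [pullback.lift_snd]; exact (Category.id_comp _).symm)
  map_comp φ ψ := pullback.hom_ext
    (by rw [pullback.lift_fst, Category.assoc, pullback.lift_fst, pullback.lift_fst_assoc, Category.assoc,
      (nv u).map_comp])
    (by rw [pullback.lift_snd, Category.assoc, pullback.lift_snd, pullback.lift_snd])

/-- Its map to the nerve. -/
abbrev bcFst : Bc u h ⟶ nv u where
  app i := pullback.fst (nvAug u i) h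
  naturality _ _ φ := pullback.lift_fst _ _ _

theorem nvAug_star : nvAug u (op WithInitial.star) = 𝟙 S :=
  (congrArg (nv u).map (hbot.hom_ext (hbot.from (op WithInitial.star)) (𝟙 _))).trans ((nv u).map_id _)

theorem nv_map_π {p q : ℕ} (g : ⦋p⦌ ⟶ ⦋q⦌) (k : Fin (p + 1)) :
    (nv u).map (WithInitial.incl.map g).op ≫ WidePullback.π (fun _ : Fin (p + 1) => u) k =
      WidePullback.π (fun _ : Fin (q + 1) => u) (g.toOrderHom k) :=
  WidePullback.lift_π _ _ _ _ _

/-- Fibre powers commute with base change. -/
def wpIso (p : ℕ) :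
    widePullback T (fun _ : Fin (p + 1) => pullback u h) (fun _ => pullback.snd u h) ≅
      pullback (WidePullback.base (fun _ : Fin (p + 1) => u) : widePullback S (fun _ : Fin (p + 1) => X) (fun _ => u) ⟶ S) h where
  hom := pullback.lift
    (WidePullback.lift (WidePullback.base _ ≫ h)
      (fun k => WidePullback.π (fun _ : Fin (p + 1) => pullback.snd u h) k ≫ pullback.fst u h)
      (fun k => by rw [Category.assoc, pullback.condition, WidePullback.π_arrow_assoc]))
    (WidePullback.base _) (WidePullback.lift_base _ _ _ _)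
  inv := WidePullback.lift (pullback.snd _ h)
    (fun k => pullback.lift (pullback.fst _ _ ≫ WidePullback.π (fun _ : Fin (p + 1) => u) k) (pullback.snd _ _)
      (by rw [Category.assoc, WidePullback.π_arrow]; exact pullback.condition))
    (fun k => pullback.lift_snd _ _ _)
  hom_inv_id := WidePullback.hom_ext _ _ _
    (fun k => by
      rw [Category.assoc, WidePullback.lift_π, Category.id_comp]
      refine pullback.hom_ext ?_ ?_
      · rw [Category.assoc, pullback.lift_fst, pullback.lift_fst_assoc]
        exact WidePullback.lift_π _ _ _ _ _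
      · rw [Category.assoc, pullback.lift_snd, pullback.lift_snd, WidePullback.π_arrow])
    (by
      rw [Category.assoc, WidePullback.lift_base, Category.id_comp]
      exact pullback.lift_snd _ _ _)
  inv_hom_id := pullback.hom_ext
    (by
      rw [Category.assoc, pullback.lift_fst, Category.id_comp]
      refine WidePullback.hom_ext _ _ _ (fun k => ?_) ?_
      · rw [Category.assoc, WidePullback.lift_π, WidePullback.lift_π_assoc, pullback.lift_fst]
      · rw [Category.assoc, WidePullback.lift_base, WidePullback.lift_base_assoc]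
        exact pullback.condition.symm)
    (by
      rw [Category.assoc, pullback.lift_snd, Category.id_comp]
      exact WidePullback.lift_base _ _ _ _)

/-- The components of the comparison. -/
def bcComp : ∀ i : AΔᵒᵖ, (nv (pullback.snd u h)).obj i ≅ (Bc u h).obj i
  | ⟨.star⟩ =>
    { hom := pullback.lift h (𝟙 T)
        ((congrArg (h ≫ ·) (nvAug_star u)).trans ((Category.comp_id h).trans (Category.id_comp h).symm))
      inv := pullback.snd (nvAug u ⟨.star⟩) h
      hom_inv_id := pullback.lift_snd _ _ _
      inv_hom_id := pullback.hom_ext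
        (by
          rw [Category.assoc, pullback.lift_fst, Category.id_comp]
          refine pullback.condition.symm.trans ?_
          exact (congrArg (pullback.fst _ h ≫ ·) (nvAug_star u)).trans (Category.comp_id _))
        (by rw [Category.assoc, pullback.lift_snd, Category.id_comp]; exact Category.comp_id _) }
  | ⟨.of ⟨p⟩⟩ => wpIso u h p

theorem bcComp_snd (i : AΔᵒᵖ) : (bcComp u h i).hom ≫ pullback.snd _ _ = nvAug (pullback.snd u h) i := by
  obtain ⟨i⟩ := i
  cases i with
  | star => exact (pullback.lift_snd _ _ _).trans (nvAug_star (pullback.snd u h)).symm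
  | of q => exact pullback.lift_snd _ _ _

theorem bcComp_fst (p : ℕ) (k : Fin (p + 1)) :
    (bcComp u h (op (WithInitial.of ⦋p⦌))).hom ≫ pullback.fst _ _ ≫ WidePullback.π (fun _ : Fin (p + 1) => u) k =
      WidePullback.π (fun _ : Fin (p + 1) => pullback.snd u h) k ≫ pullback.fst u h :=
  show (wpIso u h p).hom ≫ pullback.fst _ _ ≫ WidePullback.π (fun _ : Fin (p + 1) => u) k = _ from
    (pullback.lift_fst_assoc _ _ _ _).trans (WidePullback.lift_π _ _ _ _ _)

/-- The nerve of a base change is the base change of the nerve. -/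
def bcIsoNv : nv (pullback.snd u h) ≅ Bc u h :=
  NatIso.ofComponents (bcComp u h) fun {i j} φ => by
    have hs : ((nv (pullback.snd u h)).map φ ≫ (bcComp u h j).hom) ≫ pullback.snd _ _ =
        ((bcComp u h i).hom ≫ (Bc u h).map φ) ≫ pullback.snd _ _ := by
      rw [Category.assoc, bcComp_snd, Category.assoc, pullback.lift_snd, bcComp_snd, nv_aug]
    refine pullback.hom_ext ?_ hs
    have hb : (((nv (pullback.snd u h)).map φ ≫ (bcComp u h j).hom) ≫ pullback.fst _ _) ≫ nvAug u j =
        (((bcComp u h i).hom ≫ (Bc u h).map φ) ≫ pullback.fst _ _) ≫ nvAug u j := by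
      rw [Category.assoc _ _ (nvAug u j), Category.assoc _ _ (nvAug u j), pullback.condition,
        ← Category.assoc, ← Category.assoc, hs]
    obtain ⟨i⟩ := i
    obtain ⟨j⟩ := j
    cases j with
    | star =>
      refine (Category.comp_id _).symm.trans ((congrArg (_ ≫ ·) (nvAug_star u)).symm.trans (hb.trans ?_))
      exact (congrArg (_ ≫ ·) (nvAug_star u)).trans (Category.comp_id _)
    | of q =>
      cases i with
      | star => exact PEmpty.elim φ.unop
      | of p =>
        obtain ⟨q⟩ := q
        obtain ⟨p⟩ := p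
        refine WidePullback.hom_ext _ _ _ (fun k => ?_) hb
        obtain ⟨φ⟩ := φ
        have e1 : (nv u).map (Quiver.Hom.op φ) ≫ WidePullback.π (fun _ : Fin (q + 1) => u) k =
            WidePullback.π (fun _ : Fin (p + 1) => u) ((WithInitial.down φ).toOrderHom k) :=
          nv_map_π u (WithInitial.down φ) k
        have e2 : (nv (pullback.snd u h)).map (Quiver.Hom.op φ) ≫
            WidePullback.π (fun _ : Fin (q + 1) => pullback.snd u h) k =
            WidePullback.π (fun _ : Fin (p + 1) => pullback.snd u h) ((WithInitial.down φ).toOrderHom k) :=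
          nv_map_π (pullback.snd u h) (WithInitial.down φ) k
        refine ((Category.assoc _ _ _).trans (Category.assoc _ _ _)).trans ?_
        refine (congrArg (_ ≫ ·) (bcComp_fst u h q k)).trans ?_
        refine ((Category.assoc _ _ _).symm.trans (congrArg (· ≫ pullback.fst u h) e2)).trans ?_
        refine (bcComp_fst u h p _).symm.trans ?_
        refine Eq.trans ?_ ((Category.assoc _ _ _).trans (Category.assoc _ _ _)).symm
        refine congrArg (_ ≫ ·) ?_
        refine Eq.trans ?_ ((Category.assoc _ _ _).symm.trans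
          (congrArg (· ≫ WidePullback.π (fun _ : Fin (q + 1) => u) k) (pullback.lift_fst _ _ _))).symm
        exact ((Category.assoc _ _ _).trans (congrArg (_ ≫ ·) e1)).symm

theorem UCD.cd_bc (hu : UCD u) : Crit (Bc u h) := crit_of_iso (bcIsoNv u h) (hu T h)

/-- The criterion for the base change through the base change of the nerve. -/
theorem cd_iff_bc : CD (pullback.snd u h) ↔ Crit (Bc u h) :=
  ⟨crit_of_iso (bcIsoNv u h), crit_of_iso (bcIsoNv u h).symm⟩

theorem CD.of_ucd {u : X ⟶ S} (hu : UCD u) : CD u :=
  (hu S (𝟙 S)).of_iso (Arrow.isoMk (asIso (pullback.fst u (𝟙 S))) (Iso.refl _)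
    (pullback.condition.trans (by simp)))

theorem UCD.baseChange {u : X ⟶ S} (hu : UCD u) : UCD (pullback.snd u h) := fun T' k =>
  (hu T' (k ≫ h)).of_iso_source (pullbackLeftPullbackSndIso u h k).symm
    (by rw [Iso.symm_hom]; exact pullbackLeftPullbackSndIso_inv_snd_snd u h k)

theorem UCD.of_iso_source {X' : TopCat.{u}} {u : X ⟶ S} {u' : X' ⟶ S} (e : X ≅ X') (w : e.hom ≫ u' = u)
    (hu : UCD u) : UCD u' := fun T' k =>
  (hu T' k).of_iso_source
    (asIso (pullback.map u k u' k e.hom (𝟙 _) (𝟙 _) (by rw [Category.comp_id, w]) (by simp)))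
    ((pullback.lift_snd _ _ _).trans (Category.comp_id _))

end

end Groth.Agent.CohDesc82
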