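import Groth.Agent.CohDesc82.Link

/-!
# Inverse images along open embeddings of diagrams, and restrictions of cartesian complexes
-/

universe u

set_option autoImplicit false
set_option linter.unusedVariables false
set_option backward.isDefEq.respectTransparency false
set_option backward.isDefEq.respectTransparency.types false

open CategoryTheory CategoryTheory.Limits Opposite TopologicalSpace Pseudofunctor.CoGrothendieck Topology

namespace Groth.Agent.CohDesc82

noncomputable section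

section

variable {𝒮 : Type} [Category.{0} 𝒮] {Y' Y : 𝒮 ⥤ TopCat.{u}} (e : Y' ⟶ Y)

/-- A map of diagrams which is an open embedding at each index. -/
class OEmb : Prop where
  emb : ∀ i, IsOpenEmbedding (e.app i)

variable [OEmb e]

/-- The image of an open. -/
abbrev img (i : 𝒮) (V : Opens (Y'.obj i)) : Opens (Y.obj i) :=
  (OEmb.emb (e := e) i).isOpenMap.functor.obj V

theorem mem_img {i : 𝒮} {V : Opens (Y'.obj i)} {x : Y'.obj i} (hx : x ∈ V) : e.app i x ∈ img e i V :=
  ⟨x, hx, rfl⟩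

theorem img_hom {i j : 𝒮} (f : i ⟶ j) {V : Opens (Y'.obj i)} {W : Opens (Y'.obj j)}
    (h : ∀ x ∈ V, Y'.map f x ∈ W) : ∀ y ∈ img e i V, Y.map f y ∈ img e j W := by
  rintro _ ⟨x, hx, rfl⟩
  exact ⟨Y'.map f x, h x hx, ConcreteCategory.congr_hom (e.naturality f) x⟩

/-- The functor of total categories. -/
def oeF : ∫ᶜ (osF Y') ⥤ ∫ᶜ (osF Y) where
  obj a := pl a.base (img e a.base a.fiber)
  map {a b} φ := hm φ.base (img_hom e φ.base (mem_of_hom (i := a.base) (j := b.base) φ))
  map_id a := hom_ext' _ _ rfl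
  map_comp φ ψ := hom_ext' _ _ rfl

/-- On the fibres it is the image functor. -/
def oeIso (i : 𝒮) : (OEmb.emb (e := e) i).isOpenMap.functor ⋙ ι (osF Y) i ≅ ι (osF Y') i ⋙ oeF e :=
  NatIso.ofComponents (fun V => Iso.refl _) fun {V W} g => hom_ext' _ _ (by
    show 𝟙 i ≫ 𝟙 i = 𝟙 i ≫ 𝟙 i
    rfl)

instance isContinuous_oeF : (oeF e).IsContinuous (osTot Y') (osTot Y) :=
  (FibSiteLib.isContinuous_total_iff (osPre Y') _ _).2 fun i =>
    have h := (OEmb.emb (e := e) i).functor_isContinuous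
    have := instContι (Y := Y) i
    have := Functor.isContinuous_comp (OEmb.emb (e := e) i).isOpenMap.functor (ι (osF Y) i)
      (osTop Y' i) (osTop Y i) (osTot Y)
    Functor.isContinuous_of_iso (oeIso e i) (osTop Y' i) (osTot Y)

/-- Inverse image of sheaves. -/
abbrev oePull : Sh Y ⥤ Sh Y' :=
  (oeF e).sheafPushforwardContinuous AddCommGrpCat.{u} (osTot Y') (osTot Y)

instance additive_oePull : (oePull e).Additive where

theorem mv_oePull (P : Pre Y) {i j : 𝒮} (f : i ⟶ j) {V : Opens (Y'.obj i)} {W : Opens (Y'.obj j)}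
    (h : ∀ x ∈ V, Y'.map f x ∈ W) (s : sec P j (img e j W)) :
    mv ((oeF e).op ⋙ P) f h s = mv P f (img_hom e f h) s := by
  simp only [mv]
  show (P.map ((oeF e).map (hm f h)).op).hom s = _
  rw [hom_ext' ((oeF e).map (hm f h)) (hm f (img_hom e f h)) rfl]
  rfl

theorem flFib_oePull {P : Pre Y} (h : FlFib P) : FlFib ((oeF e).op ⋙ P) := fun i V U hVU s => by
  obtain ⟨t, ht⟩ := h i (show img e i V ≤ img e i U from Set.image_mono hVU) s
  exact ⟨t, (mv_oePull e P (𝟙 i) (le_id hVU) t).trans ht⟩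

/-- The comparison of stalks. -/
def oeStalk (P : Pre Y) (i : 𝒮) (x : Y'.obj i) :
    (fibP ((oeF e).op ⋙ P) i).stalk x ⟶ (fibP P i).stalk (e.app i x) :=
  colimit.desc ((OpenNhds.inclusion x).op ⋙ fibP ((oeF e).op ⋙ P) i)
    { pt := (fibP P i).stalk (e.app i x)
      ι :=
        { app := fun W => (fibP P i).germ (img e i W.unop.1) (e.app i x) (mem_img e W.unop.2)
          naturality := fun W W' g => by
            refine ConcreteCategory.hom_ext _ _ fun (s : sec P i (img e i W.unop.1)) => ?_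
            have hle : W'.unop.1 ≤ W.unop.1 := leOfHom g.unop
            show germ P _ _ _ (((fibP ((oeF e).op ⋙ P) i).map (homOfLE hle).op).hom s) = germ P _ _ _ s
            rw [fibP_map ((oeF e).op ⋙ P) hle, mv_oePull]
            exact germ_res P (Set.image_mono hle) _ _ _ rfl _ s } }

theorem oeStalk_germ (P : Pre Y) {i : 𝒮} {V : Opens (Y'.obj i)} (x : Y'.obj i) (hx : x ∈ V)
    (s : sec ((oeF e).op ⋙ P) i V) :
    (oeStalk e P i x).hom (germ ((oeF e).op ⋙ P) V x hx s) = germ P (img e i V) (e.app i x) (mem_img e hx) s := by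
  have h : (fibP ((oeF e).op ⋙ P) i).germ V x hx ≫ oeStalk e P i x =
      (fibP P i).germ (img e i V) (e.app i x) (mem_img e hx) := by
    exact colimit.ι_desc _ (op (⟨V, hx⟩ : OpenNhds x))
  exact ConcreteCategory.congr_hom h s

theorem oeStalk_bijective (P : Pre Y) (i : 𝒮) (x : Y'.obj i) : Function.Bijective (oeStalk e P i x).hom := by
  have hi : Function.Injective (e.app i) := (OEmb.emb (e := e) i).injective
  constructor
  · refine (injective_iff_map_eq_zero _).2 fun a ha => ?_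
    obtain ⟨V, -, hx, s, rfl⟩ := exists_germ ((oeF e).op ⋙ P) a (U := ⊤) (x := x) trivial
    rw [oeStalk_germ] at ha
    obtain ⟨W, hW, hxW, hs⟩ := (germ_eq_iff P (mem_img e hx) _).1 ha
    let W' : Opens (Y'.obj i) := (Opens.map (e.app i)).obj W
    have hW' : W' ≤ V := fun y hy => by
      obtain ⟨z, hz, hzy⟩ := hW hy
      exact hi hzy ▸ hz
    refine (germ_eq_iff _ hx s).2 ⟨W', hW', hxW, ?_⟩
    rw [mv_oePull]
    have hle : img e i W' ≤ W := by rintro _ ⟨y, hy, rfl⟩; exact hy
    rw [← mv_mv P (le_id hle) (le_id hW) (𝟙 i) (Category.comp_id _) (img_hom e (𝟙 i) (le_id hW')), hs, map_zero]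
  · intro t
    obtain ⟨W, hW, hxW, s, rfl⟩ := exists_germ P t (U := img e i ⊤) (x := e.app i x) (mem_img e trivial)
    let W' : Opens (Y'.obj i) := (Opens.map (e.app i)).obj W
    have hle : img e i W' ≤ W := by rintro _ ⟨y, hy, rfl⟩; exact hy
    refine ⟨germ ((oeF e).op ⋙ P) W' x hxW (mv P (𝟙 i) (le_id hle) s), ?_⟩
    refine (oeStalk_germ e P x hxW _).trans ?_
    exact germ_res P hle _ _ _ rfl _ s

/-- The stalks of inverse images. -/
def oeStalkIso (i : 𝒮) (x : Y'.obj i) : oePull e ⋙ stk Y' i x ≅ stk Y i (e.app i x) :=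
  NatIso.ofComponents
    (fun P => @asIso _ _ _ _ (oeStalk e P.obj i x)
      ((ConcreteCategory.isIso_iff_bijective _).2 (oeStalk_bijective e P.obj i x)))
    fun {P Q} f => by
      refine ConcreteCategory.hom_ext _ _ fun t => ?_
      obtain ⟨V, -, hx, s, rfl⟩ := exists_germ ((oeF e).op ⋙ P.obj) t (U := ⊤) (x := x) trivial
      show (oeStalk e Q.obj i x).hom (((stk Y' i x).map ((oePull e).map f)).hom
          (germ ((oePull e).obj P).obj V x hx s)) =
        ((stk Y i (e.app i x)).map f).hom ((oeStalk e P.obj i x).hom (germ ((oeF e).op ⋙ P.obj) V x hx s))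
      refine ((congrArg (oeStalk e Q.obj i x).hom (stk_map_germ ((oePull e).map f) hx s)).trans
        (oeStalk_germ e Q.obj x hx _)).trans ?_
      exact ((congrArg ((stk Y i (e.app i x)).map f).hom (oeStalk_germ e P.obj x hx s)).trans
        (stk_map_germ f (mem_img e hx) s)).symm

theorem oeStalk_trn (P : Sh Y) {i j : 𝒮} (f : i ⟶ j) (x : Y'.obj i) (y : Y'.obj j) (h : Y'.map f x = y)
    (h' : Y.map f (e.app i x) = e.app j y) :
    trn ((oePull e).obj P).obj f x y h ≫ oeStalk e P.obj i x =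
      oeStalk e P.obj j y ≫ trn P.obj f (e.app i x) (e.app j y) h' := by
  refine ConcreteCategory.hom_ext _ _ fun t => ?_
  obtain ⟨W, -, hy, s, rfl⟩ := exists_germ ((oeF e).op ⋙ P.obj) t (U := ⊤) (x := y) trivial
  subst h
  let V : Opens (Y'.obj i) := (Opens.map (Y'.map f)).obj W
  have hV : ∀ z ∈ V, Y'.map f z ∈ W := fun _ hz => hz
  rw [ConcreteCategory.comp_apply, ConcreteCategory.comp_apply]
  refine (congrArg (oeStalk e P.obj i x).hom
    (trn_germ ((oePull e).obj P).obj f x _ rfl hy (V := V) hy hV s)).trans ?_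
  refine (oeStalk_germ e P.obj x (V := V) hy _).trans ?_
  refine Eq.trans ?_ (congrArg _ (oeStalk_germ e P.obj _ hy s)).symm
  refine Eq.trans ?_ (trn_germ P.obj f (e.app i x) _ h' (mem_img e hy) (V := img e i V)
    (mem_img e (V := V) hy) (img_hom e f hV) s).symm
  exact congrArg (germ P.obj _ _ _) (mv_oePull e P.obj f hV s)

theorem cart_oePull {K : CochainComplex (Sh Y) ℤ} (hK : Cart K) :
    Cart (((oePull e).mapHomologicalComplex _).obj K) := fun i j f x y h => by
  have h' : Y.map f (e.app i x) = e.app j y := by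
    rw [← h]; exact (ConcreteCategory.congr_hom (e.naturality f) x).symm
  refine (quasiIso_iff_of_arrow_mk_iso
    ((NatTrans.mapHomologicalComplex (trans f x y h) (ComplexShape.up ℤ)).app
      (((oePull e).mapHomologicalComplex _).obj K))
    ((NatTrans.mapHomologicalComplex (trans f (e.app i x) (e.app j y) h') (ComplexShape.up ℤ)).app K) ?_).2
      (hK f (e.app i x) (e.app j y) h')
  exact Arrow.isoMk
    ((NatIso.mapHomologicalComplex (oeStalkIso e j y) (ComplexShape.up ℤ)).app K)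
    ((NatIso.mapHomologicalComplex (oeStalkIso e i x) (ComplexShape.up ℤ)).app K)
    (HomologicalComplex.hom_ext _ _ fun n => (oeStalk_trn e (K.X n) f x y h h').symm)

end

section

variable {𝒮' 𝒮 : Type} [Category.{0} 𝒮'] [Category.{0} 𝒮] (Φ : 𝒮' ⥤ 𝒮) {Y : 𝒮 ⥤ TopCat.{u}}

theorem stkRestrΦ_germ (P : Sh Y) {i : 𝒮'} {V : Opens (Y.obj (Φ.obj i))} (x : Y.obj (Φ.obj i)) (hx : x ∈ V)
    (s : sec P.obj (Φ.obj i) V) :
    ((stkRestrΦ Φ Y i x).hom.app P).hom (germ ((restrΦ Φ Y).obj P).obj (Y := Φ ⋙ Y) V x hx s) =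
      germ P.obj V x hx s := by
  refine (TopCat.Presheaf.stalkFunctor_map_germ_apply V x hx
    (Functor.isoWhiskerRight (NatIso.op (bcIso Φ Y i)).symm P.obj).hom s).trans ?_
  refine congrArg (germ P.obj V x hx) ?_
  show (P.obj.map (𝟙 _)).hom s = s
  rw [P.obj.map_id]; rfl

theorem cart_restrΦ {K : CochainComplex (Sh Y) ℤ} (hK : Cart K) :
    Cart (((restrΦ Φ Y).mapHomologicalComplex _).obj K) := fun i j f x y h => by
  refine (quasiIso_iff_of_arrow_mk_iso
    ((NatTrans.mapHomologicalComplex (trans (Y := Φ ⋙ Y) f x y h) (ComplexShape.up ℤ)).app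
      (((restrΦ Φ Y).mapHomologicalComplex _).obj K))
    ((NatTrans.mapHomologicalComplex (trans (Φ.map f) x y h) (ComplexShape.up ℤ)).app K) ?_).2 (hK (Φ.map f) x y h)
  refine Arrow.isoMk
    ((NatIso.mapHomologicalComplex (stkRestrΦ Φ Y j y) (ComplexShape.up ℤ)).app K)
    ((NatIso.mapHomologicalComplex (stkRestrΦ Φ Y i x) (ComplexShape.up ℤ)).app K)
    (HomologicalComplex.hom_ext _ _ fun n => ?_)
  refine ConcreteCategory.hom_ext _ _ fun t => ?_
  obtain ⟨W, -, hy, s, rfl⟩ := exists_germ ((restrΦ Φ Y).obj (K.X n)).obj (Y := Φ ⋙ Y) t (U := ⊤) (x := y) trivial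
  show (trn (K.X n).obj (Φ.map f) x y h).hom (((stkRestrΦ Φ Y j y).hom.app (K.X n)).hom _) =
    ((stkRestrΦ Φ Y i x).hom.app (K.X n)).hom
      ((trn ((restrΦ Φ Y).obj (K.X n)).obj (Y := Φ ⋙ Y) f x y h).hom _)
  subst h
  let V : Opens (Y.obj (Φ.obj i)) := (Opens.map (Y.map (Φ.map f))).obj W
  have hV : ∀ z ∈ V, Y.map (Φ.map f) z ∈ W := fun _ hz => hz
  refine (congrArg _ (stkRestrΦ_germ Φ (K.X n) _ hy s)).trans ?_
  refine (trn_germ (K.X n).obj (Φ.map f) x _ rfl hy (V := V) hy hV s).trans ?_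
  refine Eq.trans ?_ (congrArg _ (trn_germ ((restrΦ Φ Y).obj (K.X n)).obj (Y := Φ ⋙ Y) f x _ rfl hy (V := V) hy hV s)).symm
  refine Eq.trans ?_ (stkRestrΦ_germ Φ (K.X n) x (V := V) hy _).symm
  exact congrArg (germ (K.X n).obj V x _) (mv_restrΦ (K.X n).obj f hV s).symm

instance additive_restrΦ' : (restrΦ Φ Y).Additive where

end

section transfer

variable {Z' Z : AΔᵒᵖ ⥤ TopCat.{u}} (e : Z' ⟶ Z) [OEmb e] {K : CochainComplex (Sh Z) ℤ}

variable (K) in
/-- The inverse image of a complex. -/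
abbrev oeC : CochainComplex (Sh Z') ℤ := ((oePull e).mapHomologicalComplex _).obj K

/-- Exactness of Cech bicomplexes is transferred along open embeddings. -/
theorem cechBi_oeC_iff (d : ℤ) (U' : Opens (Z'.obj B0)) (U : Opens (Z.obj B0))
    (hU : ∀ i, img e i (lev Z' U' i) = lev Z U i) :
    (cechBi Z' (oeC e K) d U').Exact ↔ (cechBi Z K d U).Exact := by
  let θ : lvl Z' U' ⋙ (oeF e).op ≅ lvl Z U :=
    NatIso.ofComponents (fun i => Iso.op
      { hom := hm (𝟙 (op i)) (le_id (hU (op i)).ge)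
        inv := hm (𝟙 (op i)) (le_id (hU (op i)).le)
        hom_inv_id := hom_ext' _ _ (Category.comp_id _)
        inv_hom_id := hom_ext' _ _ (Category.comp_id _) })
      fun {i j} f => congrArg Quiver.Hom.op (hom_ext' _ _ ((Category.id_comp _).trans (Category.comp_id _).symm))
  let E : ∀ n : ℕ, csec Z' (((oeC e K).X (d + n)).obj) U' ≅ csec Z (K.X (d + n)).obj U := fun n =>
    Functor.isoWhiskerRight θ (K.X (d + n)).obj
  let eA : ∀ p n, (cechBi Z' (oeC e K) d U').A p n ≃+ (cechBi Z K d U).A p n := fun p n =>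
    ((E n).app (idx p)).addCommGroupIsoToAddEquiv
  have ev : ∀ p n x, eA p (n + 1) ((cechBi Z' (oeC e K) d U').v p n x) = (cechBi Z K d U).v p n (eA p n x) :=
    fun p n x => (ConcreteCategory.congr_hom
      ((K.d (d + n) (d + (n + 1 : ℕ))).hom.naturality (θ.app (idx p)).hom) x).symm
  have eh : ∀ p n x, eA (p + 1) n ((cechBi Z' (oeC e K) d U').h p n x) = (cechBi Z K d U).h p n (eA p n x) :=
    fun p n x => cd_natural (E n).hom p x
  constructor
  · exact Bi.Exact.congr eA eh ev
  · refine Bi.Exact.congr (fun p n => (eA p n).symm) (fun p n x => ?_) (fun p n x => ?_)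
    · rw [AddEquiv.symm_apply_eq, eh, AddEquiv.apply_symm_apply]
    · rw [AddEquiv.symm_apply_eq, ev, AddEquiv.apply_symm_apply]

end transfer

theorem OEmb.of_iso {𝒮 : Type} [Category.{0} 𝒮] {Y' Y : 𝒮 ⥤ TopCat.{u}} (e : Y' ≅ Y) : OEmb e.hom where
  emb i := (TopCat.homeoOfIso (e.app i)).isOpenEmbedding

/-- The criterion is invariant under isomorphisms. -/
theorem crit_of_iso {Z' Z : AΔᵒᵖ ⥤ TopCat.{u}} (e : Z' ≅ Z) (h : Crit Z') : Crit Z := by
  intro K d _ hfl hK U
  have := OEmb.of_iso e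
  let U' : Opens (Z'.obj B0) := (Opens.map (e.hom.app B0)).obj U
  have hU : ∀ i, img e.hom i (lev Z' U' i) = lev Z U i := fun i => by
    ext y
    constructor
    · rintro ⟨x, hx, rfl⟩
      have h1 : e.hom.app B0 (Z'.map (hbot.from i) x) ∈ U := hx
      show Z.map (hbot.from i) (e.hom.app i x) ∈ U
      have e1 : Z.map (hbot.from i) (e.hom.app i x) = e.hom.app B0 (Z'.map (hbot.from i) x) :=
        (ConcreteCategory.congr_hom (e.hom.naturality (hbot.from i)) x).symm
      rwa [e1]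
    · intro hy
      refine ⟨e.inv.app i y, ?_, ConcreteCategory.congr_hom (e.inv_hom_id_app i) y⟩
      show e.hom.app B0 (Z'.map (hbot.from i) (e.inv.app i y)) ∈ U
      have e1 : Z'.map (hbot.from i) (e.inv.app i y) = e.inv.app B0 (Z.map (hbot.from i) y) :=
        (ConcreteCategory.congr_hom (e.inv.naturality (hbot.from i)) y).symm
      rw [e1]
      refine Eq.mpr (congrArg (· ∈ U) (ConcreteCategory.congr_hom (e.inv_hom_id_app B0) (Z.map (hbot.from i) y))) ?_
      exact hy
  exact (cechBi_oeC_iff e.hom d U' U hU).1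
    (h _ d (fun n => flFib_oePull e.hom (hfl n)) (cart_oePull e.hom hK) U')

end

end Groth.Agent.CohDesc82
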