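import Groth.Agent.CohDesc82.RelGerm
import Mathlib.Topology.Maps.Proper.Basic
import Mathlib.CategoryTheory.ComposableArrows.Basic
import Mathlib.CategoryTheory.Functor.Currying

/-!
# Diagrams with proper separated augmentations

The criterion holds for such a diagram as soon as it holds for its pull back to the discrete base.
-/

universe u

set_option autoImplicit false
set_option linter.unusedVariables false
set_option backward.isDefEq.respectTransparency false
set_option backward.isDefEq.respectTransparency.types false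

open CategoryTheory CategoryTheory.Limits Opposite TopologicalSpace

namespace Groth.Agent.CohDesc82

noncomputable section

variable (Z : AΔᵒᵖ ⥤ TopCat.{u})

/-- The base with the discrete topology. -/
abbrev disB : TopCat.{u} := TopCat.discrete.obj (Z.obj B0 : Type u)

/-- The identity from the discrete base. -/
abbrev disι : disB Z ⟶ Z.obj B0 :=
  @TopCat.ofHom (Z.obj B0) (Z.obj B0) ⊥ _ (@ContinuousMap.mk _ _ ⊥ _ id continuous_bot)

/-- The fibres of the augmentation, side by side. -/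
abbrev fibD : AΔᵒᵖ ⥤ TopCat.{u} where
  obj i := pullback (Z.map (hbot.from i)) (disι Z)
  map {i j} φ := pullback.lift (pullback.fst _ _ ≫ Z.map φ) (pullback.snd _ _)
    (by rw [Category.assoc, ← Z.map_comp, hbot.hom_ext (φ ≫ hbot.from j) (hbot.from i), pullback.condition])
  map_id i := pullback.hom_ext
    (by rw [pullback.lift_fst, Z.map_id]; exact (Category.comp_id _).trans (Category.id_comp _).symm)
    (by rw [pullback.lift_snd]; exact (Category.id_comp _).symm)
  map_comp φ ψ := pullback.hom_ext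
    (by rw [pullback.lift_fst, Category.assoc, pullback.lift_fst, pullback.lift_fst_assoc, Category.assoc,
      Z.map_comp])
    (by rw [pullback.lift_snd, Category.assoc, pullback.lift_snd, pullback.lift_snd])

/-- The inclusion of the fibres. -/
abbrev fibFst : fibD Z ⟶ Z where
  app i := pullback.fst (Z.map (hbot.from i)) (disι Z)
  naturality _ _ φ := pullback.lift_fst _ _ _

/-- The two diagrams together. -/
abbrev both : AΔᵒᵖ × Fin 2 ⥤ TopCat.{u} :=
  Functor.uncurry.obj (Functor.flip (ComposableArrows.mk₁ (fibFst Z)))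

/-- The fibres inside. -/
abbrev sect0 : AΔᵒᵖ ⥤ AΔᵒᵖ × Fin 2 := Prod.sectL AΔᵒᵖ (0 : Fin 2)

/-- The diagram inside. -/
abbrev sect1 : AΔᵒᵖ ⥤ AΔᵒᵖ × Fin 2 := Prod.sectL AΔᵒᵖ (1 : Fin 2)

/-- The final index. -/
def hbotT : IsTerminal ((B0, 1) : AΔᵒᵖ × Fin 2) :=
  IsTerminal.ofUniqueHom (fun a => CategoryTheory.Prod.mkHom (hbot.from a.1 : a.1 ⟶ B0) (homOfLE (Fin.le_last a.2)))
    (fun a m => Prod.ext (hbot.hom_ext _ _) (Subsingleton.elim _ _))

/-- The arrow from a fibre. -/
def arr (i : AΔᵒᵖ) : sect0.obj i ⟶ sect1.obj i := CategoryTheory.Prod.mkHom (𝟙 i) (homOfLE (Fin.zero_le _))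

theorem arr_natural {i j : AΔᵒᵖ} (f : i ⟶ j) : sect0.map f ≫ arr j = arr i ≫ sect1.map f :=
  Prod.ext ((Category.comp_id _).trans (Category.id_comp _).symm) (Subsingleton.elim _ _)

theorem map_arr (i : AΔᵒᵖ) : (both Z).map (arr i) = pullback.fst (Z.map (hbot.from i)) (disι Z) := by
  show (fibD Z).map (𝟙 i) ≫ _ = _
  rw [(fibD Z).map_id]
  exact (Category.id_comp _).trans rfl

theorem map_sect1 {i j : AΔᵒᵖ} (f : i ⟶ j) : (both Z).map (sect1.map f) = Z.map f := by
  show Z.map f ≫ ((ComposableArrows.mk₁ (fibFst Z)).map (𝟙 (1 : Fin 2))).app j = _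
  exact (congrArg (Z.map f ≫ ·) (congrArg (fun q => q.app j)
    ((ComposableArrows.mk₁ (fibFst Z)).map_id (1 : Fin 2)))).trans (Category.comp_id _)

/-- The fibres inside, compared. -/
def isoSect0 : sect0 ⋙ both Z ≅ fibD Z :=
  NatIso.ofComponents (fun i => Iso.refl _) fun {i j} f => by
    refine (Category.comp_id _).trans (Eq.trans ?_ (Category.id_comp _).symm)
    show (fibD Z).map f ≫ ((ComposableArrows.mk₁ (fibFst Z)).map (𝟙 (0 : Fin 2))).app j = _
    exact (congrArg ((fibD Z).map f ≫ ·) (congrArg (fun q => q.app j)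
      ((ComposableArrows.mk₁ (fibFst Z)).map_id (0 : Fin 2)))).trans (Category.comp_id _)

/-- The diagram inside, compared. -/
def isoSect1 : sect1 ⋙ both Z ≅ Z :=
  NatIso.ofComponents (fun i => Iso.refl _) fun {i j} f =>
    (Category.comp_id _).trans ((map_sect1 Z f).trans (Category.id_comp _).symm)

variable {Z}

theorem exists_pre_le {i : AΔᵒᵖ} {a : Z.obj B0} (F : Opens ((both Z).obj (sect0.obj i)))
    (hF : ∀ y, y ∈ F ↔ Z.map (hbot.from i) ((both Z).map (arr i) y) = a) (z' : (both Z).obj (sect0.obj i))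
    (hz' : z' ∈ F) (O : Opens ((both Z).obj (sect0.obj i))) (hO : z' ∈ O) :
    ∃ W : Opens ((both Z).obj (sect1.obj i)), (both Z).map (arr i) z' ∈ W ∧ pre (arr i) F W ≤ O := by
  let z : (pullback (Z.map (hbot.from i)) (disι Z) : TopCat.{u}) := z'
  have hO' : (O : Set ((both Z).obj (sect0.obj i))) ∈ nhds z' := O.2.mem_nhds hO
  change (O : Set ((both Z).obj (sect0.obj i))) ∈ @nhds (pullback (Z.map (hbot.from i)) (disι Z) : TopCat.{u}) _ z at hO'
  have key : nhds z = Filter.comap (pullback.fst (Z.map (hbot.from i)) (disι Z)) (nhds (pullback.fst (Z.map (hbot.from i)) (disι Z) z)) ⊓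
      Filter.comap (pullback.snd (Z.map (hbot.from i)) (disι Z)) (nhds (pullback.snd (Z.map (hbot.from i)) (disι Z) z)) := by
    refine Eq.trans ?_ (congrArg₂ (· ⊓ ·) (nhds_induced (pullback.fst (Z.map (hbot.from i)) (disι Z)) z)
      (nhds_induced (pullback.snd (Z.map (hbot.from i)) (disι Z)) z))
    rw [← nhds_inf]
    exact congrArg (fun t => @nhds _ t z) (TopCat.pullback_topology _ _)
  rw [key, Filter.mem_inf_iff_superset] at hO'
  obtain ⟨t₁, ht₁, t₂, ht₂, ht⟩ := hO'
  obtain ⟨s₁, hs₁, hst₁⟩ := ht₁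
  obtain ⟨W, hW, hWo, hzW⟩ := mem_nhds_iff.1 hs₁
  obtain ⟨s₂, hs₂, hst₂⟩ := ht₂
  refine ⟨⟨W, hWo⟩, ?_, fun y hy => ht ⟨hst₁ (hW ?_), hst₂ ?_⟩⟩
  · rw [map_arr]; exact hzW
  · have h1 : (both Z).map (arr i) y ∈ W := hy.1
    rw [map_arr] at h1; exact h1
  · have hs := mem_of_mem_nhds hs₂
    have e : ∀ w, w ∈ F → (pullback.snd (Z.map (hbot.from i)) (disι Z) w : Z.obj B0) = a := fun w hw => by
      have h1 := (hF w).1 hw
      rw [map_arr] at h1
      exact (ConcreteCategory.congr_hom (pullback.condition (f := Z.map (hbot.from i)) (g := disι Z)) w).symm.trans h1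
    show pullback.snd (Z.map (hbot.from i)) (disι Z) y ∈ s₂
    have e' : pullback.snd (Z.map (hbot.from i)) (disι Z) y = pullback.snd (Z.map (hbot.from i)) (disι Z) z :=
      (e y hy.2).trans (e z' hz').symm
    rw [e']; exact hs

theorem map1_apply {i : AΔᵒᵖ} (z : (both Z).obj (sect1.obj i)) :
    (both Z).map (sect1.map (hbot.from i)) z = Z.map (hbot.from i) z :=
  ConcreteCategory.congr_hom (map_sect1 Z (hbot.from i)) z

/-- A point of the base, as an open of the fibres. -/
def ptO (a : Z.obj B0) : Opens ((both Z).obj (sect0.obj B0)) :=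
  ⟨(pullback.snd (Z.map (hbot.from B0)) (disι Z)) ⁻¹' ({a} : Set (Z.obj B0)),
    (isOpen_discrete (α := disB Z) ({a} : Set (Z.obj B0))).preimage
      (pullback.snd (Z.map (hbot.from B0)) (disι Z)).hom.continuous⟩

/-- The fibre at a level. -/
abbrev fibO (a : Z.obj B0) (i : AΔᵒᵖ) : Opens ((both Z).obj (sect0.obj i)) := lev (sect0 ⋙ both Z) (ptO a) i

theorem mem_ptO (a : Z.obj B0) (y : (both Z).obj (sect0.obj B0)) : y ∈ ptO a ↔ (both Z).map (arr B0) y = a := by
  have key : ∀ w : (pullback (Z.map (hbot.from B0)) (disι Z) : TopCat.{u}),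
      pullback.fst (Z.map (hbot.from B0)) (disι Z) w = (pullback.snd (Z.map (hbot.from B0)) (disι Z) w : Z.obj B0) :=
    fun w => by
      have e := ConcreteCategory.congr_hom (pullback.condition (f := Z.map (hbot.from B0)) (g := disι Z)) w
      rw [ConcreteCategory.comp_apply, ConcreteCategory.comp_apply] at e
      exact (ConcreteCategory.congr_hom
        ((congrArg Z.map (hbot.hom_ext (hbot.from B0) (𝟙 _))).trans (Z.map_id _)) _).symm.trans e
  rw [map_arr]
  exact Eq.to_iff (congrArg (· = a) (key y).symm)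

theorem mem_fibO (a : Z.obj B0) {i : AΔᵒᵖ} (y : (both Z).obj (sect0.obj i)) :
    y ∈ fibO a i ↔ Z.map (hbot.from i) ((both Z).map (arr i) y) = a := by
  refine (mem_ptO a _).trans (Eq.to_iff (congrArg (· = a) ?_))
  refine Eq.trans ?_ (map1_apply _)
  show ((both Z).map (sect0.map (hbot.from i)) ≫ (both Z).map (arr B0)) y =
    ((both Z).map (arr i) ≫ (both Z).map (sect1.map (hbot.from i))) y
  rw [← Functor.map_comp, ← Functor.map_comp, arr_natural]

theorem fib_maps {a : Z.obj B0} {V : Opens (Z.obj B0)} (hV : a ∈ V) (i : AΔᵒᵖ) :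
    ∀ y ∈ fibO a i, (both Z).map (arr i) y ∈ lev (sect1 ⋙ both Z) V i := fun y hy => by
  show (both Z).map (sect1.map (hbot.from i)) ((both Z).map (arr i) y) ∈ V
  rw [map1_apply, (mem_fibO a y).1 hy]
  exact hV

/-- The map from germs to sections on the fibre, at a level. -/
def toFibApp (P : Sh (both Z)) (a : Z.obj B0) (i : AΔ) :
    (stkP (Z := sect1 ⋙ both Z) ((restrΦ sect1 (both Z)).obj P).obj a).obj i ⟶
      sec P.obj (sect0.obj (op i)) (fibO a (op i)) :=
  colimit.desc ((OpenNhds.inclusion a).op ⋙ (pushP (Z := sect1 ⋙ both Z) ((restrΦ sect1 (both Z)).obj P).obj).obj i)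
    { pt := sec P.obj (sect0.obj (op i)) (fibO a (op i))
      ι :=
        { app := fun V => AddCommGrpCat.ofHom (mv P.obj (arr (op i)) (fib_maps V.unop.2 (op i)))
          naturality := fun V V' g => ConcreteCategory.hom_ext _ _ fun s =>
            (congrArg (mv P.obj (arr (op i)) (fib_maps V'.unop.2 (op i)))
              (mv_restrΦ (Φ := sect1) (Y := both Z) P.obj (𝟙 (op i)) (le_id (lev_mono (leOfHom g.unop) (op i))) s)).trans
            (mv_mv _ _ _ (arr (op i)) (by rw [sect1.map_id, Category.comp_id])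
              (fib_maps V.unop.2 (op i)) s) } }

theorem toFibApp_gm (P : Sh (both Z)) {a : Z.obj B0} (i : AΔ) (V : Opens (Z.obj B0)) (hV : a ∈ V)
    (s : sec P.obj (sect1.obj (op i)) (lev (sect1 ⋙ both Z) V (op i))) :
    (toFibApp P a i).hom (((gm (Z := sect1 ⋙ both Z) ((restrΦ sect1 (both Z)).obj P).obj V hV).app i).hom s) =
      mv P.obj (arr (op i)) (fib_maps hV (op i)) s := by
  have e : ((pushP (Z := sect1 ⋙ both Z) ((restrΦ sect1 (both Z)).obj P).obj).obj i).germ V a hV ≫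
      toFibApp P a i = AddCommGrpCat.ofHom (mv P.obj (arr (op i)) (fib_maps hV (op i))) := by
    exact colimit.ι_desc _ (op (⟨V, hV⟩ : OpenNhds a))
  exact ConcreteCategory.congr_hom e s

/-- The map from germs to sections on the fibre. -/
def toFib (P : Sh (both Z)) (a : Z.obj B0) :
    stkP (Z := sect1 ⋙ both Z) ((restrΦ sect1 (both Z)).obj P).obj a ⟶
      csec (sect0 ⋙ both Z) ((restrΦ sect0 (both Z)).obj P).obj (ptO a) where
  app i := toFibApp P a i
  naturality i j f := ConcreteCategory.hom_ext _ _ fun t => by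
    obtain ⟨V, -, hV, s, rfl⟩ :=
      gm_exists (Z := sect1 ⋙ both Z) ((restrΦ sect1 (both Z)).obj P).obj (U := ⊤) (a := a) trivial i t
    refine (congrArg (toFibApp P a j).hom (ConcreteCategory.congr_hom
      ((gm (Z := sect1 ⋙ both Z) ((restrΦ sect1 (both Z)).obj P).obj V hV).naturality f) s).symm).trans
      ((toFibApp_gm P j V hV _).trans ?_)
    refine Eq.trans ?_ (congrArg _ (toFibApp_gm P i V hV s)).symm
    refine (congrArg _ (mv_restrΦ (Φ := sect1) (Y := both Z) P.obj f.op (mem_lev (sect1 ⋙ both Z) V f.op) s)).trans ?_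
    refine Eq.trans ?_ (mv_restrΦ (Φ := sect0) (Y := both Z) P.obj f.op (mem_lev (sect0 ⋙ both Z) (ptO a) f.op) _).symm
    exact (mv_mv _ _ _ _ (arr_natural f.op).symm (fun y hy => by
      rw [Functor.map_comp]; exact fib_maps hV (op i) _ (mem_lev (sect0 ⋙ both Z) (ptO a) f.op y hy)) s).trans
      (mv_mv P.obj _ _ _ rfl _ s).symm

variable (K : CochainComplex (Sh (both Z)) ℤ) (d : ℤ)

/-- The complex on the diagram inside. -/
abbrev cx1 : CochainComplex (Sh (sect1 ⋙ both Z)) ℤ := ((restrΦ sect1 (both Z)).mapHomologicalComplex _).obj K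

/-- The complex on the fibres inside. -/
abbrev cx0 : CochainComplex (Sh (sect0 ⋙ both Z)) ℤ := ((restrΦ sect0 (both Z)).mapHomologicalComplex _).obj K

theorem toFib_v (a : Z.obj B0) (p n : ℕ) (t : (gBi (cx1 K) d a).A p n) :
    ((toFib (K.X (d + (n + 1 : ℕ))) a).app (idx p)).hom ((gBi (cx1 K) d a).v p n t) =
      (cechBi (sect0 ⋙ both Z) (cx0 K) d (ptO a)).v p n (((toFib (K.X (d + n)) a).app (idx p)).hom t) := by
  obtain ⟨V, -, hV, s, rfl⟩ := gm_exists (Z := sect1 ⋙ both Z) ((cx1 K).X (d + n)).obj (U := ⊤) (a := a) trivial (idx p) t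
  refine (congrArg _ (gm_natural (Z := sect1 ⋙ both Z) ((cx1 K).d (d + n) (d + (n + 1 : ℕ))).hom V hV (idx p) s)).trans
    ((toFibApp_gm (K.X (d + (n + 1 : ℕ))) (idx p) V hV _).trans ?_)
  refine Eq.trans ?_ (congrArg _ (toFibApp_gm (K.X (d + n)) (idx p) V hV s)).symm
  exact (mv_natural (K.d (d + n) (d + (n + 1 : ℕ))).hom (arr _) (fib_maps hV _) s).symm

/-- The triple complex of the comparison with the fibre. -/
abbrev fibTri (a : Z.obj B0) : Tri.{u} :=
  Tri.ofHom (B := gBi (cx1 K) d a) (B' := cechBi (sect0 ⋙ both Z) (cx0 K) d (ptO a))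
    (fun p n => ((toFib (K.X (d + n)) a).app (idx p)).hom) (fun p n t => cd_natural (toFib (K.X (d + n)) a) p t)
    (toFib_v K d a)

variable {K}

omit K in
theorem mv1_id (P : Sh (both Z)) {i : AΔᵒᵖ} {V W : Opens ((both Z).obj (sect1.obj i))} (h : V ≤ W)
    (h' : ∀ x ∈ V, (sect1 ⋙ both Z).map (𝟙 i) x ∈ W) (s : sec P.obj (sect1.obj i) W) :
    mv ((restrΦ sect1 (both Z)).obj P).obj (Y := sect1 ⋙ both Z) (𝟙 i) h' s =
      mv P.obj (𝟙 (sect1.obj i)) (le_id h) s :=
  (mv_restrΦ (Φ := sect1) (Y := both Z) P.obj (𝟙 i) h' s).trans (mv_congr P.obj (sect1.map_id i) _ s)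

section level

variable {a : Z.obj B0} {i : AΔ} (hp : IsProperMap (Z.map (hbot.from (op i))))

variable (a i) in
/-- The fibre in the level. -/
abbrev fibSet : Set ((both Z).obj (sect1.obj (op i))) := (Z.map (hbot.from (op i))) ⁻¹' {a}

/-- The largest open of the base with preimage in a given open. -/
def below (W : Opens ((both Z).obj (sect1.obj (op i)))) : Opens (Z.obj B0) :=
  ⟨((Z.map (hbot.from (op i))) '' (W : Set ((both Z).obj (sect1.obj (op i))))ᶜ)ᶜ,
    (hp.isClosedMap _ W.2.isClosed_compl).isOpen_compl⟩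

theorem mem_below {W : Opens ((both Z).obj (sect1.obj (op i)))} (h : fibSet a i ⊆ W) : a ∈ below hp W :=
  fun ⟨y, hy, hya⟩ => hy (h hya)

theorem lev_below (W : Opens ((both Z).obj (sect1.obj (op i)))) :
    lev (sect1 ⋙ both Z) (below hp W) (op i) ≤ W := fun y hy => by
  by_contra hyW
  exact hy ⟨y, hyW, (map1_apply y).symm⟩

theorem below_mono {V W : Opens ((both Z).obj (sect1.obj (op i)))} (h : V ≤ W) : below hp V ≤ below hp W :=
  fun y hy ⟨w, hw, hwy⟩ => hy ⟨w, fun hwV => hw (h hwV), hwy⟩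

omit hp in
theorem fibSet_lev {V : Opens (Z.obj B0)} (hV : a ∈ V) :
    fibSet a i ⊆ SetLike.coe (lev (sect1 ⋙ both Z) V (op i)) := fun y hy => by
  show (both Z).map (sect1.map (hbot.from (op i))) y ∈ V
  rw [map1_apply]
  exact (show Z.map (hbot.from (op i)) y = a from hy) ▸ hV

omit hp in
theorem fibO_le_pre {W : Opens ((both Z).obj (sect1.obj (op i)))} (h : fibSet a i ⊆ W) :
    fibO a (op i) ≤ pre (arr (op i)) (fibO a (op i)) W := fun y hy => ⟨h ((mem_fibO a y).1 hy), hy⟩

variable (a) in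
/-- The germ at a point of the base of a section near the fibre. -/
def gmW (P : Sh (both Z)) (W : Opens ((both Z).obj (sect1.obj (op i)))) (hW : fibSet a i ⊆ W) :
    sec P.obj (sect1.obj (op i)) W →+ (stkP (Z := sect1 ⋙ both Z) ((restrΦ sect1 (both Z)).obj P).obj a).obj i :=
  ((gm (Z := sect1 ⋙ both Z) ((restrΦ sect1 (both Z)).obj P).obj (below hp W) (mem_below hp hW)).app i).hom.comp
    (mv P.obj (𝟙 (sect1.obj (op i))) (le_id (lev_below hp W)))

theorem gmW_toFib (P : Sh (both Z)) (W : Opens ((both Z).obj (sect1.obj (op i)))) (hW : fibSet a i ⊆ W)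
    (x : sec P.obj (sect1.obj (op i)) W) :
    mv P.obj (𝟙 (sect0.obj (op i))) (le_id (fibO_le_pre hW))
        (mv P.obj (arr (op i)) (pre_maps (arr (op i)) (fibO a (op i)) W) x) =
      (toFibApp P a i).hom (gmW a hp P W hW x) := by
  refine Eq.trans ?_ (toFibApp_gm P i (below hp W) (mem_below hp hW) _).symm
  exact (mv_mv _ _ _ (arr (op i)) (Category.id_comp _) (fun y hy => (fibO_le_pre hW hy).1) x).trans
    (mv_mv _ _ _ (arr (op i)) (Category.comp_id _) (fun y hy => (fibO_le_pre hW hy).1) x).symm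

theorem gmW_natural {P Q : Sh (both Z)} (φ : P ⟶ Q) (W : Opens ((both Z).obj (sect1.obj (op i))))
    (hW : fibSet a i ⊆ W) (x : sec P.obj (sect1.obj (op i)) W) :
    gmW a hp Q W hW ((φ.hom.app (op (pl (sect1.obj (op i)) W))).hom x) =
      ((stkPMap (Z := sect1 ⋙ both Z) ((restrΦ sect1 (both Z)).map φ).hom a).app i).hom (gmW a hp P W hW x) := by
  refine Eq.trans ?_ (gm_natural (Z := sect1 ⋙ both Z) ((restrΦ sect1 (both Z)).map φ).hom (below hp W)
    (mem_below hp hW) i _).symm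
  exact congrArg ((gm (Z := sect1 ⋙ both Z) ((restrΦ sect1 (both Z)).obj Q).obj (below hp W) (mem_below hp hW)).app i).hom
    (mv_natural φ.hom (𝟙 (sect1.obj (op i))) (le_id (lev_below hp W)) x).symm

theorem gmW_res (P : Sh (both Z)) {V W : Opens ((both Z).obj (sect1.obj (op i)))} (h : V ≤ W)
    (hV : fibSet a i ⊆ V) (hW : fibSet a i ⊆ W) (x : sec P.obj (sect1.obj (op i)) W) :
    gmW a hp P V hV (mv P.obj (𝟙 (sect1.obj (op i))) (le_id h) x) = gmW a hp P W hW x := by
  refine Eq.trans ?_ (gm_res (Z := sect1 ⋙ both Z) ((restrΦ sect1 (both Z)).obj P).obj (below_mono hp h)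
    (mem_below hp hV) i _)
  refine congrArg ((gm (Z := sect1 ⋙ both Z) ((restrΦ sect1 (both Z)).obj P).obj (below hp V) (mem_below hp hV)).app i).hom ?_
  refine Eq.trans ?_ (mv1_id P (lev_mono (Z := sect1 ⋙ both Z) (below_mono hp h) (op i)) _ _).symm
  refine (mv_mv P.obj (le_id (lev_below hp V)) (le_id h) (𝟙 (sect1.obj (op i))) (Category.comp_id _)
    (le_id ((lev_below hp V).trans h)) x).trans ?_
  exact (mv_mv P.obj (le_id (lev_mono (Z := sect1 ⋙ both Z) (below_mono hp h) (op i))) (le_id (lev_below hp W))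
    (𝟙 (sect1.obj (op i))) (Category.comp_id _) (le_id ((lev_below hp V).trans h)) x).symm

theorem gmW_surj (P : Sh (both Z)) (W : Opens ((both Z).obj (sect1.obj (op i)))) (hW : fibSet a i ⊆ W)
    (t : (stkP (Z := sect1 ⋙ both Z) ((restrΦ sect1 (both Z)).obj P).obj a).obj i) :
    ∃ (W' : Opens ((both Z).obj (sect1.obj (op i)))) (_ : W' ≤ W) (h : fibSet a i ⊆ W')
      (s : sec P.obj (sect1.obj (op i)) W'), gmW a hp P W' h s = t := by
  obtain ⟨V, hV, haV, s, rfl⟩ :=
    gm_exists (Z := sect1 ⋙ both Z) ((restrΦ sect1 (both Z)).obj P).obj (mem_below hp hW) i t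
  refine ⟨lev (sect1 ⋙ both Z) V (op i), (lev_mono hV (op i)).trans (lev_below hp W), fibSet_lev haV, s, ?_⟩
  let V' := V ⊓ below hp (lev (sect1 ⋙ both Z) V (op i))
  have hmem : a ∈ V' := ⟨haV, mem_below hp (fibSet_lev haV)⟩
  refine (gm_res (Z := sect1 ⋙ both Z) ((restrΦ sect1 (both Z)).obj P).obj
    (inf_le_right : V' ≤ _) hmem i _).symm.trans ?_
  refine Eq.trans (congrArg _ ?_) (gm_res (Z := sect1 ⋙ both Z) ((restrΦ sect1 (both Z)).obj P).obj
    (inf_le_left : V' ≤ V) hmem i s)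
  refine (mv1_id P (lev_mono (Z := sect1 ⋙ both Z) inf_le_right (op i)) _ _).trans ?_
  refine Eq.trans ?_ (mv1_id P (lev_mono (Z := sect1 ⋙ both Z) inf_le_left (op i)) _ _).symm
  exact mv_mv _ _ _ (𝟙 _) (Category.comp_id _) _ s

theorem gmW_kill (P : Sh (both Z)) (W : Opens ((both Z).obj (sect1.obj (op i)))) (hW : fibSet a i ⊆ W)
    (x : sec P.obj (sect1.obj (op i)) W) (hx : gmW a hp P W hW x = 0) :
    ∃ (W' : Opens ((both Z).obj (sect1.obj (op i)))) (h : W' ≤ W), fibSet a i ⊆ W' ∧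
      mv P.obj (𝟙 (sect1.obj (op i))) (le_id h) x = 0 := by
  obtain ⟨V, hV, haV, e0⟩ :=
    gm_eq_zero (Z := sect1 ⋙ both Z) ((restrΦ sect1 (both Z)).obj P).obj (mem_below hp hW) i _ hx
  refine ⟨lev (sect1 ⋙ both Z) V (op i), (lev_mono hV (op i)).trans (lev_below hp W), fibSet_lev haV, ?_⟩
  refine Eq.trans ?_ ((mv1_id P (lev_mono (Z := sect1 ⋙ both Z) hV (op i)) _ _).symm.trans e0)
  exact (mv_mv _ _ _ (𝟙 _) (Category.comp_id _) _ x).symm

end level

section level1

variable {a : Z.obj B0} {i : AΔ}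

/-- Restriction to the fibre. -/
def resW (P : Sh (both Z)) (W : Opens ((both Z).obj (sect1.obj (op i)))) (hW : fibSet a i ⊆ W) :
    sec P.obj (sect0.obj (op i)) (pre (arr (op i)) (fibO a (op i)) W) →+
      sec P.obj (sect0.obj (op i)) (fibO a (op i)) :=
  mv P.obj (𝟙 (sect0.obj (op i))) (le_id (fibO_le_pre hW))

theorem resW_res (P : Sh (both Z)) {V W : Opens ((both Z).obj (sect1.obj (op i)))} (h : V ≤ W)
    (hV : fibSet a i ⊆ V) (hW : fibSet a i ⊆ W)
    (x : sec P.obj (sect0.obj (op i)) (pre (arr (op i)) (fibO a (op i)) W)) :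
    resW P V hV (mv P.obj (𝟙 (sect0.obj (op i))) (le_id (pre_mono (arr (op i)) (fibO a (op i)) h)) x) =
      resW P W hW x :=
  mv_mv _ _ _ (𝟙 _) (Category.comp_id _) (le_id (fibO_le_pre hW)) x

theorem resW_natural {P Q : Sh (both Z)} (φ : P ⟶ Q) (W : Opens ((both Z).obj (sect1.obj (op i))))
    (hW : fibSet a i ⊆ W) (x : sec P.obj (sect0.obj (op i)) (pre (arr (op i)) (fibO a (op i)) W)) :
    resW Q W hW ((φ.hom.app (op (pl (sect0.obj (op i)) (pre (arr (op i)) (fibO a (op i)) W)))).hom x) =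
      (φ.hom.app (op (pl (sect0.obj (op i)) (fibO a (op i))))).hom (resW P W hW x) :=
  (mv_natural φ.hom (𝟙 _) (le_id (fibO_le_pre hW)) x).symm

theorem resW_surj (P : Sh (both Z)) (W : Opens ((both Z).obj (sect1.obj (op i)))) (hW : fibSet a i ⊆ W)
    (t : sec P.obj (sect0.obj (op i)) (fibO a (op i))) : ∃ s, resW P W hW s = t :=
  ⟨mv P.obj (𝟙 (sect0.obj (op i))) (le_id inf_le_right) t,
    (mv_mv _ _ _ (𝟙 _) (Category.comp_id _) (le_id le_rfl) t).trans (mv_self _ _ rfl _ t)⟩

theorem resW_kill (P : Sh (both Z)) (W : Opens ((both Z).obj (sect1.obj (op i)))) (hW : fibSet a i ⊆ W)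
    (x : sec P.obj (sect0.obj (op i)) (pre (arr (op i)) (fibO a (op i)) W)) (hx : resW P W hW x = 0) : x = 0 := by
  have e1 : mv P.obj (𝟙 (sect0.obj (op i)))
      (le_id (inf_le_right : pre (arr (op i)) (fibO a (op i)) W ≤ fibO a (op i))) (resW P W hW x) = x :=
    (mv_mv _ _ _ (𝟙 _) (Category.comp_id _) (le_id le_rfl) x).trans (mv_self _ _ rfl _ x)
  rw [← e1, hx, map_zero]

end level1

section germ

variable (hfl : ∀ n, FlFib (K.X n).obj) {a : Z.obj B0} {p : ℕ}
  (hp : IsProperMap (Z.map (hbot.from (op (idx p)))))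

/-- The germ maps of a level. -/
def levelπ (W : Opens ((both Z).obj (sect1.obj (op (idx p))))) (hW : fibSet a (idx p) ⊆ W) : ∀ r m,
    ((biShRel (arr (op (idx p))) (fibO a (op (idx p))) K d hfl).B W).A r m →+ ((fibTri K d a).slice₂ p).A r m
  | 0, m => gmW a hp (K.X (d + m)) W hW
  | 1, m => resW (K.X (d + m)) W hW
  | _ + 2, _ => 0

theorem levelπ_h (W : Opens ((both Z).obj (sect1.obj (op (idx p))))) (hW : fibSet a (idx p) ⊆ W) : ∀ r m x,
    levelπ d hfl hp W hW (r + 1) m (((biShRel (arr (op (idx p))) (fibO a (op (idx p))) K d hfl).B W).h r m x) =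
      ((fibTri K d a).slice₂ p).h r m (levelπ d hfl hp W hW r m x)
  | 0, m, x => gmW_toFib hp (K.X (d + m)) W hW x
  | 1, m, x => rfl
  | _ + 2, m, x => rfl

theorem levelπ_v (W : Opens ((both Z).obj (sect1.obj (op (idx p))))) (hW : fibSet a (idx p) ⊆ W) : ∀ r m x,
    levelπ d hfl hp W hW r (m + 1) (((biShRel (arr (op (idx p))) (fibO a (op (idx p))) K d hfl).B W).v r m x) =
      ((fibTri K d a).slice₂ p).v r m (levelπ d hfl hp W hW r m x)
  | 0, m, x => gmW_natural hp (K.d (d + m) (d + (m + 1 : ℕ))) W hW x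
  | 1, m, x => resW_natural (K.d (d + m) (d + (m + 1 : ℕ))) W hW x
  | _ + 2, m, x => rfl

theorem levelπ_res {V W : Opens ((both Z).obj (sect1.obj (op (idx p))))} (h : V ≤ W)
    (hV : fibSet a (idx p) ⊆ V) (hW : fibSet a (idx p) ⊆ W) : ∀ r m x,
    levelπ d hfl hp V hV r m ((biShRel (arr (op (idx p))) (fibO a (op (idx p))) K d hfl).res h r m x) =
      levelπ d hfl hp W hW r m x
  | 0, m, x => gmW_res hp (K.X (d + m)) h hV hW x
  | 1, m, x => resW_res (K.X (d + m)) h hV hW x
  | _ + 2, m, x => rfl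

theorem levelπ_surj (W : Opens ((both Z).obj (sect1.obj (op (idx p))))) (hW : fibSet a (idx p) ⊆ W) :
    ∀ r m (t : ((fibTri K d a).slice₂ p).A r m),
      ∃ (V : Opens ((both Z).obj (sect1.obj (op (idx p))))) (_ : V ≤ W) (hV : fibSet a (idx p) ⊆ V)
        (s : ((biShRel (arr (op (idx p))) (fibO a (op (idx p))) K d hfl).B V).A r m),
        levelπ d hfl hp V hV r m s = t
  | 0, m, t => gmW_surj hp (K.X (d + m)) W hW t
  | 1, m, t => ⟨W, le_rfl, hW, resW_surj (K.X (d + m)) W hW t⟩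
  | _ + 2, m, t => ⟨W, le_rfl, hW, PUnit.unit, rfl⟩

theorem levelπ_kill (W : Opens ((both Z).obj (sect1.obj (op (idx p))))) (hW : fibSet a (idx p) ⊆ W) :
    ∀ r m x, levelπ d hfl hp W hW r m x = 0 →
      ∃ (V : Opens ((both Z).obj (sect1.obj (op (idx p))))) (h : V ≤ W), fibSet a (idx p) ⊆ V ∧
        (biShRel (arr (op (idx p))) (fibO a (op (idx p))) K d hfl).res h r m x = 0
  | 0, m, x, hx => gmW_kill hp (K.X (d + m)) W hW x hx
  | 1, m, x, hx => ⟨W, le_rfl, hW, (BiSh.res_self _ W 1 m x).trans (resW_kill (K.X (d + m)) W hW x hx)⟩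
  | _ + 2, m, x, hx => ⟨W, le_rfl, hW, Subsingleton.elim (α := PUnit) _ _⟩

/-- Germs of the cone of a level. -/
def levelGerm : (biShRel (arr (op (idx p))) (fibO a (op (idx p))) K d hfl).Germ (fun W => fibSet a (idx p) ⊆ W)
    ((fibTri K d a).slice₂ p) where
  π := levelπ d hfl hp
  π_h := levelπ_h d hfl hp
  π_v := levelπ_v d hfl hp
  π_res := levelπ_res d hfl hp
  surj := levelπ_surj d hfl hp
  kill := levelπ_kill d hfl hp

end germ

/-- One level of the comparison is exact. -/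
theorem fibTri_slice₂_exact (hfl : ∀ n, FlFib (K.X n).obj) (hK : Cart K) [K.IsStrictlyGE d]
    (a : Z.obj B0) (p : ℕ) (hp : IsProperMap (Z.map (hbot.from (op (idx p)))))
    (hs : PtSep (fibSet a (idx p)) (fibSet a (idx p))) :
    ((fibTri K d a).slice₂ p).Exact := by
  refine (levelGerm d hfl hp).exact (U₀ := ⊤) (Set.subset_univ _) ?_
  refine BiSh.exactOn_compact _ (hp.isCompact_preimage isCompact_singleton) hs fun z hz => ?_
  let i : AΔᵒᵖ := op (idx p)
  let z' : (pullback (Z.map (hbot.from i)) (disι Z) : TopCat.{u}) :=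
    (TopCat.pullbackIsoProdSubtype _ _).inv ⟨((z : Z.obj i), (a : disB Z)), hz⟩
  have hz' : (both Z).map (arr i) z' = z := by
    rw [map_arr]
    exact TopCat.pullbackIsoProdSubtype_inv_fst_apply _ _ _
  have hz'F : (z' : (both Z).obj (sect0.obj i)) ∈ fibO a i := (mem_fibO a _).2 (by rw [hz']; exact hz)
  refine biShRel_exactOn_point (arr i) (fibO a i) d hfl hK hz'F hz' fun O hO => ?_
  obtain ⟨W, hW, hle⟩ := exists_pre_le (fibO a i) (mem_fibO a) _ hz'F O hO
  exact ⟨W, hz' ▸ hW, hle⟩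

/-- The criterion for diagrams with proper separated augmentations, from their fibres. -/
theorem crit_of_proper (hp : ∀ i, IsProperMap (Z.map (hbot.from i)))
    (hs : ∀ i a, PtSep ((Z.map (hbot.from i)) ⁻¹' {a}) ((Z.map (hbot.from i)) ⁻¹' {a}))
    (h : Crit (fibD Z)) : Crit Z := by
  refine crit_of_iso (isoSect1 Z) (crit_restr sect1 (both Z) hbotT fun K d _ hfl hK U => ?_)
  have hfl1 : ∀ n, FlFib ((cx1 K).X n).obj := fun n => flFib_restrΦ (hfl n)
  refine (biShCech (cx1 K) d hfl1).exact (fun U k x hx hD a ha =>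
    (cechGerm (cx1 K) d hfl1 a).exactOn ?_ U ha k x hx hD) U
  exact exact_source _ _ _ (fun p => fibTri_slice₂_exact d hfl hK a p (hp _) (hs _ a))
    (crit_of_iso (isoSect0 Z).symm h (cx0 K) d (fun n => flFib_restrΦ (hfl n)) (cart_restrΦ sect0 hK) (ptO a))

end

end Groth.Agent.CohDesc82
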