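import Groth.Agent.CohDesc82.Proper

/-!
# Nerves of proper separated maps
-/

universe u

set_option autoImplicit false
set_option linter.unusedVariables false
set_option backward.isDefEq.respectTransparency false
set_option backward.isDefEq.respectTransparency.types false

open CategoryTheory CategoryTheory.Limits Opposite TopologicalSpace Simplicial Topology Filter

namespace Groth.Agent.CohDesc82

noncomputable section

variable {X S : TopCat.{u}} (f : X ⟶ S)

theorem nhds_widePullback {n : ℕ} (w : (widePullback S (fun _ : Fin (n + 1) => X) (fun _ => f) : TopCat.{u})) :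
    𝓝 w = (comap (WidePullback.base (fun _ : Fin (n + 1) => f)) (𝓝 (WidePullback.base (fun _ : Fin (n + 1) => f) w))) ⊓
      ⨅ k, comap (WidePullback.π (fun _ : Fin (n + 1) => f) k) (𝓝 (WidePullback.π (fun _ : Fin (n + 1) => f) k w)) := by
  refine (congrArg (fun t => @nhds _ t w) (TopCat.limit_topology _)).trans ?_
  refine nhds_iInf.trans ((iInf_option (β := Fin (n + 1)) _).trans ?_)
  exact congrArg₂ (· ⊓ ·) (nhds_induced _ _) (iInf_congr fun k => nhds_induced _ _)

/-- Fibre powers of a proper map are proper. -/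
theorem isProperMap_base (hf : IsProperMap f) (n : ℕ) :
    IsProperMap (WidePullback.base (fun _ : Fin (n + 1) => f) :
      widePullback S (fun _ : Fin (n + 1) => X) (fun _ => f) ⟶ S) := by
  refine isProperMap_iff_ultrafilter.2 ⟨(WidePullback.base (fun _ : Fin (n + 1) => f)).hom.continuous, fun 𝒰 y hy => ?_⟩
  have h : ∀ k : Fin (n + 1), ∃ x : X, f x = y ∧
      Tendsto (WidePullback.π (fun _ : Fin (n + 1) => f) k) (𝒰 : Filter _) (𝓝 x) := fun k => by
    refine (isProperMap_iff_ultrafilter.1 hf).2 (𝒰 := 𝒰.map (WidePullback.π (fun _ : Fin (n + 1) => f) k)) ?_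
    refine Filter.tendsto_map'_iff.2 ?_
    have e : (f ∘ WidePullback.π (fun _ : Fin (n + 1) => f) k) = WidePullback.base (fun _ : Fin (n + 1) => f) :=
      funext fun z => ConcreteCategory.congr_hom (WidePullback.π_arrow (fun _ : Fin (n + 1) => f) k) z
    rw [e]
    exact hy
  choose x hx hx' using h
  let c : TopCat.of PUnit.{u + 1} ⟶ S := TopCat.ofHom (ContinuousMap.const _ y)
  let cs : Fin (n + 1) → (TopCat.of PUnit.{u + 1} ⟶ X) := fun k => TopCat.ofHom (ContinuousMap.const _ (x k))
  have wc : ∀ k, cs k ≫ f = c := fun k => TopCat.hom_ext (ContinuousMap.ext fun _ => hx k)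
  let ℓ : TopCat.of PUnit.{u + 1} ⟶ widePullback S (fun _ : Fin (n + 1) => X) (fun _ => f) :=
    WidePullback.lift c cs wc
  have hb : WidePullback.base (fun _ : Fin (n + 1) => f) (ℓ PUnit.unit) = y :=
    ConcreteCategory.congr_hom (WidePullback.lift_base (fun _ : Fin (n + 1) => f) c cs wc) PUnit.unit
  have hπ : ∀ k, WidePullback.π (fun _ : Fin (n + 1) => f) k (ℓ PUnit.unit) = x k := fun k =>
    ConcreteCategory.congr_hom (WidePullback.lift_π (fun _ : Fin (n + 1) => f) c cs wc k) PUnit.unit
  refine ⟨ℓ PUnit.unit, hb, ?_⟩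
  rw [nhds_widePullback f]
  refine le_inf (tendsto_iff_comap.1 (by rw [hb]; exact hy)) (le_iInf fun k => tendsto_iff_comap.1 ?_)
  rw [hπ]
  exact hx' k

/-- Fibre powers of a separated map are separated. -/
theorem ptSep_base
    (hs : ∀ x x' : X, f x = f x' → x ≠ x' → ∃ U V : Set X, IsOpen U ∧ IsOpen V ∧ x ∈ U ∧ x' ∈ V ∧ Disjoint U V)
    (n : ℕ) (a : S) :
    PtSep ((WidePullback.base (fun _ : Fin (n + 1) => f)) ⁻¹' {a})
      ((WidePullback.base (fun _ : Fin (n + 1) => f)) ⁻¹' {a}) := fun z hz z' hz' hne => by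
  obtain ⟨k, hk⟩ : ∃ k, WidePullback.π (fun _ : Fin (n + 1) => f) k z ≠ WidePullback.π (fun _ : Fin (n + 1) => f) k z' := by
    by_contra hc
    apply hne
    refine Concrete.widePullback_ext (fun _ : Fin (n + 1) => f) _ _ ?_ fun k => not_not.1 fun h => hc ⟨k, h⟩
    exact (show _ = a from hz).trans (show _ = a from hz').symm
  have hb : ∀ w : (widePullback S (fun _ : Fin (n + 1) => X) (fun _ => f) : TopCat.{u}),
      f (WidePullback.π (fun _ : Fin (n + 1) => f) k w) = WidePullback.base (fun _ : Fin (n + 1) => f) w := fun w =>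
    ConcreteCategory.congr_hom (WidePullback.π_arrow (fun _ : Fin (n + 1) => f) k) w
  obtain ⟨U, V, hU, hV, hzU, hzV, hUV⟩ := hs _ _
    ((hb z).trans ((show _ = a from hz).trans ((hb z').trans (show _ = a from hz')).symm)) hk
  exact ⟨_, _, hU.preimage (WidePullback.π (fun _ : Fin (n + 1) => f) k).hom.continuous,
    hV.preimage (WidePullback.π (fun _ : Fin (n + 1) => f) k).hom.continuous, hzU, hzV, hUV.preimage _⟩

/-- Proper separated surjections are of cohomological descent. -/
theorem cd_of_proper (hf : IsProperMap f)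
    (hs : ∀ x x' : X, f x = f x' → x ≠ x' → ∃ U V : Set X, IsOpen U ∧ IsOpen V ∧ x ∈ U ∧ x' ∈ V ∧ Disjoint U V)
    (hsurj : Function.Surjective f) : CD f := by
  have h0 : nvAug f (op WithInitial.star) = 𝟙 S := nvAug_star f
  refine crit_of_proper (fun i => ?_) (fun i a => ?_) ?_
  · obtain ⟨_ | p⟩ := i
    · induction ‹SimplexCategory› using SimplexCategory.rec with
      | mk q => exact isProperMap_base f hf q
    · show IsProperMap (nvAug f (op WithInitial.star))
      rw [h0]; exact isProperMap_id
  · obtain ⟨_ | p⟩ := i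
    · induction ‹SimplexCategory› using SimplexCategory.rec with
      | mk q => exact ptSep_base f hs q a
    · intro z hz z' hz' hne
      have e : ∀ w : S, nvAug f (op WithInitial.star) w = w := fun w => ConcreteCategory.congr_hom h0 w
      exact absurd ((e z).symm.trans ((show _ = a from hz).trans ((show _ = a from hz').symm.trans (e z')))) hne
  · let ι : disB (nv f) ⟶ S := disι (nv f)
    choose g hg using hsurj
    let σ : disB (nv f) ⟶ X :=
      @TopCat.ofHom S X ⊥ _ (@ContinuousMap.mk _ _ ⊥ _ (fun w => g w) continuous_bot)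
    have hσ : σ ≫ f = ι := TopCat.hom_ext (ContinuousMap.ext fun w => hg w)
    exact crit_of_iso (bcIsoNv f ι) (cd_of_section (pullback.snd f ι)
      (pullback.lift σ (𝟙 _) (hσ.trans (Category.id_comp _).symm)) (pullback.lift_snd _ _ _))

end

end Groth.Agent.CohDesc82
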