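import Groth.Agent.CohDesc82.ProperNerve

/-!
# Base changes of proper separated surjections
-/

universe u

set_option autoImplicit false
set_option linter.unusedVariables false
set_option backward.isDefEq.respectTransparency false
set_option backward.isDefEq.respectTransparency.types false

open CategoryTheory CategoryTheory.Limits Opposite TopologicalSpace Simplicial Topology Filter

namespace Groth.Agent.CohDesc82

noncomputable section

/-- Proper separated surjections are universally of cohomological descent. -/
theorem ucd_of_proper {X S : TopCat.{u}} (f : X ⟶ S) (hf : IsProperMap f)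
    (hs : ∀ x x' : X, f x = f x' → x ≠ x' → ∃ U V : Set X, IsOpen U ∧ IsOpen V ∧ x ∈ U ∧ x' ∈ V ∧ Disjoint U V)
    (hsurj : Function.Surjective f) : UCD f := fun T h => by
  have hcond : ∀ z, f (pullback.fst f h z) = h (pullback.snd f h z) := fun z =>
    ConcreteCategory.congr_hom (pullback.condition (f := f) (g := h)) z
  let mk : ∀ (x : X) (t : T), f x = h t → (pullback f h : TopCat.{u}) := fun x t e =>
    (TopCat.pullbackIsoProdSubtype f h).inv ⟨(x, t), e⟩
  have hfst : ∀ x t e, pullback.fst f h (mk x t e) = x := fun x t e => TopCat.pullbackIsoProdSubtype_inv_fst_apply _ _ _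
  have hsnd : ∀ x t e, pullback.snd f h (mk x t e) = t := fun x t e => TopCat.pullbackIsoProdSubtype_inv_snd_apply _ _ _
  refine cd_of_proper (pullback.snd f h) ?_ (fun z z' e hne => ?_) fun t => ?_
  · refine isProperMap_iff_ultrafilter.2 ⟨(pullback.snd f h).hom.continuous, fun 𝒰 t ht => ?_⟩
    obtain ⟨x, hx, hx'⟩ := (isProperMap_iff_ultrafilter.1 hf).2 (𝒰 := 𝒰.map (pullback.fst f h)) (y := h t) (by
      refine Filter.tendsto_map'_iff.2 ?_
      rw [show (f ∘ pullback.fst f h) = h ∘ pullback.snd f h from funext hcond]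
      exact (h.hom.continuous.tendsto t).comp ht)
    refine ⟨mk x t hx, hsnd x t hx, ?_⟩
    rw [show 𝓝 (mk x t hx) = comap (pullback.fst f h) (𝓝 x) ⊓ comap (pullback.snd f h) (𝓝 t) from ?_]
    · exact le_inf (tendsto_iff_comap.1 hx') (tendsto_iff_comap.1 ht)
    refine (congrArg (fun s => @nhds _ s (mk x t hx)) (TopCat.pullback_topology f h)).trans ?_
    refine nhds_inf.trans (congrArg₂ (· ⊓ ·) ((nhds_induced _ _).trans ?_) ((nhds_induced _ _).trans ?_))
    · exact congrArg (fun w => comap (pullback.fst f h) (𝓝 w)) (hfst x t hx)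
    · exact congrArg (fun w => comap (pullback.snd f h) (𝓝 w)) (hsnd x t hx)
  · have hne' : pullback.fst f h z ≠ pullback.fst f h z' := fun e' => by
      let c : ((pullback f h : TopCat.{u}) : Type u) → (TopCat.of PUnit.{u + 1} ⟶ (pullback f h : TopCat.{u})) :=
        fun w => TopCat.ofHom (ContinuousMap.const _ w)
      have hc : c z = c z' := pullback.hom_ext (TopCat.hom_ext (ContinuousMap.ext fun _ => e'))
        (TopCat.hom_ext (ContinuousMap.ext fun _ => e))
      exact hne (ConcreteCategory.congr_hom hc PUnit.unit)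
    obtain ⟨U, V, hU, hV, hzU, hzV, hUV⟩ := hs _ _ ((hcond z).trans ((congrArg h e).trans (hcond z').symm)) hne'
    exact ⟨_, _, hU.preimage (pullback.fst f h).hom.continuous, hV.preimage (pullback.fst f h).hom.continuous,
      hzU, hzV, hUV.preimage _⟩
  · obtain ⟨x, hx⟩ := hsurj (h t)
    exact ⟨mk x t hx, hsnd x t hx⟩

end

end Groth.Agent.CohDesc82
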