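import Groth.Agent.CohDesc82.Base
import Groth.Agent.CohDesc82.Crit
import Groth.Agent.CohDesc82.CechInj
import Groth.Agent.CohDesc82.Extend
import Mathlib.CategoryTheory.Sites.CoverLifting

/-!
# The part of an augmented simplicial space: direct images of injective sheaves have exact Cech rows
-/

universe u

set_option autoImplicit false
set_option backward.isDefEq.respectTransparency false
set_option backward.isDefEq.respectTransparency.types false

open CategoryTheory CategoryTheory.Limits Opposite TopologicalSpace Simplicial Pseudofunctor.CoGrothendieck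

namespace Groth.Agent.CohDesc82

noncomputable section

variable (Z : AΔᵒᵖ ⥤ TopCat.{u})

/-- The inclusion of the simplex category. -/
abbrev ΦΔ : SimplexCategoryᵒᵖ ⥤ AΔᵒᵖ := WithInitial.incl.op

/-- The part. -/
abbrev Zp : SimplexCategoryᵒᵖ ⥤ TopCat.{u} := ΦΔ ⋙ Z

instance good_aug : Good Z := good_of_zero Z

instance good_part : Good (Zp Z) := good_of_zero _

instance full_bc : (bc ΦΔ Z).Full where
  map_surjective {a b} g := by
    obtain ⟨f, hf⟩ := (ΦΔ).map_surjective g.base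
    obtain ⟨i, V⟩ := a
    obtain ⟨j, W⟩ := b
    change Opens (Z.obj (ΦΔ.obj i)) at V
    change Opens (Z.obj (ΦΔ.obj j)) at W
    refine ⟨hm (Y := Zp Z) f (fun x hx => ?_), hom_ext' _ _ hf⟩
    show Z.map (ΦΔ.map f) x ∈ W
    rw [hf]
    exact mem_of_hom (i := ΦΔ.obj i) (j := ΦΔ.obj j) g x hx

instance faithful_bc : (bc ΦΔ Z).Faithful where
  map_injective {a b} f g h := hom_ext' f g ((ΦΔ).map_injective (congrArg (fun q => q.base) h))

instance ran_bc (P : (Pseudofunctor.CoGrothendieck (osF (Zp Z)))ᵒᵖ ⥤ AddCommGrpCat.{u}) :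
    (bc ΦΔ Z).op.HasPointwiseRightKanExtension P :=
  inferInstance

/-- Direct image from the part. -/
abbrev pushΦ : Sh (Zp Z) ⥤ Sh Z :=
  (bc ΦΔ Z).sheafPushforwardCocontinuous AddCommGrpCat.{u} (osTot (Zp Z)) (osTot Z)

/-- Its adjunction. -/
abbrev adjΦ : restrΦ ΦΔ Z ⊣ pushΦ Z :=
  (bc ΦΔ Z).sheafAdjunctionCocontinuous AddCommGrpCat.{u} (osTot (Zp Z)) (osTot Z)

theorem isIso_counit_adjΦ (J : Sh (Zp Z)) : IsIso ((adjΦ Z).counit.app J) := by
  have : IsIso ((adjΦ Z).counit.app J).hom := by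
    rw [Functor.sheafAdjunctionCocontinuous_counit_app_hom]
    infer_instance
  exact @isIso_of_reflects_iso _ _ _ _ _ _ ((adjΦ Z).counit.app J) (sheafToPresheaf _ _) this _

instance preservesFiniteLimits_restrΦ : PreservesFiniteLimits (restrΦ ΦΔ Z) :=
  have : PreservesFiniteLimits (restrΦ ΦΔ Z ⋙ sheafToPresheaf _ _) :=
    inferInstanceAs (PreservesFiniteLimits (sheafToPresheaf (osTot Z) AddCommGrpCat.{u} ⋙
      (Functor.whiskeringLeft _ _ _).obj (bc ΦΔ Z).op))
  ⟨fun _ _ _ => preservesLimitsOfShape_of_reflects_of_preserves (restrΦ ΦΔ Z) (sheafToPresheaf _ _)⟩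

instance preservesFiniteColimits_restrΦ : PreservesFiniteColimits (restrΦ ΦΔ Z) :=
  have : PreservesColimitsOfSize.{0, 0} (restrΦ ΦΔ Z) := (adjΦ Z).leftAdjoint_preservesColimits
  PreservesColimitsOfSize.preservesFiniteColimits _

instance additive_restrΦ : (restrΦ ΦΔ Z).Additive :=
  Functor.additive_of_preserves_binary_products _

instance additive_pushΦ : (pushΦ Z).Additive :=
  (adjΦ Z).right_adjoint_additive

instance injective_pushΦ (J : Sh (Zp Z)) [Injective J] : Injective ((pushΦ Z).obj J) :=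
  (adjΦ Z).map_injective J inferInstance

/-- The levels of an open of the base, as a simplicial object of the total category. -/
abbrev lvlSimp (U : Opens (Z.obj (op WithInitial.star))) :
    SimplicialObject (Pseudofunctor.CoGrothendieck (osF Z)) :=
  (WithInitial.incl ⋙ lvl Z U).leftOp

/-- Prepending the vertex `0`. -/
def prep {p q : ℕ} (f : ⦋p⦌ ⟶ ⦋q⦌) : ⦋p + 1⦌ ⟶ ⦋q⦌ :=
  SimplexCategory.mkHom ⟨Fin.cases 0 (fun k => f.toOrderHom k), by
    intro a b hab
    induction a using Fin.cases with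
    | zero => exact Fin.zero_le _
    | succ a =>
      induction b using Fin.cases with
      | zero => exact absurd hab (not_le.2 (Fin.succ_pos a))
      | succ b =>
        simp only [Fin.cases_succ]
        exact f.toOrderHom.monotone (Fin.succ_le_succ_iff.1 hab)⟩

theorem prep_succ {p q : ℕ} (f : ⦋p⦌ ⟶ ⦋q⦌) (k : Fin (p + 1)) :
    (prep f).toOrderHom k.succ = f.toOrderHom k :=
  Fin.cases_succ (motive := fun _ => Fin (q + 1)) (zero := (0 : Fin (q + 1))) k

theorem δ_zero_prep {p q : ℕ} (f : ⦋p⦌ ⟶ ⦋q⦌) : SimplexCategory.δ 0 ≫ prep f = f := by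
  refine SimplexCategory.Hom.ext _ _ (OrderHom.ext _ _ (funext fun k => ?_))
  show (prep f).toOrderHom (Fin.succAbove 0 k) = _
  rw [Fin.zero_succAbove]
  exact prep_succ f k

theorem δ_succ_prep {p q : ℕ} (f : ⦋p + 1⦌ ⟶ ⦋q⦌) (k : Fin (p + 2)) :
    SimplexCategory.δ k.succ ≫ prep f = prep (SimplexCategory.δ k ≫ f) := by
  refine SimplexCategory.Hom.ext _ _ (OrderHom.ext _ _ (funext fun j => ?_))
  show (prep f).toOrderHom (Fin.succAbove k.succ j) = _
  induction j using Fin.cases with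
  | zero => rw [Fin.succ_succAbove_zero]; rfl
  | succ j =>
    rw [Fin.succ_succAbove_succ, prep_succ]
    exact (prep_succ (SimplexCategory.δ k ≫ f) j).symm

variable (U : Opens (Z.obj (op WithInitial.star)))

/-- The constant map to the vertex `0`. -/
def vert0 (q : ℕ) : ⦋0⦌ ⟶ ⦋q⦌ := SimplexCategory.mkHom ⟨fun _ => 0, fun _ _ _ => le_rfl⟩

theorem prep_vert {q : ℕ} (f : ⦋0⦌ ⟶ ⦋q⦌) : SimplexCategory.δ 1 ≫ prep f = vert0 q := by
  refine SimplexCategory.Hom.ext _ _ (OrderHom.ext _ _ (funext fun j => ?_))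
  obtain rfl : j = 0 := Subsingleton.elim (α := Fin 1) _ _
  rfl

/-- The contraction. -/
def contr (b : Pseudofunctor.CoGrothendieck (osF (Zp Z))) : Contr (lvlSimp Z U) ((bc ΦΔ Z).obj b) where
  cons {p} g := hm (i := ΦΔ.obj b.base) (j := op (WithInitial.of ⦋p + 1⦌))
    (WithInitial.incl.map (prep (q := b.base.unop.len) (WithInitial.down g.base.unop))).op fun x hx => by
      show Z.map (hbot.from _) (Z.map _ x) ∈ U
      have e := mem_of_hom (i := ΦΔ.obj b.base) (j := op (WithInitial.of ⦋p⦌)) g x hx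
      change Z.map (hbot.from _) (Z.map g.base x) ∈ U at e
      rw [← ConcreteCategory.comp_apply, ← Z.map_comp, hbot.hom_ext (_ ≫ hbot.from _) (g.base ≫ hbot.from _),
        Z.map_comp]
      exact e
  zero {p} g := hom_ext' _ _ (Quiver.Hom.unop_inj
    (congrArg (fun t : ⦋p⦌ ⟶ b.base.unop => WithInitial.incl.map t) (δ_zero_prep _)))
  succ {p} g k := hom_ext' _ _ (Quiver.Hom.unop_inj
    (congrArg (fun t : ⦋p + 1⦌ ⟶ b.base.unop => WithInitial.incl.map t) (δ_succ_prep _ k)))

/-- The Cech row of a direct image of an injective sheaf from the part is exact. -/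
theorem rowExact_pushΦ (J : Sh (Zp Z)) [Injective J] :
    (∀ x, cd (csec Z ((pushΦ Z).obj J).obj U) 0 x = 0 → x = 0) ∧
      ∀ p x, cd (csec Z ((pushΦ Z).obj J).obj U) (p + 1) x = 0 →
        ∃ y, cd (csec Z ((pushΦ Z).obj J).obj U) p y = x := by
  have : Injective J.obj := (sheafificationAdjunction (osTot (Zp Z)) AddCommGrpCat.{u}).map_injective J inferInstance
  have hP : RelInj (bc ΦΔ Z) ((pushΦ Z).obj J).obj := relInj_ran (bc ΦΔ Z) J.obj
  set P := ((pushΦ Z).obj J).obj
  let ε : (lvlSimp Z U) _⦋0⦌ ⟶ pl (op WithInitial.star) (lev Z U (op WithInitial.star)) :=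
    hm (fromStar (WithInitial.of ⦋0⦌)).op (mem_lev Z U _)
  let cons₀ : ∀ b : Pseudofunctor.CoGrothendieck (osF (Zp Z)),
      ((bc ΦΔ Z).obj b ⟶ pl (op WithInitial.star) (lev Z U (op WithInitial.star))) →
        ((bc ΦΔ Z).obj b ⟶ (lvlSimp Z U) _⦋0⦌) := fun b g =>
    hm (i := ΦΔ.obj b.base) (j := op (WithInitial.of ⦋0⦌)) (WithInitial.incl.map (vert0 b.base.unop.len)).op
      fun x hx => by
        show Z.map (hbot.from _) (Z.map _ x) ∈ U
        have e := mem_of_hom (i := ΦΔ.obj b.base) (j := op WithInitial.star) g x hx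
        change Z.map (hbot.from _) (Z.map g.base x) ∈ U at e
        rw [← ConcreteCategory.comp_apply, ← Z.map_comp, hbot.hom_ext (_ ≫ hbot.from _) (g.base ≫ hbot.from _),
          Z.map_comp]
        exact e
  have hcons₀ : ∀ b g, cons₀ b g ≫ ε = g := fun b g => hom_ext' _ _ (hbot.hom_ext _ _)
  have hε : (lvlSimp Z U).δ (0 : Fin 2) ≫ ε = (lvlSimp Z U).δ 1 ≫ ε := hom_ext' _ _ (hbot.hom_ext _ _)
  have hcd : ∀ p (x : P.obj (op ((lvlSimp Z U) _⦋p⦌))),
      cd (csec Z P U) (p + 1) x = cechD P (lvlSimp Z U) p x := fun p x => by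
    rw [cechD_apply]; exact cd_succ (csec Z P U) p x
  refine ⟨fun x hx => (injective_iff_map_eq_zero _).1 (aug_injective ε cons₀ hcons₀ hP) x hx, fun p x hx => ?_⟩
  rcases p with _ | p
  · exact exists_aug ε hε cons₀ hP (contr Z U)
      (fun b g => hom_ext' _ _ (Quiver.Hom.unop_inj
        (congrArg (fun t : ⦋0⦌ ⟶ b.base.unop => WithInitial.incl.map t) (prep_vert _))))
      x ((hcd 0 x).symm.trans hx)
  · obtain ⟨s, hs⟩ := exists_cechD hP (fun b => ⟨contr Z U b⟩) p x ((hcd (p + 1) x).symm.trans hx)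
    exact ⟨s, (hcd p s).trans hs⟩

end

end Groth.Agent.CohDesc82
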