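import Groth.Agent.CohDesc82.Compact
import Groth.Agent.CohDesc82.Locality

/-!
# Germs of Cech bicomplexes, and sections relative to a transition map
-/

universe u

set_option autoImplicit false
set_option linter.unusedVariables false
set_option backward.isDefEq.respectTransparency false
set_option backward.isDefEq.respectTransparency.types false

open CategoryTheory CategoryTheory.Limits Opposite TopologicalSpace Pseudofunctor.CoGrothendieck

namespace Groth.Agent.CohDesc82

noncomputable section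

section cech

variable {Z : AΔᵒᵖ ⥤ TopCat.{u}}

/-- The levels, as a functor of the open of the base. -/
def levF (i : AΔ) : Opens (Z.obj B0) ⥤ ∫ᶜ (osF Z) where
  obj U := pl (op i) (lev Z U (op i))
  map g := hm (𝟙 (op i)) (le_id (lev_mono (leOfHom g) (op i)))
  map_id U := hom_ext' _ _ rfl
  map_comp g g' := hom_ext' _ (hm (𝟙 (op i)) (le_id (lev_mono (leOfHom g) (op i))) ≫
    hm (𝟙 (op i)) (le_id (lev_mono (leOfHom g') (op i)))) (Category.comp_id _).symm

/-- The direct images on the base of the levels of a presheaf. -/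
def pushP (P : Pre Z) : AΔ ⥤ TopCat.Presheaf AddCommGrpCat.{u} (Z.obj B0) where
  obj i := (levF i).op ⋙ P
  map {i j} f :=
    { app := fun U => P.map ((lvl Z U.unop).map f)
      naturality := fun U V g => by
        refine (P.map_comp _ _).symm.trans (Eq.trans (congrArg P.map ?_) (P.map_comp _ _))
        exact Quiver.Hom.unop_inj (hom_ext' _ _ ((Category.comp_id _).trans (Category.id_comp _).symm)) }
  map_id i := NatTrans.ext (funext fun U => by
    show P.map ((lvl Z U.unop).map (𝟙 i)) = _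
    rw [(lvl Z U.unop).map_id, P.map_id]
    rfl)
  map_comp f g := NatTrans.ext (funext fun U => by
    show P.map ((lvl Z U.unop).map (f ≫ g)) = _
    rw [(lvl Z U.unop).map_comp, P.map_comp]
    rfl)

/-- Functoriality of the direct images. -/
def pushMap {P Q : Pre Z} (φ : P ⟶ Q) : pushP P ⟶ pushP Q where
  app i := Functor.whiskerLeft (levF i).op φ
  naturality i j f := NatTrans.ext (funext fun U => φ.naturality _)

/-- The stalks of the direct images. -/
abbrev stkP (P : Pre Z) (a : Z.obj B0) : AΔ ⥤ AddCommGrpCat.{u} :=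
  pushP P ⋙ TopCat.Presheaf.stalkFunctor AddCommGrpCat.{u} a

/-- Functoriality of the stalks. -/
abbrev stkPMap {P Q : Pre Z} (φ : P ⟶ Q) (a : Z.obj B0) : stkP P a ⟶ stkP Q a :=
  Functor.whiskerRight (pushMap φ) _

/-- The germs. -/
def gm (P : Pre Z) {a : Z.obj B0} (U : Opens (Z.obj B0)) (ha : a ∈ U) : csec Z P U ⟶ stkP P a where
  app i := ((pushP P).obj i).germ U a ha
  naturality i j f := (TopCat.Presheaf.stalkFunctor_map_germ U a ha ((pushP P).map f)).symm

theorem gm_res (P : Pre Z) {a : Z.obj B0} {V U : Opens (Z.obj B0)} (h : V ≤ U) (ha : a ∈ V) (i : AΔ)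
    (s : sec P (op i) (lev Z U (op i))) :
    ((gm P V ha).app i).hom (mv P (𝟙 (op i)) (le_id (lev_mono h (op i))) s) = ((gm P U (h ha)).app i).hom s :=
  ((pushP P).obj i).germ_res_apply (homOfLE h) a ha s

theorem gm_natural {P Q : Pre Z} (φ : P ⟶ Q) {a : Z.obj B0} (U : Opens (Z.obj B0)) (ha : a ∈ U) (i : AΔ)
    (s : sec P (op i) (lev Z U (op i))) :
    ((stkPMap φ a).app i).hom (((gm P U ha).app i).hom s) =
      ((gm Q U ha).app i).hom ((φ.app (op (pl (op i) (lev Z U (op i))))).hom s) :=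
  TopCat.Presheaf.stalkFunctor_map_germ_apply U a ha ((pushMap φ).app i) s

theorem gm_exists (P : Pre Z) {a : Z.obj B0} {U : Opens (Z.obj B0)} (ha : a ∈ U) (i : AΔ)
    (t : (stkP P a).obj i) :
    ∃ (V : Opens (Z.obj B0)) (_ : V ≤ U) (h : a ∈ V) (s : sec P (op i) (lev Z V (op i))),
      ((gm P V h).app i).hom s = t :=
  let ⟨V, hV, h, s, e⟩ := ((pushP P).obj i).exists_le_germ_eq t ha
  ⟨V, hV, h, s, e⟩

theorem gm_eq_zero (P : Pre Z) {a : Z.obj B0} {U : Opens (Z.obj B0)} (ha : a ∈ U) (i : AΔ)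
    (s : sec P (op i) (lev Z U (op i))) (h : ((gm P U ha).app i).hom s = 0) :
    ∃ (V : Opens (Z.obj B0)) (hV : V ≤ U), a ∈ V ∧ mv P (𝟙 (op i)) (le_id (lev_mono hV (op i))) s = 0 := by
  obtain ⟨V, hV, iU, iV, e⟩ := ((pushP P).obj i).germ_eq a ha ha s 0 (h.trans (map_zero _).symm)
  refine ⟨V, leOfHom iU, hV, ?_⟩
  exact e.trans (map_zero _)

variable (K : CochainComplex (Sh Z) ℤ) (d : ℤ)

/-- The bicomplex of germs. -/
abbrev gBi (a : Z.obj B0) : Bi.{u} :=
  Bi.ofAug (fun n => stkP (K.X (d + n)).obj a) (fun n => stkPMap (K.d (d + n) (d + (n + 1 : ℕ))).hom a)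
    (fun n => by
      refine NatTrans.ext (funext fun i => ConcreteCategory.hom_ext _ _ fun t => ?_)
      obtain ⟨V, -, h, s, rfl⟩ := gm_exists (K.X (d + n)).obj (U := ⊤) (a := a) trivial i t
      show ((stkPMap (K.d (d + (n + 1 : ℕ)) (d + (n + 1 + 1 : ℕ))).hom a).app i).hom
        (((stkPMap (K.d (d + n) (d + (n + 1 : ℕ))).hom a).app i).hom _) = 0
      rw [gm_natural, gm_natural]
      refine Eq.trans (congrArg _ (ConcreteCategory.congr_hom (congrArg (fun q => q.hom.app (op (pl (op i) (lev Z V (op i)))))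
        (K.d_comp_d (d + n) (d + (n + 1 : ℕ)) (d + (n + 1 + 1 : ℕ)))) s)) ?_
      exact map_zero _)

/-- The germs of the Cech bicomplexes. -/
def cechGerm (hfl : ∀ n, FlFib (K.X n).obj) (a : Z.obj B0) :
    (biShCech K d hfl).Germ (fun U => a ∈ U) (gBi K d a) where
  π U hU p n := ((gm (K.X (d + n)).obj U hU).app (idx p)).hom
  π_h U hU p n x := cd_natural (gm (K.X (d + n)).obj U hU) p x
  π_v U hU p n x := (gm_natural (K.d (d + n) (d + (n + 1 : ℕ))).hom U hU (idx p) x).symm
  π_res {V U} h hV hU p n x := gm_res (K.X (d + n)).obj h hV (idx p) x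
  surj U hU p n t := gm_exists (K.X (d + n)).obj hU (idx p) t
  kill U hU p n x hx := gm_eq_zero (K.X (d + n)).obj hU (idx p) x hx

end cech

section rel

variable {𝒮 : Type} [Category.{0} 𝒮] {Y : 𝒮 ⥤ TopCat.{u}} {i j : 𝒮} (e : i ⟶ j) (F : Opens (Y.obj i))

/-- The relative preimage. -/
abbrev pre (W : Opens (Y.obj j)) : Opens (Y.obj i) := (Opens.map (Y.map e)).obj W ⊓ F

theorem pre_maps (W : Opens (Y.obj j)) : ∀ x ∈ pre e F W, Y.map e x ∈ W := fun x hx => hx.1

theorem pre_mono {V W : Opens (Y.obj j)} (h : V ≤ W) : pre e F V ≤ pre e F W := fun x hx => ⟨h hx.1, hx.2⟩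

variable (K : CochainComplex (Sh Y) ℤ)

/-- Pull back of sections to the relative preimage. -/
def relψ (W : Opens (Y.obj j)) : (secC Y j W).obj K ⟶ (secC Y i (pre e F W)).obj K where
  f n := AddCommGrpCat.ofHom (mv (K.X n).obj e (pre_maps e F W))
  comm' n m _ := ConcreteCategory.hom_ext _ _ fun s => mv_natural (K.d n m).hom e (pre_maps e F W) s

variable (d : ℤ)

/-- Cones of pull back of sections, as a family. -/
def biShRel (hK : ∀ n, FlFib (K.X n).obj) : BiSh.{u, u} (Y.obj j) where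
  B W := Bi.cone (relψ e F K W) d
  res {V U} h p m := match p with
    | 0 => mv (K.X (d + m)).obj (𝟙 j) (le_id h)
    | 1 => mv (K.X (d + m)).obj (𝟙 i) (le_id (pre_mono e F h))
    | _ + 2 => 0
  res_h {V U} h p m x := match p, x with
    | 0, x => (mv_mv _ _ _ e (Category.id_comp _) (fun (y : Y.obj i) (hy : y ∈ pre e F V) => h hy.1) x).trans
        (mv_mv _ _ _ e (Category.comp_id _) (fun (y : Y.obj i) (hy : y ∈ pre e F V) => h hy.1) x).symm
    | 1, _ => rfl
    | _ + 2, _ => rfl
  res_v {V U} h p m x := match p, x with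
    | 0, x => (mv_natural (K.d (d + m) (d + (m + 1 : ℕ))).hom (𝟙 j) (le_id h) x).symm
    | 1, x => (mv_natural (K.d (d + m) (d + (m + 1 : ℕ))).hom (𝟙 i) (le_id (pre_mono e F h)) x).symm
    | _ + 2, _ => rfl
  res_res {W V U} h h' p m x := match p, x with
    | 0, x => mv_mv _ _ _ (𝟙 j) (Category.comp_id _) (le_id (h.trans h')) x
    | 1, x => mv_mv _ _ _ (𝟙 i) (Category.comp_id _) (le_id (pre_mono e F (h.trans h'))) x
    | _ + 2, _ => rfl
  res_self U p m x := match p, x with
    | 0, x => mv_self _ _ rfl _ x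
    | 1, x => mv_self _ _ rfl _ x
    | _ + 2, _ => rfl
  glue p m _ U W hU hW s hs := match p, s, hs with
    | 0, s, hs => glue_sec (K.X (d + m)) U W hU hW s hs
    | 1, s, hs => by
      refine glue_sec (K.X (d + m)) (fun k => pre e F (U k)) (pre e F W) (fun k => pre_mono e F (hU k))
        (fun x hx => Opens.mem_iSup.2 ?_) s (fun k l => ?_)
      · obtain ⟨k, hk⟩ := Opens.mem_iSup.1 (hW hx.1)
        exact ⟨k, hk, hx.2⟩
      · have hle : pre e F (U k) ⊓ pre e F (U l) ≤ pre e F (U k ⊓ U l) := fun x hx => ⟨⟨hx.1.1, hx.2.1⟩, hx.1.2⟩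
        refine (mv_mv _ (le_id hle) (le_id (pre_mono e F inf_le_left)) (𝟙 i) (Category.comp_id _)
          (le_id inf_le_left) (s k)).symm.trans ?_
        refine (congrArg (mv (K.X (d + m)).obj (𝟙 i) (le_id hle)) (hs k l)).trans ?_
        exact mv_mv _ (le_id hle) (le_id (pre_mono e F inf_le_right)) (𝟙 i) (Category.comp_id _)
          (le_id inf_le_right) (s l)
    | _ + 2, _, _ => ⟨PUnit.unit, fun _ => rfl, fun _ _ => rfl⟩
  flasque {V U} h p m := match p with
    | 0 => hK _ j h
    | 1 => hK _ i (pre_mono e F h)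
    | _ + 2 => fun _ => ⟨PUnit.unit, rfl⟩

variable {K}

/-- The cone of pull back of sections is exact near a point where it is cartesian and an embedding. -/
theorem biShRel_exactOn_point (hK : ∀ n, FlFib (K.X n).obj) [K.IsStrictlyGE d] (hc : Cart K) {z' : Y.obj i}
    (hz' : z' ∈ F) {z : Y.obj j} (hz : Y.map e z' = z)
    (hO : ∀ O : Opens (Y.obj i), z' ∈ O → ∃ W : Opens (Y.obj j), z ∈ W ∧ pre e F W ≤ O) :
    (biShRel e F K d hK).ExactOn fun W => z ∈ W := by
  let φ := (NatTrans.mapHomologicalComplex (trans e z' z hz) (ComplexShape.up ℤ)).app K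
  have hm' : ∀ {W : Opens (Y.obj j)}, z ∈ W → z' ∈ pre e F W := fun h => ⟨by
    show Y.map e z' ∈ (_ : Opens (Y.obj j))
    rw [hz]; exact h, hz'⟩
  refine BiSh.Germ.exactOn (G := Bi.cone φ d) ?_ ((Bi.cone_exact_iff φ d).2 (hc e z' z hz))
  exact
  { π := fun W hW r m => match r with
      | 0 => germ (K.X (d + m)).obj W z hW
      | 1 => germ (K.X (d + m)).obj (pre e F W) z' (hm' hW)
      | _ + 2 => 0
    π_h := fun W hW r m x => match r, x with
      | 0, x => (trn_germ (K.X (d + m)).obj e z' z hz hW (hm' hW) (pre_maps e F W) x).symm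
      | 1, _ => rfl
      | _ + 2, _ => rfl
    π_v := fun W hW r m x => match r, x with
      | 0, x => (stk_map_germ (K.d (d + m) (d + (m + 1 : ℕ))) hW x).symm
      | 1, x => (stk_map_germ (K.d (d + m) (d + (m + 1 : ℕ))) (hm' hW) x).symm
      | _ + 2, _ => rfl
    π_res := fun {V U} h hV hU r m x => match r, x with
      | 0, x => germ_res _ h z hV _ rfl _ x
      | 1, x => germ_res _ (pre_mono e F h) z' (hm' hV) _ rfl _ x
      | _ + 2, _ => rfl
    surj := fun U hU r m t => match r, t with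
      | 0, t =>
        let ⟨V, hV, h, s, es⟩ := exists_germ (K.X (d + m)).obj t hU
        ⟨V, hV, h, s, es⟩
      | 1, t => by
        obtain ⟨O, hO', hzO, s, es⟩ := exists_germ (K.X (d + m)).obj t (hm' hU)
        obtain ⟨W, hzW, hW⟩ := hO O hzO
        have hle : pre e F (W ⊓ U) ≤ O := (pre_mono e F inf_le_left).trans hW
        exact ⟨W ⊓ U, inf_le_right, ⟨hzW, hU⟩, mv _ (𝟙 i) (le_id hle) s,
          (germ_res _ hle z' (hm' ⟨hzW, hU⟩) _ rfl _ s).trans es⟩
      | _ + 2, _ => ⟨U, le_rfl, hU, PUnit.unit, rfl⟩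
    kill := fun U hU r m x hx => match r, x, hx with
      | 0, x, hx => (germ_eq_iff _ hU x).1 hx
      | 1, x, hx => by
        obtain ⟨O, hO', hzO, es⟩ := (germ_eq_iff _ (hm' hU) x).1 hx
        obtain ⟨W, hzW, hW⟩ := hO O hzO
        have hle : pre e F (W ⊓ U) ≤ O := (pre_mono e F inf_le_left).trans hW
        refine ⟨W ⊓ U, inf_le_right, ⟨hzW, hU⟩, ?_⟩
        refine (mv_mv _ (le_id hle) (le_id hO') (𝟙 i) (Category.comp_id _)
          (le_id (pre_mono e F inf_le_right)) x).symm.trans ?_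
        rw [es, map_zero]
      | _ + 2, _, _ => ⟨U, le_rfl, hU, Subsingleton.elim (α := PUnit) _ _⟩ }

end rel

end

end Groth.Agent.CohDesc82
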