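import Groth.Agent.CohDesc82.Nerve

/-!
# Maps with a section are of cohomological descent
-/

universe u

set_option autoImplicit false
set_option linter.unusedVariables false
set_option backward.isDefEq.respectTransparency false
set_option backward.isDefEq.respectTransparency.types false

open CategoryTheory CategoryTheory.Limits Opposite TopologicalSpace Simplicial

namespace Groth.Agent.CohDesc82

noncomputable section

/-- Pointed finite sets, through their unpointed part. -/
structure PF : Type where
  /-- the number of points other than the base point -/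
  n : ℕ

instance : Category.{0} PF where
  Hom a b := Fin a.n → Option (Fin b.n)
  id a := some
  comp f g k := (f k).bind g
  id_comp f := rfl
  comp_id f := funext fun k => by show (f k).bind some = f k; cases f k <;> rfl
  assoc f g h := funext fun k => Option.bind_assoc (f k) g h

/-- The vertices. -/
def ord : AΔ ⥤ PF where
  obj
    | .star => ⟨0⟩
    | .of x => ⟨x.len + 1⟩
  map {i j} f := match i, j, f with
    | .of x, .of y, f => fun k => some ((WithInitial.down f).toOrderHom k)
    | .star, _, _ => fun k => Fin.elim0 k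
  map_id i := by
    cases i with
    | star => exact funext fun k => Fin.elim0 k
    | of x => rfl
  map_comp {i j l} f g := by
    cases i with
    | star => exact funext fun k => Fin.elim0 k
    | of x =>
      cases j with
      | star => exact PEmpty.elim f
      | of y =>
        cases l with
        | star => exact PEmpty.elim g
        | of z => rfl

/-- The inclusion of the augmented simplex category. -/
abbrev Ψ : AΔᵒᵖ ⥤ PFᵒᵖ := ord.op

/-- Zero points is final. -/
def hzero : IsTerminal (op (⟨0⟩ : PF)) :=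
  IsTerminal.ofUniqueHom (fun a => Quiver.Hom.op (show (⟨0⟩ : PF) ⟶ a.unop from fun k => Fin.elim0 k))
    fun a m => Quiver.Hom.unop_inj (funext fun k => Fin.elim0 k)

variable {X S : TopCat.{u}} (u : X ⟶ S) (s : S ⟶ X) (hs : s ≫ u = 𝟙 S)

/-- The point attached to an element of a pointed set. -/
def pt (n : ℕ) (o : Option (Fin n)) : widePullback S (fun _ : Fin n => X) (fun _ => u) ⟶ X :=
  o.elim (WidePullback.base (fun _ : Fin n => u) ≫ s) (fun j => WidePullback.π (fun _ : Fin n => u) j)

include hs in
theorem pt_arrow (n : ℕ) (o : Option (Fin n)) : pt u s n o ≫ u = WidePullback.base (fun _ : Fin n => u) := by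
  cases o with
  | none => exact (Category.assoc _ _ _).trans ((congrArg (_ ≫ ·) hs).trans (Category.comp_id _))
  | some j => exact WidePullback.π_arrow _ j

/-- The fibre powers, with the section at the base point. -/
abbrev pw : PFᵒᵖ ⥤ TopCat.{u} where
  obj a := widePullback S (fun _ : Fin a.unop.n => X) (fun _ => u)
  map {a b} φ := WidePullback.lift (WidePullback.base _)
    (fun k => pt u s a.unop.n (φ.unop k)) (fun k => pt_arrow u s hs a.unop.n (φ.unop k))
  map_id a := WidePullback.hom_ext _ _ _
    (fun k => (WidePullback.lift_π _ _ _ _ _).trans (Category.id_comp _).symm)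
    ((WidePullback.lift_base _ _ _ _).trans (Category.id_comp _).symm)
  map_comp {a b c} φ ψ := WidePullback.hom_ext _ _ _
    (fun k => by
      rw [Category.assoc, WidePullback.lift_π, WidePullback.lift_π]
      show pt u s _ ((ψ.unop k).bind φ.unop) = _
      cases ψ.unop k with
      | none => exact (WidePullback.lift_base_assoc _ _ _ _ _).symm
      | some j => exact (WidePullback.lift_π (fun _ : Fin b.unop.n => u) (WidePullback.base _)
          (fun k => pt u s a.unop.n (φ.unop k)) (fun k => pt_arrow u s hs a.unop.n (φ.unop k)) j).symm)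
    (by rw [Category.assoc, WidePullback.lift_base, WidePullback.lift_base, WidePullback.lift_base])

/-- The components of the comparison with the nerve. -/
def pwComp : ∀ i : AΔᵒᵖ, (Ψ ⋙ pw u s hs).obj i ≅ (nv u).obj i
  | ⟨.star⟩ =>
    { hom := WidePullback.base (fun _ : Fin 0 => u)
      inv := WidePullback.lift (𝟙 S) (fun k => Fin.elim0 k) (fun k => Fin.elim0 k)
      hom_inv_id := WidePullback.hom_ext _ _ _ (fun k => Fin.elim0 k)
        ((Category.assoc _ _ _).trans ((congrArg (_ ≫ ·) (WidePullback.lift_base _ _ _ _)).trans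
          ((Category.comp_id _).trans (Category.id_comp _).symm)))
      inv_hom_id := WidePullback.lift_base _ _ _ _ }
  | ⟨.of _⟩ => Iso.refl _

/-- The diagram extends the nerve. -/
def pwIso : Ψ ⋙ pw u s hs ≅ nv u :=
  NatIso.ofComponents (pwComp u s hs) fun {i j} φ => by
    obtain ⟨i⟩ := i
    obtain ⟨j⟩ := j
    obtain ⟨φ⟩ := φ
    cases j with
    | star =>
      have hb : (pw u s hs).map (Ψ.map (Quiver.Hom.op φ)) ≫ WidePullback.base _ = WidePullback.base _ :=
        WidePullback.lift_base _ _ _ _
      refine hb.trans ?_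
      cases i with
      | star =>
        refine (Category.comp_id _).symm.trans (congrArg (_ ≫ ·) ?_)
        exact ((congrArg (nv u).map (hbot.hom_ext _ (𝟙 _))).trans ((nv u).map_id _)).symm
      | of p =>
        refine Eq.trans ?_ (Category.id_comp _).symm
        exact congrArg (nv u).map (hbot.hom_ext (hbot.from _) (Quiver.Hom.op φ))
    | of q =>
      cases i with
      | star => exact PEmpty.elim φ
      | of p =>
        refine (Category.comp_id _).trans (Eq.trans ?_ (Category.id_comp _).symm)
        obtain ⟨q⟩ := q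
        obtain ⟨p⟩ := p
        exact WidePullback.hom_ext _ _ _
          (fun k => (WidePullback.lift_π _ _ _ _ _).trans (nv_map_π u (WithInitial.down φ) k).symm)
          ((WidePullback.lift_base _ _ _ _).trans (nv_aug u (Quiver.Hom.op φ)).symm)

/-- Prepending the point of the section. -/
def cN : ∀ m : ℕ, ord.obj (idx (m + 1)) ⟶ ord.obj (idx m)
  | 0 => fun _ => none
  | _ + 1 => Fin.cases none some

theorem fromStar_cN : ord.map (fromStar (WithInitial.of ⦋0⦌)) ≫ cN 0 = 𝟙 _ := funext fun k => Fin.elim0 k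

theorem δ_zero_cN (p : ℕ) : ord.map (WithInitial.incl.map (SimplexCategory.δ (0 : Fin (p + 2)))) ≫ cN (p + 1) = 𝟙 _ := by
  refine funext fun k => ?_
  show (some (Fin.succAbove 0 k)).bind _ = some k
  rw [Fin.zero_succAbove]
  rfl

theorem δ_one_cN : ord.map (WithInitial.incl.map (SimplexCategory.δ (1 : Fin 2))) ≫ cN 1 =
    cN 0 ≫ ord.map (fromStar (WithInitial.of ⦋0⦌)) := by
  refine funext fun (k : Fin 1) => ?_
  obtain rfl : k = 0 := Subsingleton.elim (α := Fin 1) _ _
  rfl

theorem δ_succ_cN (p : ℕ) (k : Fin (p + 2)) :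
    ord.map (WithInitial.incl.map (SimplexCategory.δ k.succ)) ≫ cN (p + 2) =
      cN (p + 1) ≫ ord.map (WithInitial.incl.map (SimplexCategory.δ k)) := by
  refine funext fun j => ?_
  show (some (Fin.succAbove k.succ j)).bind (Fin.cases none some) = (Fin.cases none some j : Option _).bind _
  induction j using Fin.cases with
  | zero => rw [Fin.succ_succAbove_zero]; rfl
  | succ j => rw [Fin.succ_succAbove_succ]; rfl

/-- A map with a section satisfies the criterion. -/
theorem cd_of_section (u : X ⟶ S) (s : S ⟶ X) (hs : s ≫ u = 𝟙 S) : CD u := by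
  refine crit_of_iso (pwIso u s hs) (crit_restr Ψ (pw u s hs) hzero fun K d _ hfl hK U => ?_)
  refine Bi.exact_of_rows _ fun n => ?_
  let W := pw u s hs
  let P := (K.X (d + n)).obj
  let V : ℕ → PFᵒᵖ := fun m => Ψ.obj (op (idx m))
  let Lv : ∀ m, Opens (W.obj (V m)) := fun m => lev (Ψ ⋙ W) U (op (idx m))
  have hc : ∀ m, ∀ x ∈ Lv m, W.map (cN m).op x ∈ Lv (m + 1) := fun m x hx => by
    show W.map (Ψ.map (hbot.from (op (idx (m + 1))))) (W.map (cN m).op x) ∈ U
    refine Eq.mpr (congrArg (· ∈ U) ((ConcreteCategory.comp_apply _ _ x).symm.trans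
      (ConcreteCategory.congr_hom ((W.map_comp _ _).symm.trans (congrArg W.map (hzero.hom_ext
        ((cN m).op ≫ Ψ.map (hbot.from (op (idx (m + 1))))) (Ψ.map (hbot.from (op (idx m))))))) x))) hx
  let C := csec (Ψ ⋙ W) (((restrΦ Ψ W).obj (K.X (d + n))).obj) U
  let σ : ∀ m, C.obj (idx (m + 1)) →+ C.obj (idx m) := fun m => mv P (cN m).op (hc m)
  have hmap : ∀ {i j : AΔ} (f : i ⟶ j) (x : C.obj i),
      (C.map f).hom x = mv P (Ψ.map f.op) (mem_lev (Ψ ⋙ W) U f.op) x := fun f x => mv_restrΦ P f.op _ x
  have h0 : ∀ x : C.obj (idx 0), σ 0 (cd C 0 x) = x := fun x => by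
    rw [cd_zero, hmap]
    refine (mv_mv P (hc 0) (mem_lev (Ψ ⋙ W) U (fromStar _).op) (𝟙 _) (congrArg Quiver.Hom.op fromStar_cN)
      (le_id le_rfl) x).trans ?_
    exact mv_self P _ rfl _ x
  have h1 : ∀ p (x : C.obj (idx (p + 1))), σ (p + 1) (cd C (p + 1) x) + cd C p (σ p x) = x := fun p x => by
    rw [cd_succ, map_sum, Fin.sum_univ_succ]
    have e0 : σ (p + 1) ((-1 : ℤ) ^ ((0 : Fin (p + 2)) : ℕ) •
        (C.map (WithInitial.incl.map (SimplexCategory.δ (0 : Fin (p + 2))))).hom x) = x := by
      rw [Fin.val_zero, pow_zero, one_smul, hmap]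
      refine (mv_mv P (hc (p + 1)) (mem_lev (Ψ ⋙ W) U _) (𝟙 _) (congrArg Quiver.Hom.op (δ_zero_cN p))
        (le_id le_rfl) x).trans ?_
      exact mv_self P _ rfl _ x
    refine (congrArg₂ (· + ·) (congrArg (· + _) e0) rfl).trans ((add_assoc _ _ _).trans (add_eq_left.2 ?_))
    rcases p with _ | p
    · rw [Fin.sum_univ_one, cd_zero, hmap, hmap]
      simp only [Fin.val_succ, Fin.val_zero, zero_add, pow_one, neg_smul, one_smul, map_neg]
      rw [neg_add_eq_zero]
      have e : (Ψ.map (fromStar (WithInitial.of ⦋0⦌)).op) ≫ (cN 0).op =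
          (cN 1).op ≫ Ψ.map (WithInitial.incl.map (SimplexCategory.δ (1 : Fin 2))).op :=
        congrArg Quiver.Hom.op δ_one_cN.symm
      refine (mv_mv P (hc 1) (mem_lev (Ψ ⋙ W) U _) _ rfl (fun z hz => by
        rw [W.map_comp]; exact mem_lev (Ψ ⋙ W) U _ _ (hc 1 z hz)) x).trans ?_
      exact (mv_mv P (mem_lev (Ψ ⋙ W) U (fromStar (WithInitial.of ⦋0⦌)).op) (hc 0) _ e _ x).symm
    · rw [cd_succ, ← Finset.sum_add_distrib]
      refine Finset.sum_eq_zero fun k _ => ?_
      rw [Fin.val_succ, pow_succ, mul_neg, mul_one, map_zsmul, hmap, hmap, neg_smul, neg_add_eq_zero]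
      refine congrArg _ ?_
      have e : (Ψ.map (WithInitial.incl.map (SimplexCategory.δ k)).op) ≫ (cN (p + 1)).op =
          (cN (p + 2)).op ≫ Ψ.map (WithInitial.incl.map (SimplexCategory.δ k.succ)).op :=
        congrArg Quiver.Hom.op (δ_succ_cN p k).symm
      refine (mv_mv P (hc (p + 2)) (mem_lev (Ψ ⋙ W) U _) _ rfl (fun z hz => by
        rw [W.map_comp]; exact mem_lev (Ψ ⋙ W) U _ _ (hc (p + 2) z hz)) x).trans ?_
      exact (mv_mv P (mem_lev (Ψ ⋙ W) U (WithInitial.incl.map (SimplexCategory.δ k)).op) (hc (p + 1)) _ e _ x).symm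
  refine ⟨fun x hx => ?_, fun p x hx => ⟨σ p x, ?_⟩⟩
  · have hx' : cd C 0 x = 0 := hx
    exact (h0 x).symm.trans ((congrArg (σ 0) hx').trans (map_zero _))
  · have hx' : cd C (p + 1) x = 0 := hx
    have := h1 p x
    rw [hx', map_zero, zero_add] at this
    exact this

theorem ucd_of_section (u : X ⟶ S) (s : S ⟶ X) (hs : s ≫ u = 𝟙 S) : UCD u := fun T h =>
  cd_of_section (pullback.snd u h) (pullback.lift (h ≫ s) (𝟙 T) (by
    rw [Category.assoc, hs, Category.comp_id, Category.id_comp])) (pullback.lift_snd _ _ _)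

end

end Groth.Agent.CohDesc82
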