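import Groth.Prelude.Def_FibDesc
import Groth.Agent.FibSiteLib.Total
import Groth.Agent.SiteBase.GodementCx
import Mathlib.CategoryTheory.Abelian.GrothendieckCategory.EnoughInjectives
import Mathlib.CategoryTheory.Functor.ReflectsIso.Jointly

/-!
# Abelian sheaves on the total site of a diagram of spaces

For a diagram `Y : 𝒮 ⥤ TopCat` we consider the total site of the open-set sites of the `Y i`, sections,
restriction along morphisms, stalks at the points of the `Y i` and the transition maps between stalks.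
-/

universe w v u

set_option autoImplicit false
set_option backward.isDefEq.respectTransparency false
set_option backward.isDefEq.respectTransparency.types false

open CategoryTheory CategoryTheory.Limits Opposite Pseudofunctor.CoGrothendieck TopologicalSpace

namespace Groth.Agent.CohDesc82

noncomputable section

variable {𝒮 : Type w} [Category.{v} 𝒮]

/-- The fibred site of opens of a diagram of spaces. -/
noncomputable abbrev osF (Y : 𝒮 ⥤ TopCat.{u}) : Pseudofunctor (LocallyDiscrete 𝒮ᵒᵖ) Cat.{u, u} :=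
  (Y.op ⋙ FibDesc.opensCat).toPseudofunctor'

/-- Its topologies. -/
abbrev osTop (Y : 𝒮 ⥤ TopCat.{u}) : FibSite.Topologies (osF Y) :=
  fun i => Opens.grothendieckTopology (Y.obj i)

/-- The total topology. -/
abbrev osTot (Y : 𝒮 ⥤ TopCat.{u}) : GrothendieckTopology (∫ᶜ (osF Y)) :=
  FibSite.totalTopology (osF Y) (osTop Y)

theorem osPre (Y : 𝒮 ⥤ TopCat.{u}) : FibSite.IsPreFibSite (osF Y) (osTop Y) := fun R S f => by
  show (Opens.map (Y.map f)).IsContinuous _ _
  infer_instance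

/-- Presheaves on the total category. -/
abbrev Pre (Y : 𝒮 ⥤ TopCat.{u}) := (∫ᶜ (osF Y))ᵒᵖ ⥤ AddCommGrpCat.{u}

/-- Abelian sheaves on the total site. -/
abbrev Sh (Y : 𝒮 ⥤ TopCat.{u}) := Sheaf (osTot Y) AddCommGrpCat.{u}

variable {Y : 𝒮 ⥤ TopCat.{u}}

/-- The object of the total category. -/
abbrev pl (i : 𝒮) (V : Opens (Y.obj i)) : ∫ᶜ (osF Y) := ⟨i, V⟩

/-- The morphism of the total category over `f`. -/
def hm {i j : 𝒮} (f : i ⟶ j) {V : Opens (Y.obj i)} {W : Opens (Y.obj j)}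
    (h : ∀ x ∈ V, Y.map f x ∈ W) : pl i V ⟶ pl j W :=
  ⟨f, @homOfLE (Opens (Y.obj i)) _ V ((Opens.map (Y.map f)).obj W) h⟩

theorem hom_ext' {a b : ∫ᶜ (osF Y)} (φ ψ : a ⟶ b) (h : φ.base = ψ.base) : φ = ψ := by
  rcases φ with ⟨p, q⟩; rcases ψ with ⟨p', q'⟩
  dsimp at h; subst h
  congr 1
  exact @Subsingleton.elim
    ((show Opens (Y.obj a.base) from a.fiber) ⟶ ((Opens.map (Y.map p)).obj b.fiber)) _ q q'

theorem mem_of_hom {i j : 𝒮} {V : Opens (Y.obj i)} {W : Opens (Y.obj j)} (φ : pl i V ⟶ pl j W) :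
    ∀ x ∈ V, Y.map φ.base x ∈ W := fun x hx =>
  @leOfHom (Opens (Y.obj i)) _ V ((Opens.map (Y.map φ.base)).obj W) φ.fiber x hx

/-- Sections. -/
abbrev sec (P : Pre Y) (i : 𝒮) (V : Opens (Y.obj i)) : AddCommGrpCat.{u} := P.obj (op (pl i V))

/-- The restriction of sections along `f`. -/
def mv (P : Pre Y) {i j : 𝒮} (f : i ⟶ j) {V : Opens (Y.obj i)} {W : Opens (Y.obj j)}
    (h : ∀ x ∈ V, Y.map f x ∈ W) : sec P j W →+ sec P i V :=
  (P.map (hm f h).op).hom

theorem mv_mv (P : Pre Y) {i j k : 𝒮} {f : i ⟶ j} {g : j ⟶ k} {V : Opens (Y.obj i)} {W : Opens (Y.obj j)}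
    {Z : Opens (Y.obj k)} (h : ∀ x ∈ V, Y.map f x ∈ W) (h' : ∀ x ∈ W, Y.map g x ∈ Z)
    (e : i ⟶ k) (he : f ≫ g = e) (h'' : ∀ x ∈ V, Y.map e x ∈ Z) (s : sec P k Z) :
    mv P f h (mv P g h' s) = mv P e h'' s := by
  simp only [mv]
  rw [← hom_ext' (hm f h ≫ hm g h') (hm e h'') he, op_comp, P.map_comp]
  rfl

theorem mv_self (P : Pre Y) {i : 𝒮} {V : Opens (Y.obj i)} (f : i ⟶ i) (hf : f = 𝟙 i)
    (h : ∀ x ∈ V, Y.map f x ∈ V) (s : sec P i V) : mv P f h s = s := by
  simp only [mv]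
  rw [hom_ext' (hm f h) (𝟙 (pl i V)) hf, op_id, P.map_id]
  rfl

theorem mv_congr (P : Pre Y) {i j : 𝒮} {f g : i ⟶ j} (e : f = g) {V : Opens (Y.obj i)} {W : Opens (Y.obj j)}
    (h : ∀ x ∈ V, Y.map f x ∈ W) (s : sec P j W) :
    mv P f h s = mv P g (e ▸ h) s := by subst e; rfl

theorem mv_natural {P Q : Pre Y} (φ : P ⟶ Q) {i j : 𝒮} (f : i ⟶ j) {V : Opens (Y.obj i)}
    {W : Opens (Y.obj j)} (h : ∀ x ∈ V, Y.map f x ∈ W) (s : sec P j W) :
    (φ.app (op (pl i V))).hom (mv P f h s) = mv Q f h ((φ.app (op (pl j W))).hom s) :=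
  ConcreteCategory.congr_hom (φ.naturality (hm f h).op) s

theorem le_id {i : 𝒮} {V U : Opens (Y.obj i)} (h : V ≤ U) : ∀ x ∈ V, Y.map (𝟙 i) x ∈ U := fun x hx => by
  rw [Y.map_id]; exact h hx

instance instContι (i : 𝒮) : (ι (osF Y) i).IsContinuous (osTop Y i) (osTot Y) :=
  FibSiteLib.isContinuous_ι (osPre Y) i

instance instCocontι (i : 𝒮) : (ι (osF Y) i).IsCocontinuous (osTop Y i) (osTot Y) :=
  FibSiteLib.isCocontinuous_ι (osPre Y) i

theorem isSheaf_iff (P : Pre Y) :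
    Presheaf.IsSheaf (osTot Y) P ↔ ∀ i : 𝒮, TopCat.Presheaf.IsSheaf (X := Y.obj i) ((ι (osF Y) i).op ⋙ P) :=
  FibSiteLib.isSheaf_totalTopology_iff (osPre Y) P

/-- The presheaf on one of the spaces. -/
abbrev fibP (P : Pre Y) (i : 𝒮) : TopCat.Presheaf AddCommGrpCat.{u} (Y.obj i) := (ι (osF Y) i).op ⋙ P

theorem fibP_map (P : Pre Y) {i : 𝒮} {V U : Opens (Y.obj i)} (h : V ≤ U) (s : sec P i U) :
    ((fibP P i).map (homOfLE h).op).hom s = mv P (𝟙 i) (le_id h) s := by
  show (P.map ((ι (osF Y) i).map (@homOfLE (Opens (Y.obj i)) _ _ _ h)).op).hom s = _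
  simp only [mv]
  rw [hom_ext' ((ι (osF Y) i).map (@homOfLE (Opens (Y.obj i)) _ _ _ h)) (hm (𝟙 i) (le_id h)) rfl]
  rfl

/-- The germ of a section. -/
noncomputable def germ (P : Pre Y) {i : 𝒮} (V : Opens (Y.obj i)) (x : Y.obj i) (hx : x ∈ V) :
    sec P i V →+ (fibP P i).stalk x :=
  ((fibP P i).germ V x hx).hom

theorem germ_res (P : Pre Y) {i : 𝒮} {V U : Opens (Y.obj i)} (h : V ≤ U) (x : Y.obj i) (hx : x ∈ V)
    (f : i ⟶ i) (hf : f = 𝟙 i) (h' : ∀ x ∈ V, Y.map f x ∈ U) (s : sec P i U) :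
    germ P V x hx (mv P f h' s) = germ P U x (h hx) s := by
  subst hf
  rw [← fibP_map P h]
  exact TopCat.Presheaf.germ_res_apply (fibP P i) (homOfLE h) x hx s

theorem exists_germ (P : Pre Y) {i : 𝒮} {x : Y.obj i} (t : (fibP P i).stalk x) {U : Opens (Y.obj i)}
    (hx : x ∈ U) : ∃ (V : Opens (Y.obj i)) (_ : V ≤ U) (h : x ∈ V) (s : sec P i V), germ P V x h s = t :=
  let ⟨V, hV, h, s, e⟩ := (fibP P i).exists_le_germ_eq t hx
  ⟨V, hV, h, s, e⟩

theorem germ_eq_iff (P : Pre Y) {i : 𝒮} {x : Y.obj i} {U : Opens (Y.obj i)} (hx : x ∈ U) (s : sec P i U) :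
    germ P U x hx s = 0 ↔ ∃ (V : Opens (Y.obj i)) (h : V ≤ U), x ∈ V ∧ mv P (𝟙 i) (le_id h) s = 0 := by
  constructor
  · intro h
    obtain ⟨W, hW, iU, iV, e⟩ := (fibP P i).germ_eq x hx hx s 0 (h.trans (map_zero _).symm)
    refine ⟨W, iU.le, hW, ?_⟩
    rw [← fibP_map P iU.le]
    exact e.trans (map_zero _)
  · rintro ⟨V, h, hV, e⟩
    rw [← germ_res P h x hV (𝟙 i) rfl (le_id h), e, map_zero]

/-- The transition map on stalks along `f`. -/
noncomputable def trn (P : Pre Y) {i j : 𝒮} (f : i ⟶ j) (x : Y.obj i) (y : Y.obj j) (h : Y.map f x = y) :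
    (fibP P j).stalk y ⟶ (fibP P i).stalk x :=
  colimit.desc ((OpenNhds.inclusion y).op ⋙ fibP P j)
    { pt := (fibP P i).stalk x
      ι :=
        { app := fun W => P.map (hm f (V := (Opens.map (Y.map f)).obj W.unop.1) (W := W.unop.1)
              fun _ hz => hz).op ≫
            (fibP P i).germ ((Opens.map (Y.map f)).obj W.unop.1) x
              (show Y.map f x ∈ W.unop.1 from h ▸ W.unop.2)
          naturality := fun W W' g => by
            refine ConcreteCategory.hom_ext _ _ fun (s : sec P j W.unop.1) => ?_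
            have hle : W'.unop.1 ≤ W.unop.1 := leOfHom g.unop
            show germ P _ x _ (mv P f _ (((fibP P j).map (homOfLE hle).op).hom s)) =
              germ P _ x _ (mv P f _ s)
            rw [fibP_map P hle, mv_mv P _ _ f (Category.comp_id f) (fun z hz => hle hz),
              ← germ_res P (show (Opens.map (Y.map f)).obj W'.unop.1 ≤ (Opens.map (Y.map f)).obj W.unop.1 from
                fun z hz => hle hz) x (show Y.map f x ∈ W'.unop.1 from h ▸ W'.unop.2) (𝟙 i) rfl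
                (le_id fun z hz => hle hz),
              mv_mv P _ _ f (Category.id_comp f) (fun z hz => hle hz)] } }

theorem trn_germ (P : Pre Y) {i j : 𝒮} (f : i ⟶ j) (x : Y.obj i) (y : Y.obj j) (h : Y.map f x = y)
    {W : Opens (Y.obj j)} (hy : y ∈ W) {V : Opens (Y.obj i)} (hx : x ∈ V) (hV : ∀ z ∈ V, Y.map f z ∈ W)
    (s : sec P j W) : (trn P f x y h).hom (germ P W y hy s) = germ P V x hx (mv P f hV s) := by
  have e : (fibP P j).germ W y hy ≫ trn P f x y h =
      P.map (hm f (V := (Opens.map (Y.map f)).obj W) (W := W) fun _ hz => hz).op ≫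
        (fibP P i).germ ((Opens.map (Y.map f)).obj W) x (show Y.map f x ∈ W from h ▸ hy) := by
    exact colimit.ι_desc _ (op (⟨W, hy⟩ : OpenNhds y))
  refine (ConcreteCategory.congr_hom e s).trans ?_
  show germ P ((Opens.map (Y.map f)).obj W) x _ (mv P f _ s) = _
  rw [← germ_res P (show V ≤ (Opens.map (Y.map f)).obj W from hV) x hx (𝟙 i) rfl (le_id hV),
    mv_mv P _ _ f (Category.id_comp f) hV]

theorem trn_self (P : Pre Y) {i : 𝒮} (f : i ⟶ i) (hf : f = 𝟙 i) (x : Y.obj i) (h : Y.map f x = x) :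
    trn P f x x h = 𝟙 _ := by
  refine ConcreteCategory.hom_ext _ _ fun t => ?_
  obtain ⟨V, -, hx, s, rfl⟩ := exists_germ P t (U := ⊤) trivial
  subst hf
  refine (trn_germ P _ x x h hx hx (le_id le_rfl) s).trans ?_
  exact germ_res P le_rfl x hx _ rfl _ s

theorem trn_trn (P : Pre Y) {i j k : 𝒮} (f : i ⟶ j) (g : j ⟶ k) (x : Y.obj i) (y : Y.obj j) (z : Y.obj k)
    (h : Y.map f x = y) (h' : Y.map g y = z) (e : i ⟶ k) (he : f ≫ g = e) (h'' : Y.map e x = z) :
    trn P g y z h' ≫ trn P f x y h = trn P e x z h'' := by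
  subst he
  refine ConcreteCategory.hom_ext _ _ fun t => ?_
  obtain ⟨W, -, hz, s, rfl⟩ := exists_germ P t (U := ⊤) trivial
  let W' : Opens (Y.obj j) := (Opens.map (Y.map g)).obj W
  let V : Opens (Y.obj i) := (Opens.map (Y.map f)).obj W'
  have hy : y ∈ W' := show Y.map g y ∈ W from h'.symm ▸ hz
  have hx : x ∈ V := show Y.map f x ∈ W' from h.symm ▸ hy
  have hV : ∀ a ∈ V, Y.map (f ≫ g) a ∈ W := fun a ha => by rw [Y.map_comp]; exact ha
  rw [ConcreteCategory.comp_apply]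
  refine (congrArg (trn P f x y h).hom (trn_germ P g y z h' hz hy (fun _ ha => ha) s)).trans ?_
  refine (trn_germ P f x y h hy hx (fun _ ha => ha) _).trans ?_
  rw [mv_mv P _ _ (f ≫ g) rfl hV]
  exact (trn_germ P (f ≫ g) x z h'' hz hx hV s).symm

theorem trn_natural {P Q : Pre Y} (φ : P ⟶ Q) {i j : 𝒮} (f : i ⟶ j) (x : Y.obj i) (y : Y.obj j)
    (h : Y.map f x = y) :
    (TopCat.Presheaf.stalkFunctor AddCommGrpCat.{u} y).map (Functor.whiskerLeft (ι (osF Y) j).op φ) ≫
        trn Q f x y h =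
      trn P f x y h ≫
        (TopCat.Presheaf.stalkFunctor AddCommGrpCat.{u} x).map (Functor.whiskerLeft (ι (osF Y) i).op φ) := by
  refine ConcreteCategory.hom_ext _ _ fun t => ?_
  obtain ⟨W, -, hy, s, rfl⟩ := exists_germ P t (U := ⊤) trivial
  let V : Opens (Y.obj i) := (Opens.map (Y.map f)).obj W
  have hx : x ∈ V := show Y.map f x ∈ W from h.symm ▸ hy
  rw [ConcreteCategory.comp_apply, ConcreteCategory.comp_apply]
  refine (congrArg (trn Q f x y h).hom (TopCat.Presheaf.stalkFunctor_map_germ_apply W y hy (Functor.whiskerLeft (ι (osF Y) j).op φ) s)).trans ?_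
  refine Eq.trans ?_ (congrArg _ (trn_germ P f x y h hy hx (fun _ ha => ha) s).symm)
  refine (trn_germ Q f x y h hy hx (fun _ ha => ha) _).trans ?_
  refine Eq.trans ?_ (TopCat.Presheaf.stalkFunctor_map_germ_apply V x hx _ _).symm
  exact congrArg (germ Q V x hx) (mv_natural φ f (fun _ ha => ha) s).symm

variable (Y) in
/-- Restriction to one of the spaces. -/
noncomputable abbrev restr (i : 𝒮) : Sh Y ⥤ TopCat.Sheaf AddCommGrpCat.{u} (Y.obj i) :=
  FibSite.restr (osF Y) (osTop Y) AddCommGrpCat.{u} i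

variable (Y) in
/-- The stalk at a point of one of the spaces. -/
noncomputable abbrev stk (i : 𝒮) (x : Y.obj i) : Sh Y ⥤ AddCommGrpCat.{u} :=
  restr Y i ⋙ SiteBase.stalkF' x

/-- The transition between stalks, as a natural transformation. -/
noncomputable def trans {i j : 𝒮} (f : i ⟶ j) (x : Y.obj i) (y : Y.obj j) (h : Y.map f x = y) :
    stk Y j y ⟶ stk Y i x where
  app P := trn P.obj f x y h
  naturality _ _ φ := trn_natural φ.hom f x y h

theorem trans_app {i j : 𝒮} (f : i ⟶ j) (x : Y.obj i) (y : Y.obj j) (h : Y.map f x = y) (P : Sh Y) :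
    (trans f x y h).app P = trn P.obj f x y h := rfl

end

end Groth.Agent.CohDesc82
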