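import Groth.Agent.CohDesc82.Good
import Groth.Agent.CohDesc82.Cone
import Groth.Agent.CohDesc82.Local

/-!
# Stalks of sheaves on the total site and quasi-isomorphisms
-/

universe w v u

set_option autoImplicit false
set_option backward.isDefEq.respectTransparency false
set_option backward.isDefEq.respectTransparency.types false

open CategoryTheory CategoryTheory.Limits Opposite Pseudofunctor.CoGrothendieck TopologicalSpace

namespace Groth.Agent.CohDesc82

noncomputable section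

variable {𝒮 : Type w} [Category.{v} 𝒮] {Y : 𝒮 ⥤ TopCat.{u}} [Good Y]

instance isRightAdjoint_restr (i : 𝒮) : (restr Y i).IsRightAdjoint :=
  Good.rightAdjoint i

instance preservesFiniteLimits_restr (i : 𝒮) : PreservesFiniteLimits (restr Y i) :=
  have : PreservesLimitsOfSize.{0, 0} (restr Y i) :=
    (Adjunction.ofIsRightAdjoint (restr Y i)).rightAdjoint_preservesLimits
  PreservesLimitsOfSize.preservesFiniteLimits _

instance preservesFiniteColimits_restr (i : 𝒮) : PreservesFiniteColimits (restr Y i) :=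
  have : PreservesColimitsOfSize.{0, 0} (restr Y i) :=
    (Adjunction.ofIsLeftAdjoint (restr Y i)).leftAdjoint_preservesColimits
  PreservesColimitsOfSize.preservesFiniteColimits _

instance additive_stalkF' (i : 𝒮) (x : Y.obj i) : (SiteBase.stalkF' x).Additive :=
  inferInstanceAs (ClosedEmb.stalkF x).Additive

instance additive_stk (i : 𝒮) (x : Y.obj i) : (stk Y i x).Additive where
  map_add {P Q f g} := by
    show (SiteBase.stalkF' x).map ((restr Y i).map (f + g)) = _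
    rw [(restr Y i).map_add, (SiteBase.stalkF' x).map_add]
    rfl

instance preservesHomology_stk (i : 𝒮) (x : Y.obj i) : (stk Y i x).PreservesHomology :=
  Functor.preservesHomology_of_map_exact _ fun S hS =>
    (TopCat.Sheaf.exact_iff_stalkFunctor_map_exact (S.map (restr Y i))).1 (hS.map (restr Y i)) x

/-- Stalks detect isomorphisms. -/
theorem isIso_of_stk {P Q : Sh Y} (f : P ⟶ Q) (h : ∀ i x, IsIso ((stk Y i x).map f)) : IsIso f := by
  have hi : ∀ i, IsIso ((restr Y i).map f) := fun i =>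
    have : ∀ x, IsIso ((TopCat.Presheaf.stalkFunctor AddCommGrpCat.{u} x).map ((restr Y i).map f).hom) := h i
    TopCat.Presheaf.isIso_of_stalkFunctor_map_iso ((restr Y i).map f)
  have : ∀ a : (∫ᶜ (osF Y))ᵒᵖ, IsIso (f.hom.app a) := fun a => by
    obtain ⟨⟨i, V⟩⟩ := a
    exact inferInstanceAs (IsIso (((sheafToPresheaf _ _).map ((restr Y i).map f)).app (op V)))
  have : IsIso f.hom := NatIso.isIso_of_isIso_app _
  exact @isIso_of_reflects_iso _ _ _ _ _ _ f (sheafToPresheaf _ _) this _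

/-- Stalks of a complex. -/
abbrev stkC (i : 𝒮) (x : Y.obj i) : CochainComplex (Sh Y) ℤ ⥤ CochainComplex AddCommGrpCat.{u} ℤ :=
  (stk Y i x).mapHomologicalComplex _

theorem quasiIso_iff_stk {K L : CochainComplex (Sh Y) ℤ} (φ : K ⟶ L) :
    QuasiIso φ ↔ ∀ i x, QuasiIso ((stkC i x).map φ) := by
  refine ⟨fun h i x => inferInstance, fun h => ⟨fun n => ?_⟩⟩
  rw [quasiIsoAt_iff_isIso_homologyMap]
  refine isIso_of_stk _ fun i x => ?_
  have h' : IsIso (HomologicalComplex.homologyMap ((stkC i x).map φ) n) :=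
    (quasiIsoAt_iff_isIso_homologyMap _ _).1 ((h i x).quasiIsoAt n)
  exact (NatIso.isIso_map_iff (ShortComplex.homologyFunctorIso (stk Y i x))
    ((HomologicalComplex.shortComplexFunctor _ _ n).map φ)).1 h'

variable (Y) in
/-- Sections. -/
abbrev secF (i : 𝒮) (V : Opens (Y.obj i)) : Sh Y ⥤ AddCommGrpCat.{u} :=
  sheafToPresheaf _ _ ⋙ (evaluation _ _).obj (op (pl i V))

instance additive_secF (i : 𝒮) (V : Opens (Y.obj i)) : (secF Y i V).Additive where

variable (Y) in
/-- Sections of a complex. -/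
abbrev secC (i : 𝒮) (V : Opens (Y.obj i)) : CochainComplex (Sh Y) ℤ ⥤ CochainComplex AddCommGrpCat.{u} ℤ :=
  (secF Y i V).mapHomologicalComplex _

/-- All the fibres of a presheaf are flasque. -/
def FlFib (P : Pre Y) : Prop :=
  ∀ (i : 𝒮) {V U : Opens (Y.obj i)} (h : V ≤ U), Function.Surjective (mv P (𝟙 i) (le_id h))

theorem flFib_of_injective (J : Sh Y) [Injective J] : FlFib J.obj :=
  fun i _ _ h => Good.injFlasque J i _ _ h

omit [Good Y] in
theorem glue_sec (P : Sh Y) {i : 𝒮} {κ : Type u} (U : κ → Opens (Y.obj i)) (W : Opens (Y.obj i))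
    (hU : ∀ k, U k ≤ W) (hW : W ≤ iSup U) (s : ∀ k, sec P.obj i (U k))
    (hs : ∀ k l, mv P.obj (𝟙 i) (le_id (inf_le_left : U k ⊓ U l ≤ U k)) (s k) =
      mv P.obj (𝟙 i) (le_id (inf_le_right : U k ⊓ U l ≤ U l)) (s l)) :
    ∃! t : sec P.obj i W, ∀ k, mv P.obj (𝟙 i) (le_id (hU k)) t = s k := by
  have hS : TopCat.Presheaf.IsSheaf (fibP P.obj i) := (isSheaf_iff P.obj).1 P.property i
  obtain ⟨t, ht, hu⟩ := TopCat.Sheaf.existsUnique_gluing' (F := ⟨fibP P.obj i, hS⟩) U W
    (fun k => homOfLE (hU k)) hW s (fun k l =>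
      (fibP_map P.obj inf_le_left (s k)).trans ((hs k l).trans (fibP_map P.obj inf_le_right (s l)).symm))
  exact ⟨t, fun k => (fibP_map P.obj (hU k) t).symm.trans (ht k),
    fun t' h' => hu t' fun k => (fibP_map P.obj (hU k) t').trans (h' k)⟩

variable {K L : CochainComplex (Sh Y) ℤ}

/-- The sections of the cone of a map, as a family of bicomplexes of flasque sheaves. -/
def biShCone (φ : K ⟶ L) (d : ℤ) (hK : ∀ n, FlFib (K.X n).obj) (hL : ∀ n, FlFib (L.X n).obj) (i : 𝒮) :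
    BiSh.{u, u} (Y.obj i) where
  B V := Bi.cone ((secC Y i V).map φ) d
  res {V U} h p m := match p with
    | 0 => mv (K.X (d + m)).obj (𝟙 i) (le_id h)
    | 1 => mv (L.X (d + m)).obj (𝟙 i) (le_id h)
    | _ + 2 => 0
  res_h {V U} h p m x := match p, x with
    | 0, x => (mv_natural (φ.f (d + m)).hom (𝟙 i) (le_id h) x).symm
    | 1, _ => rfl
    | _ + 2, _ => rfl
  res_v {V U} h p m x := match p, x with
    | 0, x => (mv_natural (K.d (d + m) (d + (m + 1 : ℕ))).hom (𝟙 i) (le_id h) x).symm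
    | 1, x => (mv_natural (L.d (d + m) (d + (m + 1 : ℕ))).hom (𝟙 i) (le_id h) x).symm
    | _ + 2, _ => rfl
  res_res {W V U} h h' p m x := match p, x with
    | 0, x => mv_mv _ _ _ (𝟙 i) (Category.comp_id _) (le_id (h.trans h')) x
    | 1, x => mv_mv _ _ _ (𝟙 i) (Category.comp_id _) (le_id (h.trans h')) x
    | _ + 2, _ => rfl
  res_self U p m x := match p, x with
    | 0, x => mv_self _ _ rfl _ x
    | 1, x => mv_self _ _ rfl _ x
    | _ + 2, _ => rfl
  glue p m _ U W hU hW s hs := match p, s, hs with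
    | 0, s, hs => glue_sec (K.X (d + m)) U W hU hW s hs
    | 1, s, hs => glue_sec (L.X (d + m)) U W hU hW s hs
    | _ + 2, _, _ => ⟨PUnit.unit, fun _ => rfl, fun _ _ => rfl⟩
  flasque {V U} h p m := match p with
    | 0 => hK _ i h
    | 1 => hL _ i h
    | _ + 2 => fun _ => ⟨PUnit.unit, rfl⟩

omit [Good Y] in
theorem d_eq_mv (P Q : Sh Y) (f : P ⟶ Q) {i : 𝒮} {V W : Opens (Y.obj i)} (h : W ≤ V) (x : sec P.obj i V) :
    (f.hom.app (op (pl i W))).hom (mv P.obj (𝟙 i) (le_id h) x) =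
      mv Q.obj (𝟙 i) (le_id h) ((f.hom.app (op (pl i V))).hom x) :=
  mv_natural f.hom (𝟙 i) (le_id h) x

omit [Good Y] in
theorem stk_map_germ {P Q : Sh Y} (f : P ⟶ Q) {i : 𝒮} {V : Opens (Y.obj i)} {x : Y.obj i} (hx : x ∈ V)
    (s : sec P.obj i V) :
    ((stk Y i x).map f).hom (germ P.obj V x hx s) = germ Q.obj V x hx ((f.hom.app (op (pl i V))).hom s) :=
  TopCat.Presheaf.stalkFunctor_map_germ_apply V x hx (Functor.whiskerLeft (ι (osF Y) i).op f.hom) s

/-- Elementwise exactness of the stalk cone gives local exactness of the cone of sections. -/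
theorem coneEx_local (φ : K ⟶ L) {i : 𝒮} {x : Y.obj i} (h : ConeEx ((stkC i x).map φ)) {i' j k l : ℤ}
    (hij : i' + 1 = j) (hjk : j + 1 = k) (hkl : k + 1 = l) {U : Opens (Y.obj i)} (hx : x ∈ U)
    (a : sec (K.X k).obj i U) (b : sec (L.X j).obj i U)
    (ha : ((K.d k l).hom.app (op (pl i U))).hom a = 0)
    (hab : ((φ.f k).hom.app (op (pl i U))).hom a = ((L.d j k).hom.app (op (pl i U))).hom b) :
    ∃ (V : Opens (Y.obj i)) (hV : V ≤ U), x ∈ V ∧ ∃ (a' : sec (K.X j).obj i V) (b' : sec (L.X i').obj i V),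
      ((K.d j k).hom.app (op (pl i V))).hom a' = mv _ (𝟙 i) (le_id hV) a ∧
      ((φ.f j).hom.app (op (pl i V))).hom a' - ((L.d i' j).hom.app (op (pl i V))).hom b' =
        mv _ (𝟙 i) (le_id hV) b := by
  obtain ⟨A', B', hA, hB⟩ := h i' j k l hij hjk hkl (germ _ U x hx a) (germ _ U x hx b)
    ((stk_map_germ (K.d k l) hx a).trans (by rw [ha]; exact map_zero _))
    ((stk_map_germ (φ.f k) hx a).trans ((congrArg _ hab).trans (stk_map_germ (L.d j k) hx b).symm))
  obtain ⟨V₁, hV₁, hx₁, a₁, ha₁⟩ := exists_germ (K.X j).obj A' hx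
  obtain ⟨V, hV, hx₂, b', hb'⟩ := exists_germ (L.X i').obj B' hx₁
  have hgA : germ (K.X j).obj V x hx₂ (mv _ (𝟙 i) (le_id hV) a₁) = A' := (germ_res _ hV x hx₂ _ rfl _ _).trans ha₁
  have e1 : germ _ V x hx₂ (((K.d j k).hom.app (op (pl i V))).hom (mv _ (𝟙 i) (le_id hV) a₁) -
      mv _ (𝟙 i) (le_id (hV.trans hV₁)) a) = 0 := by
    rw [map_sub, germ_res _ (hV.trans hV₁) x hx₂ _ rfl, ← stk_map_germ, hgA]
    exact sub_eq_zero.2 hA
  have e2 : germ _ V x hx₂ (((φ.f j).hom.app (op (pl i V))).hom (mv _ (𝟙 i) (le_id hV) a₁) -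
      ((L.d i' j).hom.app (op (pl i V))).hom b' - mv _ (𝟙 i) (le_id (hV.trans hV₁)) b) = 0 := by
    rw [map_sub, map_sub, germ_res _ (hV.trans hV₁) x hx₂ _ rfl, ← stk_map_germ, ← stk_map_germ, hgA, hb']
    exact sub_eq_zero.2 hB
  obtain ⟨W₁, hW₁, hxW₁, z1⟩ := (germ_eq_iff _ hx₂ _).1 e1
  obtain ⟨W₂, hW₂, hxW₂, z2⟩ := (germ_eq_iff _ hx₂ _).1 e2
  let W := W₁ ⊓ W₂
  have hW : W ≤ V := inf_le_left.trans hW₁
  have kill : ∀ (P : Sh Y) {W' : Opens (Y.obj i)} (hW' : W' ≤ V) (h' : W ≤ W') (z : sec P.obj i V),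
      mv P.obj (𝟙 i) (le_id hW') z = 0 → mv P.obj (𝟙 i) (le_id hW) z = 0 := fun P W' hW' h' z hz => by
    rw [← mv_mv P.obj (le_id h') (le_id hW') (𝟙 i) (Category.comp_id _) (le_id hW), hz, map_zero]
  have z1' := kill (K.X k) hW₁ inf_le_left _ z1
  have z2' := kill (L.X j) hW₂ inf_le_right _ z2
  rw [map_sub, sub_eq_zero, mv_mv _ _ _ (𝟙 i) (Category.comp_id _) (le_id (hW.trans (hV.trans hV₁))),
    ← d_eq_mv _ _ (K.d j k) hW] at z1'
  rw [map_sub, map_sub, sub_eq_zero, mv_mv _ _ _ (𝟙 i) (Category.comp_id _) (le_id (hW.trans (hV.trans hV₁))),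
    ← d_eq_mv _ _ (φ.f j) hW, ← d_eq_mv _ _ (L.d i' j) hW] at z2'
  exact ⟨W, hW.trans (hV.trans hV₁), ⟨hxW₁, hxW₂⟩, _, _, z1', z2'⟩

/-- A map which is a quasi-isomorphism at the stalks of one space is one on all sections there. -/
theorem secCone_exact_of_stk (φ : K ⟶ L) (d : ℤ) [K.IsStrictlyGE d] [L.IsStrictlyGE d]
    (hK : ∀ n, FlFib (K.X n).obj) (hL : ∀ n, FlFib (L.X n).obj) (i : 𝒮)
    (hq : ∀ x, QuasiIso ((stkC i x).map φ)) (V : Opens (Y.obj i)) :
    (Bi.cone ((secC Y i V).map φ) d).Exact := by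
  refine (biShCone φ d hK hL i).exact ?_ V
  intro U k x hx hD p hp
  have hc : ConeEx ((stkC i p).map φ) := (quasiIso_iff_coneEx _).1 (hq p)
  have hD0 : ∀ n : ℕ, ((K.d (d + n) (d + (n + 1 : ℕ))).hom.app (op (pl i U))).hom (x (0, n)) = 0 := fun n =>
    (Bi.cone_D_zero ((secC Y i U).map φ) d x n).symm.trans (congrFun hD (0, n + 1))
  rcases k with _ | k
  · have e : ((φ.f (d + (0 : ℕ))).hom.app (op (pl i U))).hom (x (0, 0)) = 0 :=
      (Bi.cone_D_one_zero ((secC Y i U).map φ) d x).symm.trans (congrFun hD (1, 0))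
    obtain ⟨W, hW, hpW, a', b', ha', -⟩ := coneEx_local φ hc (i' := d - 2) (j := d - 1) (k := d + (0 : ℕ))
      (l := d + (0 + 1 : ℕ)) (by omega) (by simp) (by simp) hp (x (0, 0)) 0 (hD0 0) (e.trans (map_zero _).symm)
    refine ⟨W, hW, hpW, 0, fun _ _ => rfl, ?_⟩
    rw [map_zero]
    funext ⟨q, m⟩
    by_cases hi : q + m = 0
    · obtain ⟨rfl, rfl⟩ : q = 0 ∧ m = 0 := by omega
      have : a' = 0 := eq_zero_of_lt ((secC Y i W).obj K) (show d - 1 < d by omega) a'
      rw [this, map_zero] at ha'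
      exact ha'
    · exact ((biShCone φ d hK hL i).resF_supp hW hx (q, m) (by simpa [Bi.deg] using hi)).symm
  · have e : ((φ.f (d + (k + 1 : ℕ))).hom.app (op (pl i U))).hom (x (0, k + 1)) =
        ((L.d (d + k) (d + (k + 1 : ℕ))).hom.app (op (pl i U))).hom (x (1, k)) :=
      sub_eq_zero.1 ((Bi.cone_D_one ((secC Y i U).map φ) d x k).symm.trans (congrFun hD (1, k + 1)))
    obtain ⟨W, hW, hpW, a', b', ha', hb'⟩ := coneEx_local φ hc (i' := d + k - 1) (j := d + k)
      (k := d + (k + 1 : ℕ)) (l := d + (k + 1 + 1 : ℕ)) (by omega) (by push_cast; ring) (by push_cast; ring) hp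
      (x (0, k + 1)) (x (1, k)) (hD0 (k + 1)) e
    refine ⟨W, hW, hpW, ?_⟩
    rcases k with _ | k
    · have hb0 : b' = 0 := eq_zero_of_lt ((secC Y i W).obj L) (show d + ((0 : ℕ) : ℤ) - 1 < d by omega) b'
      rw [hb0, map_zero, sub_zero] at hb'
      refine ⟨((biShCone φ d hK hL i).B W).single (0, 0) a',
        fun q hq => Bi.single_ne _ _ (by rintro rfl; simp [Bi.deg] at hq), funext fun q => ?_⟩
      rcases q with ⟨q, m⟩
      by_cases hi : q + m = 1
      · rcases q with _ | _ | q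
        · obtain rfl : m = 1 := by omega
          exact (Bi.cone_D_zero _ _ _ 0).trans ((congrArg _ (Bi.single_self _ _ _)).trans ha')
        · obtain rfl : m = 0 := by omega
          exact (Bi.cone_D_one_zero _ _ _).trans ((congrArg _ (Bi.single_self _ _ _)).trans hb')
        · omega
      · rw [(biShCone φ d hK hL i).resF_supp hW hx (q, m) (by simpa [Bi.deg] using hi)]
        exact Bi.supp _ 0 _ (fun q hq => Bi.single_ne _ _ (by rintro rfl; simp [Bi.deg] at hq)) (q, m)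
          (by simpa [Bi.deg] using hi)
    · let b₀ : sec (L.X (d + k)).obj i W :=
        ((L.XIsoOfEq (show d + ((k + 1 : ℕ) : ℤ) - 1 = d + k by push_cast; ring)).hom.hom.app (op (pl i W))).hom b'
      have hb : ((L.d (d + k) (d + (k + 1 : ℕ))).hom.app (op (pl i W))).hom b₀ =
          ((L.d (d + ((k + 1 : ℕ) : ℤ) - 1) (d + (k + 1 : ℕ))).hom.app (op (pl i W))).hom b' :=
        ConcreteCategory.congr_hom (congrArg (fun g : L.X (d + ((k + 1 : ℕ) : ℤ) - 1) ⟶ L.X (d + (k + 1 : ℕ)) =>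
          g.hom.app (op (pl i W))) (L.XIsoOfEq_hom_comp_d (show d + ((k + 1 : ℕ) : ℤ) - 1 = d + k by push_cast; ring) (d + (k + 1 : ℕ)))) b'
      rw [← hb] at hb'
      let B := (biShCone φ d hK hL i).B W
      let z := B.single (0, k + 1) a' + B.single (1, k) b₀
      have v1 : z (0, k + 1) = a' := by
        simp only [z]
        rw [Pi.add_apply, Bi.single_self, Bi.single_ne _ _ (by simp), add_zero]
      have v2 : z (1, k) = b₀ := by
        simp only [z]
        refine (Pi.add_apply _ _ _).trans ?_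
        rw [Bi.single_self, Bi.single_ne _ _ (show ((1, k) : ℕ × ℕ) ≠ (0, k + 1) by simp)]
        exact zero_add _
      have hs : Supp Bi.deg (k + 1) z := fun q hq => by
        simp only [z]
        rw [Pi.add_apply, Bi.single_ne _ _ (by rintro rfl; simp [Bi.deg] at hq),
          Bi.single_ne _ _ (by rintro rfl; simp [Bi.deg] at hq; omega), add_zero]
      refine ⟨z, supp'_succ_iff.2 hs, funext fun q => ?_⟩
      rcases q with ⟨q, m⟩
      by_cases hi : q + m = k + 2
      · rcases q with _ | _ | q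
        · obtain rfl : m = k + 2 := by omega
          exact (Bi.cone_D_zero _ _ _ (k + 1)).trans ((congrArg _ v1).trans ha')
        · obtain rfl : m = k + 1 := by omega
          refine (Bi.cone_D_one ((secC Y i W).map φ) d z k).trans ?_
          rw [v1, v2]
          exact hb'
        · exact Subsingleton.elim (α := PUnit) _ _
      · rw [(biShCone φ d hK hL i).resF_supp hW hx (q, m) (by simpa [Bi.deg] using hi)]
        exact Bi.supp _ (k + 1) z hs (q, m) (by simpa [Bi.deg] using hi)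

/-- A quasi-isomorphism between bounded below complexes with flasque fibres is one on all sections. -/
theorem secCone_exact (φ : K ⟶ L) [QuasiIso φ] (d : ℤ) [K.IsStrictlyGE d] [L.IsStrictlyGE d]
    (hK : ∀ n, FlFib (K.X n).obj) (hL : ∀ n, FlFib (L.X n).obj) (i : 𝒮) (V : Opens (Y.obj i)) :
    (Bi.cone ((secC Y i V).map φ) d).Exact :=
  secCone_exact_of_stk φ d hK hL i (fun _ => inferInstance) V

/-- If the cones of sections are exact, the stalks are quasi-isomorphic. -/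
theorem quasiIso_stkC (φ : K ⟶ L) (d : ℤ) [K.IsStrictlyGE d] [L.IsStrictlyGE d] {i : 𝒮}
    (h : ∀ V : Opens (Y.obj i), (Bi.cone ((secC Y i V).map φ) d).Exact) (x : Y.obj i) :
    QuasiIso ((stkC i x).map φ) := by
  rw [quasiIso_iff_coneEx]
  intro i' j k l hij hjk hkl A B hA hAB
  obtain ⟨V₁, -, hx₁, a₁, rfl⟩ := exists_germ (K.X k).obj A (U := ⊤) (x := x) trivial
  obtain ⟨V, hV, hx, b, rfl⟩ := exists_germ (L.X j).obj B hx₁
  rw [← germ_res _ hV x hx (𝟙 i) rfl (le_id hV)] at hA hAB ⊢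
  generalize mv (K.X k).obj (𝟙 i) (le_id hV) a₁ = a at hA hAB ⊢
  replace hA := (stk_map_germ (K.d k l) hx a).symm.trans hA
  replace hAB := (stk_map_germ (φ.f k) hx a).symm.trans (hAB.trans (stk_map_germ (L.d j k) hx b))
  obtain ⟨W₁, hW₁, hxW₁, z1⟩ := (germ_eq_iff _ hx _).1 hA
  obtain ⟨W₂, hW₂, hxW₂, z2⟩ := (germ_eq_iff (L.X k).obj hx
    (((φ.f k).hom.app (op (pl i V))).hom a - ((L.d j k).hom.app (op (pl i V))).hom b)).1
    (by rw [map_sub, sub_eq_zero]; exact hAB)
  let W := W₁ ⊓ W₂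
  have hW : W ≤ V := inf_le_left.trans hW₁
  have hxW : x ∈ W := ⟨hxW₁, hxW₂⟩
  have kill : ∀ (P : Sh Y) {W' : Opens (Y.obj i)} (hW' : W' ≤ V) (h' : W ≤ W') (z : sec P.obj i V),
      mv P.obj (𝟙 i) (le_id hW') z = 0 → mv P.obj (𝟙 i) (le_id hW) z = 0 := fun P W' hW' h' z hz => by
    rw [← mv_mv P.obj (le_id h') (le_id hW') (𝟙 i) (Category.comp_id _) (le_id hW), hz, map_zero]
  have z1' := kill (K.X l) hW₁ inf_le_left _ z1
  have z2' := kill (L.X k) hW₂ inf_le_right _ z2
  rw [← d_eq_mv _ _ (K.d k l) hW] at z1'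
  rw [map_sub, sub_eq_zero, ← d_eq_mv _ _ (φ.f k) hW, ← d_eq_mv _ _ (L.d j k) hW] at z2'
  obtain ⟨a', b', ha', hb'⟩ := Bi.coneEx_of_exact (h W) i' j k l hij hjk hkl
    (mv _ (𝟙 i) (le_id hW) a) (mv _ (𝟙 i) (le_id hW) b) z1' z2'
  refine ⟨germ _ W x hxW a', germ _ W x hxW b', ?_, ?_⟩
  · refine (stk_map_germ (K.d j k) hxW a').trans ((congrArg _ ha').trans ?_)
    exact germ_res _ hW x hxW _ rfl _ _
  · refine (congrArg₂ (· - ·) (stk_map_germ (φ.f j) hxW a') (stk_map_germ (L.d i' j) hxW b')).trans ?_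
    refine (map_sub (germ (L.X j).obj W x hxW) _ _).symm.trans ?_
    exact (congrArg _ hb').trans (germ_res _ hW x hxW _ rfl _ _)

end

end Groth.Agent.CohDesc82
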