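import Mathlib.Algebra.Category.Grp.Basic
import Mathlib.Algebra.BigOperators.Group.Finset.Basic
import Mathlib.Tactic.Abel
import Mathlib.Algebra.Module.NatInt
import Mathlib.Algebra.Category.Grp.Preadditive
import Mathlib.Algebra.Ring.Parity

/-!
# Exactness of filtered total complexes, elementwise

`TotExact deg D` says that the total complex with terms the families supported in a given degree is exact.
Slices for a coordinate `π` compare exactness of the total complex with exactness of its rows or columns.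
-/

universe w v u

set_option autoImplicit false
set_option linter.unusedSimpArgs false
set_option linter.unnecessarySeqFocus false

namespace Groth.Agent.CohDesc82

section generic

variable {ι : Type w} {A : ι → Type v} [∀ i, AddCommGroup (A i)]

/-- A family supported in degree `k`. -/
def Supp (deg : ι → ℕ) (k : ℕ) (x : ∀ i, A i) : Prop := ∀ i, deg i ≠ k → x i = 0

/-- A family supported in degree `k - 1` (zero for `k = 0`). -/
def Supp' (deg : ι → ℕ) (k : ℕ) (x : ∀ i, A i) : Prop := ∀ i, deg i + 1 ≠ k → x i = 0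

/-- Exactness of the total complex. -/
def TotExact (deg : ι → ℕ) (D : (∀ i, A i) →+ (∀ i, A i)) : Prop :=
  ∀ k x, Supp deg k x → D x = 0 → ∃ y, Supp' deg k y ∧ D y = x

/-- Exactness of the slice `π = a` with the induced differential. -/
def SliceExact (deg π : ι → ℕ) (D : (∀ i, A i) →+ (∀ i, A i)) (a : ℕ) : Prop :=
  ∀ k x, Supp deg k x → (∀ i, π i ≠ a → x i = 0) → (∀ i, π i = a → D x i = 0) →
    ∃ y, Supp' deg k y ∧ (∀ i, π i ≠ a → y i = 0) ∧ ∀ i, π i = a → D y i = x i

/-- `π` filters the differential `D`. -/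
structure Filt (deg π : ι → ℕ) (D : (∀ i, A i) →+ (∀ i, A i)) : Prop where
  sq : ∀ x, D (D x) = 0
  supp : ∀ k x, Supp deg k x → Supp deg (k + 1) (D x)
  le : ∀ i, π i ≤ deg i
  tri : ∀ a x, (∀ i, π i < a → x i = 0) → ∀ i, π i < a → D x i = 0

variable {deg π : ι → ℕ} {D : (∀ i, A i) →+ (∀ i, A i)}

/-- The part of a family in the slice `π = a`. -/
def part (π : ι → ℕ) (a : ℕ) (x : ∀ i, A i) : ∀ i, A i := fun i => if π i = a then x i else 0

lemma part_eq {a : ℕ} {x : ∀ i, A i} {i : ι} (h : π i = a) : part π a x i = x i := if_pos h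

lemma part_ne {a : ℕ} {x : ∀ i, A i} {i : ι} (h : π i ≠ a) : part π a x i = 0 := if_neg h

lemma supp'_zero {y : ∀ i, A i} (h : Supp' deg 0 y) : y = 0 := funext fun i => h i (by omega)

lemma supp'_succ_iff {k : ℕ} {y : ∀ i, A i} : Supp' deg (k + 1) y ↔ Supp deg k y :=
  ⟨fun h i hi => h i (by omega), fun h i hi => h i (by omega)⟩

lemma Filt.supp_D' (hD : Filt deg π D) {k : ℕ} {y : ∀ i, A i} (h : Supp' deg k y) :
    Supp deg k (D y) := by
  rcases k with _ | k
  · rw [supp'_zero h, map_zero]; exact fun _ _ => rfl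
  · exact hD.supp k y (supp'_succ_iff.1 h)

lemma Filt.D_part (hD : Filt deg π D) {a : ℕ} {x : ∀ i, A i} (hx : ∀ i, π i < a → x i = 0) {i : ι}
    (hi : π i = a) : D (part π a x) i = D x i := by
  have h := hD.tri (a + 1) (x - part π a x) (fun j hj => by
    rcases (Nat.lt_succ_iff.1 hj).lt_or_eq with h' | h'
    · simp [hx j h', part_ne h'.ne]
    · simp [part_eq h']) i (by omega)
  rw [map_sub, Pi.sub_apply, sub_eq_zero] at h
  exact h.symm

lemma Filt.fill (hD : Filt deg π D) {a₀ : ℕ} (hs : ∀ a, a₀ ≤ a → SliceExact deg π D a) (k : ℕ)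
    (x : ∀ i, A i) (hk : Supp deg k x) (hx : D x = 0) (hge : ∀ i, π i < a₀ → x i = 0) :
    ∃ y, Supp' deg k y ∧ (∀ i, π i < a₀ → y i = 0) ∧ D y = x := by
  suffices H : ∀ m a, k + 1 ≤ a + m → a₀ ≤ a → ∀ x, Supp deg k x → D x = 0 → (∀ i, π i < a → x i = 0) →
      ∃ y, Supp' deg k y ∧ (∀ i, π i < a₀ → y i = 0) ∧ D y = x from
    H (k + 1) a₀ (by omega) le_rfl x hk hx hge
  intro m
  induction m with
  | zero =>
    intro a ha _ x hk _ hlt
    refine ⟨0, fun _ _ => rfl, fun _ _ => rfl, ?_⟩
    rw [map_zero]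
    funext i
    by_cases hd : deg i = k
    · exact (hlt i (by have := hD.le i; omega)).symm
    · exact (hk i hd).symm
  | succ m ih =>
    intro a ha haa x hk hx hlt
    obtain ⟨y, hy, hya, hyx⟩ := hs a haa k (part π a x)
      (fun i hi => by by_cases h : π i = a <;> simp [part, h, hk i hi])
      (fun i hi => part_ne hi) (fun i hi => by rw [hD.D_part hlt hi, hx]; rfl)
    have hyD : ∀ i, π i < a → D y i = 0 := hD.tri a y fun i hi => hya i hi.ne
    obtain ⟨y', hy', hy'0, hy'x⟩ := ih (a + 1) (by omega) (by omega) (x - D y)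
      (fun i hi => by simp [hk i hi, hD.supp_D' hy i hi])
      (by rw [map_sub, hx, hD.sq, sub_zero])
      (fun i hi => by
        rcases (Nat.lt_succ_iff.1 hi).lt_or_eq with h | h
        · simp [hlt i h, hyD i h]
        · simp [hyx i h, part_eq h])
    refine ⟨y + y', fun i hi => by simp [hy i hi, hy' i hi], fun i hi => ?_, ?_⟩
    · simp [hya i (by omega), hy'0 i hi]
    · rw [map_add, hy'x]; abel

lemma Filt.totExact (hD : Filt deg π D) (hs : ∀ a, SliceExact deg π D a) : TotExact deg D :=
  fun k x hk hx => by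
    obtain ⟨y, h₁, -, h₂⟩ := hD.fill (a₀ := 0) (fun a _ => hs a) k x hk hx (fun i hi => absurd hi (by omega))
    exact ⟨y, h₁, h₂⟩

lemma Filt.slice_zero (hD : Filt deg π D) (hT : TotExact deg D)
    (hs : ∀ a, 1 ≤ a → SliceExact deg π D a) : SliceExact deg π D 0 := by
  intro k x hk hx hDx
  obtain ⟨z, hz, hz0, hzx⟩ := hD.fill hs (k + 1) (D x) (hD.supp k x hk) (hD.sq x)
    fun i hi => hDx i (by omega)
  obtain ⟨w, hw, hwx⟩ := hT k (x - z)
    (fun i hi => by simp [hk i hi, supp'_succ_iff.1 hz i hi]) (by rw [map_sub, hzx, sub_self])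
  refine ⟨part π 0 w, fun i hi => by by_cases h : π i = 0 <;> simp [part, h, hw i hi],
    fun i hi => part_ne hi, fun i hi => ?_⟩
  rw [hD.D_part (fun j hj => absurd hj (by omega)) hi, hwx, Pi.sub_apply, hz0 i (by omega), sub_zero]

lemma Filt.slice_one (hD : Filt deg π D) (hT : TotExact deg D) (h0 : SliceExact deg π D 0)
    (h2 : ∀ i, 2 ≤ π i → ∀ a : A i, a = 0) : SliceExact deg π D 1 := by
  intro k x hk hx hDx
  have hxD : D x = 0 := funext fun i => by
    rcases Nat.lt_or_ge (π i) 1 with h | h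
    · exact hD.tri 1 x (fun j hj => hx j hj.ne) i h
    · rcases h.lt_or_eq with h' | h'
      · exact h2 i h' _
      · exact hDx i h'.symm
  obtain ⟨w, hw, hwx⟩ := hT k x hk hxD
  rcases k with _ | k
  · refine ⟨0, fun _ _ => rfl, fun _ _ => rfl, fun i _ => ?_⟩
    rw [← hwx, supp'_zero hw]
  obtain ⟨v, hv, hv0, hvw⟩ := h0 k (part π 0 w)
    (fun i hi => by by_cases h : π i = 0 <;> simp [part, h, supp'_succ_iff.1 hw i hi])
    (fun i hi => part_ne hi) (fun i hi => by
      rw [hD.D_part (fun j hj => absurd hj (by omega)) hi, hwx]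
      exact hx i (by omega))
  refine ⟨w - D v, fun i hi => by simp [hw i hi, hD.supp_D' hv i (by omega)], fun i hi => ?_, fun i _ => ?_⟩
  · rcases Nat.lt_or_ge (π i) 2 with h | h
    · simp [hvw i (by omega), part_eq (show π i = 0 by omega)]
    · exact h2 i h _
  · rw [map_sub, hD.sq, sub_zero, hwx]

end generic

/-- A first quadrant bicomplex of abelian groups, with commuting differentials. -/
structure Bi where
  /-- the terms -/
  A : ℕ → ℕ → AddCommGrpCat.{u}
  /-- the first differential -/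
  h : ∀ p n, A p n →+ A (p + 1) n
  /-- the second differential -/
  v : ∀ p n, A p n →+ A p (n + 1)
  hh : ∀ p n x, h (p + 1) n (h p n x) = 0
  vv : ∀ p n x, v p (n + 1) (v p n x) = 0
  hv : ∀ p n x, h p (n + 1) (v p n x) = v (p + 1) n (h p n x)

namespace Bi

variable (B : Bi.{u})

/-- The terms indexed by pairs. -/
abbrev F (i : ℕ × ℕ) : Type u := B.A i.1 i.2

/-- The horizontal part of the differential. -/
def hP (x : ∀ i, B.F i) : ∀ i, B.F i
  | (0, _) => 0
  | (p + 1, n) => B.h p n (x (p, n))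

/-- The vertical part of the differential. -/
def vP (x : ∀ i, B.F i) : ∀ i, B.F i
  | (_, 0) => 0
  | (p, n + 1) => B.v p n (x (p, n))

/-- The total differential. -/
def D : (∀ i, B.F i) →+ (∀ i, B.F i) :=
  AddMonoidHom.mk' (fun x i => B.hP x i + (-1 : ℤ) ^ i.1 • B.vP x i) fun x y => funext fun i => by
    rcases i with ⟨_ | p, _ | n⟩ <;> simp only [hP, vP, Pi.add_apply, map_add, smul_add, smul_zero, add_zero, zero_add] <;> abel

lemma D_apply (x : ∀ i, B.F i) (i : ℕ × ℕ) : B.D x i = B.hP x i + (-1 : ℤ) ^ i.1 • B.vP x i := rfl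

/-- The total degree. -/
abbrev deg (i : ℕ × ℕ) : ℕ := i.1 + i.2

/-- Exactness of the total complex. -/
def Exact : Prop := TotExact deg B.D

lemma sq (x : ∀ i, B.F i) : B.D (B.D x) = 0 := by
  funext ⟨p, n⟩
  rw [D_apply, Pi.zero_apply]
  rcases p with _ | _ | p <;> rcases n with _ | _ | n <;>
    simp [hP, vP, D_apply, B.hh, B.vv, B.hv, pow_succ]

lemma supp (k : ℕ) (x : ∀ i, B.F i) (hx : Supp deg k x) : Supp deg (k + 1) (B.D x) := by
  rintro ⟨p, n⟩ hi
  rw [D_apply]
  have h1 : B.hP x (p, n) = 0 := by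
    rcases p with _ | p
    · rfl
    · simp only [hP, hx (p, n) (by simp [deg] at hi ⊢; omega), map_zero]
  have h2 : B.vP x (p, n) = 0 := by
    rcases n with _ | n
    · rfl
    · simp only [vP, hx (p, n) (by simp [deg] at hi ⊢; omega), map_zero]
  rw [h1, h2, smul_zero, add_zero]

lemma filtFst : Filt deg (Prod.fst : ℕ × ℕ → ℕ) B.D where
  sq := B.sq
  supp := B.supp
  le _ := Nat.le_add_right _ _
  tri a x hx := by
    rintro ⟨p, n⟩ (hi : p < a)
    rw [D_apply]
    have h1 : B.hP x (p, n) = 0 := by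
      rcases p with _ | p
      · rfl
      · simp only [hP, hx (p, n) (show p < a by omega), map_zero]
    have h2 : B.vP x (p, n) = 0 := by
      rcases n with _ | n
      · rfl
      · simp only [vP, hx (p, n) (show p < a by omega), map_zero]
    rw [h1, h2, smul_zero, add_zero]

lemma filtSnd : Filt deg (Prod.snd : ℕ × ℕ → ℕ) B.D where
  sq := B.sq
  supp := B.supp
  le _ := Nat.le_add_left _ _
  tri a x hx := by
    rintro ⟨p, n⟩ (hi : n < a)
    rw [D_apply]
    have h1 : B.hP x (p, n) = 0 := by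
      rcases p with _ | p
      · rfl
      · simp only [hP, hx (p, n) (show n < a by omega), map_zero]
    have h2 : B.vP x (p, n) = 0 := by
      rcases n with _ | n
      · rfl
      · simp only [vP, hx (p, n) (show n < a by omega), map_zero]
    rw [h1, h2, smul_zero, add_zero]

/-- Exactness of the column `p`. -/
def ColExact (p : ℕ) : Prop :=
  (∀ x, B.v p 0 x = 0 → x = 0) ∧ ∀ n x, B.v p (n + 1) x = 0 → ∃ y, B.v p n y = x

/-- Exactness of the row `n`. -/
def RowExact (n : ℕ) : Prop :=
  (∀ x, B.h 0 n x = 0 → x = 0) ∧ ∀ p x, B.h (p + 1) n x = 0 → ∃ y, B.h p n y = x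

/-- The family with the single term `a` at `i`. -/
noncomputable def single (i : ℕ × ℕ) (a : B.F i) : ∀ j, B.F j :=
  fun j => by classical exact if h : j = i then h ▸ a else 0

lemma single_self (i : ℕ × ℕ) (a : B.F i) : B.single i a i = a := dif_pos rfl

lemma single_ne {i j : ℕ × ℕ} (a : B.F i) (h : j ≠ i) : B.single i a j = 0 := dif_neg h

lemma slice_of_colExact {p : ℕ} (hc : B.ColExact p) : SliceExact deg (Prod.fst : ℕ × ℕ → ℕ) B.D p := by
  intro k x hk hx hDx
  have hcyc : ∀ n, B.v p n (x (p, n)) = 0 := fun n => by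
    have h := hDx (p, n + 1) rfl
    rw [D_apply] at h
    have h1 : B.hP x (p, n + 1) = 0 := by
      rcases p with _ | p
      · rfl
      · simp only [hP, hx (p, n + 1) (by simp), map_zero]
    rw [h1, zero_add] at h
    rcases neg_one_pow_eq_or ℤ p with hs | hs <;>
      · simpa [vP, hs] using h
  rcases Nat.lt_or_ge p k with hpk | hpk
  · obtain ⟨n, rfl⟩ : ∃ n, k = p + (n + 1) := ⟨k - p - 1, by omega⟩
    obtain ⟨y, hy⟩ := hc.2 n (x (p, n + 1)) (hcyc (n + 1))
    refine ⟨B.single (p, n) ((-1 : ℤ) ^ p • y), fun i hi => B.single_ne _ (fun e => hi ?_),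
      fun i hi => B.single_ne _ (fun e => hi (e ▸ rfl)), ?_⟩
    · subst e; simp [deg]; omega
    rintro ⟨q, m⟩ (rfl : q = p)
    rw [D_apply]
    have h1 : B.hP (B.single (q, n) ((-1 : ℤ) ^ q • y)) (q, m) = 0 := by
      rcases q with _ | q
      · rfl
      · simp only [hP, B.single_ne _ (show (q, m) ≠ (q + 1, n) by simp), map_zero]
    rw [h1, zero_add]
    by_cases hm : m = n + 1
    · subst hm
      simp [vP, B.single_self, hy, smul_smul, ← pow_add, show (-1 : ℤ) ^ (q + q) = 1 from Even.neg_one_pow ⟨q, rfl⟩]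
    · rw [hk (q, m) (by simp [deg]; omega)]
      rcases m with _ | m
      · simp [vP]
      · simp [vP, B.single_ne _ (show (q, m) ≠ (q, n) by simp; omega)]
  · have hz : ∀ i, x i = 0 := by
      rintro ⟨q, m⟩
      by_cases hq : q = p
      · subst hq
        by_cases hd : q + m = k
        · obtain rfl : m = 0 := by omega
          exact hc.1 _ (hcyc 0)
        · exact hk _ hd
      · exact hx _ hq
    exact ⟨0, fun _ _ => rfl, fun _ _ => rfl, fun i _ => by rw [map_zero, hz i]; rfl⟩

lemma colExact_of_slice {p : ℕ} (hs : SliceExact deg (Prod.fst : ℕ × ℕ → ℕ) B.D p) : B.ColExact p := by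
  have aux : ∀ n x, B.v p n x = 0 → ∃ z, Supp' deg (p + n) z ∧ (∀ i : ℕ × ℕ, i.1 ≠ p → z i = 0) ∧
      B.D z (p, n) = x := by
    intro n x hx
    obtain ⟨z, h1, h2, h3⟩ := hs (p + n) (B.single (p, n) x)
      (fun i hi => B.single_ne _ (fun e => hi (e ▸ rfl))) (fun i hi => B.single_ne _ (fun e => hi (e ▸ rfl)))
      (by
        rintro ⟨q, m⟩ (rfl : q = p)
        rw [D_apply]
        have h1 : B.hP (B.single (q, n) x) (q, m) = 0 := by
          rcases q with _ | q
          · rfl
          · simp only [hP, B.single_ne _ (show (q, m) ≠ (q + 1, n) by simp), map_zero]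
        rw [h1, zero_add]
        rcases m with _ | m
        · simp [vP]
        · by_cases hm : m = n
          · subst hm; simp [vP, B.single_self, hx]
          · simp [vP, B.single_ne _ (show (q, m) ≠ (q, n) by simp [hm])])
    exact ⟨z, h1, h2, (h3 (p, n) rfl).trans (B.single_self _ _)⟩
  have hh : ∀ n (z : ∀ i, B.F i), (∀ i : ℕ × ℕ, i.1 ≠ p → z i = 0) → B.hP z (p, n) = 0 := by
    intro n z h2
    rcases p with _ | p
    · rfl
    · simp only [hP, h2 (p, n) (by simp), map_zero]
  constructor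
  · intro x hx
    obtain ⟨z, -, h2, h3⟩ := aux 0 x hx
    rw [← h3, D_apply, hh 0 z h2]
    simp [vP]
  · intro n x hx
    obtain ⟨z, -, h2, h3⟩ := aux (n + 1) x hx
    refine ⟨(-1 : ℤ) ^ p • z (p, n), ?_⟩
    rw [← h3, D_apply, hh (n + 1) z h2, zero_add, map_zsmul]
    rfl

lemma slice_of_rowExact {n : ℕ} (hc : B.RowExact n) : SliceExact deg (Prod.snd : ℕ × ℕ → ℕ) B.D n := by
  intro k x hk hx hDx
  have hcyc : ∀ p, B.h p n (x (p, n)) = 0 := fun p => by
    have h := hDx (p + 1, n) rfl
    rw [D_apply] at h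
    have h1 : B.vP x (p + 1, n) = 0 := by
      rcases n with _ | n
      · rfl
      · simp only [vP, hx (p + 1, n) (by simp), map_zero]
    rwa [h1, smul_zero, add_zero] at h
  rcases Nat.lt_or_ge n k with hnk | hnk
  · obtain ⟨p, rfl⟩ : ∃ p, k = (p + 1) + n := ⟨k - n - 1, by omega⟩
    obtain ⟨y, hy⟩ := hc.2 p (x (p + 1, n)) (hcyc (p + 1))
    refine ⟨B.single (p, n) y, fun i hi => B.single_ne _ (fun e => hi ?_),
      fun i hi => B.single_ne _ (fun e => hi (e ▸ rfl)), ?_⟩
    · subst e; simp [deg]; omega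
    rintro ⟨q, m⟩ (rfl : m = n)
    rw [D_apply]
    have h1 : B.vP (B.single (p, m) y) (q, m) = 0 := by
      rcases m with _ | m
      · rfl
      · simp only [vP, B.single_ne _ (show (q, m) ≠ (p, m + 1) by simp), map_zero]
    rw [h1, smul_zero, add_zero]
    by_cases hq : q = p + 1
    · subst hq; simp [hP, B.single_self, hy]
    · rw [hk (q, m) (by simp [deg]; omega)]
      rcases q with _ | q
      · rfl
      · simp [hP, B.single_ne _ (show (q, m) ≠ (p, m) by simp; omega)]
  · have hz : ∀ i, x i = 0 := by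
      rintro ⟨q, m⟩
      by_cases hm : m = n
      · subst hm
        by_cases hd : q + m = k
        · obtain rfl : q = 0 := by omega
          exact hc.1 _ (hcyc 0)
        · exact hk _ hd
      · exact hx _ hm
    exact ⟨0, fun _ _ => rfl, fun _ _ => rfl, fun i _ => by rw [map_zero, hz i]; rfl⟩

/-- Exact columns give an exact total complex. -/
theorem exact_of_cols (h : ∀ p, B.ColExact p) : B.Exact :=
  B.filtFst.totExact fun p => B.slice_of_colExact (h p)

/-- Exact rows give an exact total complex. -/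
theorem exact_of_rows (h : ∀ n, B.RowExact n) : B.Exact :=
  B.filtSnd.totExact fun n => B.slice_of_rowExact (h n)

/-- If the total complex and the columns of positive index are exact, so is the column `0`. -/
theorem colExact_zero (hB : B.Exact) (h : ∀ p, B.ColExact (p + 1)) : B.ColExact 0 :=
  B.colExact_of_slice <| B.filtFst.slice_zero hB fun a ha => by
    obtain ⟨p, rfl⟩ : ∃ p, a = p + 1 := ⟨a - 1, by omega⟩
    exact B.slice_of_colExact (h p)

end Bi

end Groth.Agent.CohDesc82
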